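import Cfsg.Agent.H91.Q5C

/-! Non-normal essential subgroups of small order: the abelian configuration of order `p³`. -/

set_option autoImplicit false

namespace Cfsg.Agent.H91.Q5

open Subgroup Cfsg.Agent.SR3
open scoped commutatorElement

universe u

variable {G : Type u} [Group G] [Finite G] {p : ℕ} [hp : Fact p.Prime]
  {S E N N₂ Z K M X Y : Subgroup G} {x : G}

theorem loc_max (hS : IsPGroup p S) (hF : (groupFusionSystem S).IsSaturated p) (h1 : X ≤ S)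
    (h : ∀ g, cj g X ≤ S → Nat.card ↥(S ⊓ nm (cj g X)) ≤ Nat.card ↥(S ⊓ nm X)) :
    Loc p (S ⊓ nm X) X := loc_of hS hF ⟨h1, fun Q hQ => by
  obtain ⟨-, h2, g, rfl⟩ := H92.isConj_group_iff.1 hQ
  exact h g h2⟩

theorem loc_normal (hS : IsPGroup p S) (hF : (groupFusionSystem S).IsSaturated p) (h1 : X ≤ S)
    (h : S ≤ nm X) : Loc p S X := by
  have := loc_max hS hF h1 fun g _ => by
    rw [inf_eq_left.2 h]; exact card_le_of_le inf_le_left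
  rwa [inf_eq_left.2 h] at this

theorem setup (hS : IsPGroup p S) (hF : (groupFusionSystem S).IsSaturated p)
    (hE : (groupFusionSystem S).IsEssential p E)
    (hr : Nat.card E ≤ p ^ 3 * Nat.card (Phi E)) (hn : ¬ S ≤ nm E) :
    ∃ γ N, N ≤ S ∧ Par p N (cj γ E) ∧ Loc p (S ⊓ nm N) N ∧ ¬ S ⊓ nm N ≤ N ∧
      ∀ g, cj g (cj γ E) ≤ S → Nat.card ↥(S ⊓ nm (cj g (cj γ E))) ≤ Nat.card N := by
  have hES : E ≤ S := hE.1.1
  have hP := par_of hS hF hE hr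
  have hNS : S ⊓ nm E ≤ S := inf_le_left
  obtain ⟨f, hf, hfn⟩ := sat_exists_fullyNormalized hS hF hNS
  obtain ⟨-, -, γ, hγ⟩ := M_group_iff.1 hf
  rw [(im_congr fun x hx => hγ x ⟨hNS hx, le_normalizer hx⟩).trans (im_conj γ _)] at hfn
  have hlt : ¬ S ≤ cj γ (S ⊓ nm E) := fun h => hn ((eq_of_le_of_card_le hNS
    ((card_le_of_le h).trans (card_cj _ _).le)).ge.trans inf_le_right)
  refine ⟨γ, _, hfn.1, hP.conj' γ, loc_of hS hF hfn,
    (lt_normalizerIn hS (lt_of_le_not_ge hfn.1 hlt)).not_ge, fun g hg => ?_⟩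
  rw [card_cj]
  exact hE.2.1.2 _ (H92.isConj_group_iff.2 ⟨hES, hg, g * γ, (cj_cj g γ E).symm⟩)

omit hp in
theorem hfn_of (h : Par p N E) (h1 : N ≤ S)
    (h2 : ∀ g, cj g E ≤ S → Nat.card ↥(S ⊓ nm (cj g E)) ≤ Nat.card N) :
    ∀ b ∈ nm N, S ⊓ nm (cj b E) ≤ N := fun b hb => (eq_of_le_of_card_le
  (le_inf h1 (h.conj hb).norm) (h2 b ((h.conj hb).le.trans h1))).ge

theorem card_ge (h : Par p N E) : p ^ 2 ≤ Nat.card E := by
  by_contra e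
  obtain ⟨k, hk⟩ := (h.pg.to_le h.le).exists_card_eq
  rw [hk, Nat.pow_le_pow_iff_right hp.out.one_lt] at e
  refine h.nc (h.toLoc.tr_of_card le_rfl bot_le le_rfl (fun _ _ => nm_bot) ?_)
  rw [hk, card_bot, mul_one]
  exact (Nat.pow_le_pow_right hp.out.pos (by omega)).trans (pow_one p).le

/-- The second centre of a group that is not abelian modulo `Y`. -/
theorem eq_St (hX : IsPGroup p X) (h1 : M ≤ X) (h2 : X ≤ St M Y) (h3 : X ≤ nm Y)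
    (hc : Nat.card X ≤ p * (p * Nat.card M)) {a b : G} (ha : a ∈ X) (hb : b ∈ X)
    (hab : ⁅a, b⁆ ∉ Y) : X ⊓ St X Y = M := by
  have l : M ≤ X ⊓ St X Y := le_inf h1 (le_St_symm h2 (h1.trans h3))
  by_contra e
  have c := hc.trans (Nat.mul_le_mul_left _
    (mul_card_le (hX.to_le inf_le_left) (lt_of_le_of_ne l (Ne.symm e))))
  by_cases hx : a ∈ X ⊓ St X Y
  · exact hab (hx.2.2 b hb)
  · exact hab ((mem_St_gen hX inf_le_left c h3 (le_St_symm inf_le_right h3 ha) ha hx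
      (by simp)).2 b hb)

/-- The configuration above an abelian parabolic of order `p³`. -/
structure Ab (p : ℕ) (N₂ N E Z K M : Subgroup G) (x : G) : Prop where
  pg : IsPGroup p N₂
  l1 : K ≤ Z
  l2 : Z ≤ M
  l3 : M ≤ N
  l4 : N ≤ N₂
  c1 : Nat.card K = p
  c2 : Nat.card Z = p * Nat.card K
  c3 : Nat.card M = p * Nat.card Z
  c4 : Nat.card N = p * Nat.card M
  c5 : Nat.card N₂ = p * Nat.card N
  eZ : Z = N ⊓ ce N
  inf : M ⊓ E = Z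
  comm : N ≤ St N K
  n1 : nm N ≤ nm K
  n3 : nm N ≤ nm M
  n4 : N₂ ≤ nm N
  xE : x ∈ E
  xN : x ∈ N
  xM : x ∉ ce M
  fix : ∀ s ∈ N₂, s ∉ N → ⁅x, s⁆ ∉ Z
  tor : ∀ l m : ℤ, (p : ℤ) ∣ l * m - 1 → ∃ t ∈ nm N₂, t ∈ nm N ∧ Wt t N₂ N (l ^ 3) ∧ Wt t N M m ∧
    Wt t M Z (l ^ 2) ∧ Wt t Z K 1 ∧ Wt t K ⊥ l

theorem exists_ab (h : Par p N E) (hL : Loc p N₂ N) (hne : ¬ N₂ ≤ N)
    (hfn : ∀ b ∈ nm N, N₂ ⊓ nm (cj b E) ≤ N) (hc : Nat.card E = p ^ 3) (ha : E ≤ ce E) :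
    ∃ K M x, Ab p N₂ N E (N ⊓ ce N) K M x := by
  have pE := h.pg.to_le h.le
  obtain ⟨s, hs, hs'⟩ := SetLike.not_le_iff_exists.1 hne
  have h' := h.conj (hL.norm hs)
  have ne : E ≠ cj s E := fun e => hs' (hfn s (hL.norm hs) ⟨hs, e ▸ mem_nm_iff.2 e.symm⟩)
  have ha' : cj s E ≤ ce (cj s E) := cj_ce s E ▸ cj_mono s ha
  have nc : ¬ E ≤ N ⊓ ce N := fun e => AL.not_le h.card
    (le_inf le_rfl (ce_symm (e.trans inf_le_right)) |>.trans h.ce_le)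
  have e1 : N ⊓ ce N = E ⊓ cj s E := eq_of_card' pE (le_inf (inf_le_left.trans h.le)
    (ce_symm (h.sup_eq h' ne ▸ sup_le (ha.trans (centralizer_le inf_le_left))
      (ha'.trans (centralizer_le inf_le_right))))) (AL.Zle h) (h.card_inf h' ne).le nc
  have c1 : Nat.card E = p * Nat.card ↥(N ⊓ ce N) := e1 ▸ h.card_inf h' ne
  have c2 : Nat.card ↥(N ⊓ ce N) = p ^ 2 :=
    Nat.eq_of_mul_eq_mul_left hp.out.pos (by rw [← c1, hc]; ring)
  obtain ⟨z, hA⟩ := al_of h.pg (by rw [h.card, c1]; ring) c2.le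
  obtain ⟨D, hD⟩ := AL.exists_DD h hA
  have d1 := hD.le.trans (AL.Zle h)
  have cD : Nat.card D = p := Nat.eq_of_mul_eq_mul_left (pow_pos hp.out.pos 2)
    (by rw [← hD.card, hc]; ring)
  have zp := (mem_Zo.1 hA.mem).2
  have cK := card_zpowers_eq zp fun e => hD.nmem (e ▸ one_mem D)
  have k2 : zpowers z ≤ N ⊓ ce N := zpowers_le.2 (Zo_le hA.mem)
  have n2 : nm N ≤ nm (N ⊓ ce N) := fun g hg => nm_inf hg (nm_ce hg)
  have k1 := AL.nm_z hA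
  obtain ⟨M, hU⟩ := exists_up h hL hne hfn d1 hD.inv hD.card hD.pw hD.ntr cD.le
    (eq_of_le_of_card_le (le_inf (AL.Zle h) (inf_le_right.trans (ce_le_St le_rfl (d1.trans h.le))))
      (by rw [(card_Z h d1 hD.inv hD.card hD.ntr).2.2, c2, cD, sq])) n2 k1 k2
    (by rw [c2, cK, sq]) cK.le
  obtain ⟨x, hx, hx'⟩ := exists_not_mem c1
  have xM : x ∉ M := fun e => hx' (hU.inf ▸ ⟨e, hx⟩)
  refine ⟨_, M, x, hL.pg, k2, hU.ZM, hU.MN, hL.le, cK, by rw [c2, cK, sq], hU.cM, hU.cN, hU.cN₂,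
    rfl, hU.inf, le_St (le_normalizer.trans k1) hA.comm, k1, hU.nM, hL.norm, hx, h.le hx,
    fun e => hx' ⟨h.le hx, mem_ce_gen h.pg hU.MN hU.cN.le e (h.le hx) xM (by simp)⟩,
    fun s hs hs' e => xM (hU.fix s hs hs' ▸ ⟨h.le hx, mem_St_one.2
      ⟨n2 (le_normalizer (h.le hx)), e⟩⟩), fun l m hlm => hU.tor l m hlm 1 l fun t ht tD w => ?_⟩
  refine ⟨wt_one_of_St ?_, fun y hy => AL.inf_bot zp hD.nmem (mul_mem (conj_mem (k1 ht) hy)
    (inv_mem (zpow_mem hy _))) (w y (k2 hy))⟩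
  rw [← hD.sup]
  exact mem_St_sup_zpowers ((d1.trans h.le).trans (le_normalizer.trans k1))
    (le_normalizer (mem_zpowers z)) ⟨k1 ht, fun y hy => comm_of_ce tD hy ▸ one_mem _⟩
    (comm_mem_of_nm (k1 ht) (mem_zpowers z))

namespace Ab

variable (h : Ab p N₂ N E Z K M x)
include h

omit [Finite G] hp in
theorem n2 : nm N ≤ nm Z := fun _ hg => h.eZ ▸ nm_inf hg (nm_ce hg)
omit [Finite G] hp in
theorem L3 : M ≤ N₂ := h.l3.trans h.l4
omit [Finite G] hp in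
theorem L2 : Z ≤ N₂ := h.l2.trans h.L3
omit [Finite G] hp in
theorem L1 : K ≤ N₂ := h.l1.trans h.L2
omit [Finite G] hp in
theorem ceZ : N ≤ ce Z := ce_symm (h.eZ.le.trans inf_le_right)

theorem s1 : N₂ ≤ St K ⊥ := le_St_of_card h.pg bot_le h.L1 (h.n4.trans h.n1)
  (fun _ _ => nm_bot) (by simp [h.c1])
theorem s2 : N₂ ≤ St Z K :=
  le_St_of_card h.pg h.l1 h.L2 (h.n4.trans h.n2) (h.n4.trans h.n1) h.c2.le
theorem s3 : N₂ ≤ St M Z :=
  le_St_of_card h.pg h.l2 h.L3 (h.n4.trans h.n3) (h.n4.trans h.n2) h.c3.le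
theorem s4 : N₂ ≤ St N M := le_St_of_card h.pg h.l3 h.l4 h.n4 (h.n4.trans h.n3) h.c4.le

theorem abM : M ≤ ce M :=
  ab_of_idx (h.pg.to_le h.L3) h.l2 h.c3.le (ce_symm (h.l3.trans h.ceZ))

theorem xM' : x ∉ M := fun e => h.xM (h.abM e)

theorem sM (ho : p ≠ 2) : N₂ ≤ St M K := le_St (h.n4.trans h.n1) fun a ha b hb => by
  by_contra e
  obtain ⟨t, -, -, w1, -, w2, w3, -⟩ := h.tor (-1) (-1) (by simp)
  have := wt_dvd w1 w2 w3 h.l4 h.l2 (h.comm.trans (St_anti h.l3))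
    (le_St_symm h.s2 (h.L2.trans (h.n4.trans h.n1))) (fun a ha => (h.s3 ha).2) h.s2
    (h.L3.trans h.s2) (fun _ => pow_mem_of_card (h.pg.to_le h.L2) h.l1 h.c2.le) ha hb e
  exact ho ((Nat.prime_dvd_prime_iff_eq hp.out Nat.prime_two).1
    (Int.natCast_dvd_natCast.1 (dvd_neg.1 this)))

theorem three (ho : p ≠ 2) (hn : ¬ N₂ ≤ ce Z) : p = 3 := by
  obtain ⟨a, ha, ha'⟩ := SetLike.not_le_iff_exists.1 hn
  obtain ⟨b, hb, e⟩ : ∃ b ∈ Z, ⁅a, b⁆ ≠ 1 := by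
    by_contra e
    push Not at e
    exact ha' (mem_ce_of e)
  obtain ⟨k, hk⟩ := hp.out.odd_of_ne_two ho
  obtain ⟨t, -, -, w1, -, -, w2, w3⟩ := h.tor 2 (k + 1) ⟨1, by rw [hk]; push_cast; ring⟩
  have := wt_dvd w1 w2 w3 h.l4 h.l1 (h.ceZ.trans (St_ce _).ge)
    (le_St_symm h.s1 fun _ _ => nm_bot) (fun a ha => (h.s2 ha).2) h.s1 (h.L2.trans h.s1)
    (fun _ => pow_mem_of_card (h.pg.to_le h.L1) bot_le (by simp [h.c1])) ha hb e
  have : p ∣ 2 * 3 := Int.natCast_dvd_natCast.1 this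
  exact (Nat.prime_dvd_prime_iff_eq hp.out Nat.prime_three).1 (((Nat.Prime.dvd_mul hp.out).1
    this).resolve_left fun e => ho ((Nat.prime_dvd_prime_iff_eq hp.out Nat.prime_two).1 e))

theorem not_ce (ho : p ≠ 2) (na : NA p N₂) : ¬ N₂ ≤ ce Z := fun hn => by
  obtain ⟨y, hy, hy'⟩ := exists_not_mem h.c3
  have pM := h.pg.to_le h.L3
  have c := idx (Z := ⊥) (fun _ _ => nm_bot) (fun g hg => (h.sM ho hg).2 y hy) bot_le
  rw [card_bot, h.c1, mul_one, mul_comm] at c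
  have k : N₂ ⊓ St {y} ⊥ ≤ ce M := fun g hg =>
    mem_ce_gen pM h.l2 h.c3.le (hn hg.1) hy hy' (mem_St_one.1 hg.2).2
  have nx : ¬ N₂ ≤ N₂ ⊓ St {y} ⊥ := fun e => h.xM (k (e (h.l4 h.xN)))
  refine nx (na.not h.pg inf_le_left (ab_of_idx (h.pg.to_le inf_le_left) (fun g hg => ⟨h.L3 hg,
    mem_St_one.2 ⟨nm_bot, comm_of_ce (h.abM hg) hy⟩⟩) ?_ (ce_symm k)) c)
  refine Nat.le_of_mul_le_mul_left ?_ hp.out.pos
  rw [← h.c4, ← h.c5]
  exact mul_card_le h.pg (lt_of_le_not_ge inf_le_left nx)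

end Ab

end Cfsg.Agent.H91.Q5
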