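import Cfsg.Agent.H91.Root6
import Cfsg.Agent.H85.SLSyl

/-! The standard adapted Sylow `2`-subgroups of `SL_n(q)`. -/

set_option autoImplicit false
set_option linter.unusedSectionVars false

namespace Cfsg.Agent.H91.Rt

open Matrix Equiv
open scoped MatrixGroups

section Val

variable {q : ℕ}

theorem val_pow_odd (h1 : 1 < q) (hq : Odd q) (j : ℕ) :
    padicValNat 2 (q ^ (2 * j + 1) - 1) = padicValNat 2 (q - 1) := by
  obtain ⟨r, hr⟩ := hq
  rcases (by omega : q % 4 = 1 ∨ q % 4 = 3) with h | h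
  · rw [H85.val2_pow_one_mod h1 h (by omega), H85.val2_eq_zero (odd_two_mul_add_one j), add_zero]
  · rw [H85.val2_pow_three_mod h (odd_two_mul_add_one j), H85.val2_eq_one (by omega)]

theorem val_gl_even (h1 : 1 < q) (hq : Odd q) (m : ℕ) :
    padicValNat 2 (∏ i : Fin (2 * m), (q ^ (2 * m) - q ^ (i : ℕ))) =
      m * (padicValNat 2 (q - 1) + padicValNat 2 (q ^ 2 - 1)) + padicValNat 2 m.factorial := by
  induction m with
  | zero => simp
  | succ m ih =>
    have e1 := H85.val2_gl_succ h1 hq (2 * m + 1)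
    have e2 := H85.val2_gl_succ h1 hq (2 * m)
    have e3 := H85.val2_pow_even h1 hq (j := m + 1) (by omega)
    have e4 := val_pow_odd h1 hq m
    have e5 : padicValNat 2 (m + 1).factorial =
        padicValNat 2 (m + 1) + padicValNat 2 m.factorial := by
      rw [Nat.factorial_succ, padicValNat.mul (by omega) (Nat.factorial_ne_zero m)]
    change padicValNat 2 (∏ i : Fin (2 * m + 1 + 1), (q ^ (2 * m + 1 + 1) - q ^ (i : ℕ))) = _
    change padicValNat 2 (q ^ (2 * m + 1 + 1) - 1) = _ at e3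
    rw [e1, e2, ih, e3, e4, e5]
    ring

end Val

variable {F : Type*} [Field F]

theorem odd_card [Fintype F] (h2 : (2 : F) ≠ 0) : Odd (Fintype.card F) :=
  Nat.odd_iff.2 (FiniteField.odd_card_of_char_ne_two fun h => h2 (by
    have := ringChar.spec F 2
    rw [h] at this
    exact_mod_cast this.2 dvd_rfl))

section Std

variable (F) (m : ℕ)

/-- the standard frames -/
def sA (j : Fin m) : Matrix (Fin 2 × Fin m) (Fin 2) F := fun p b => if p = (b, j) then 1 else 0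

/-- the standard frames -/
def sB (j : Fin m) : Matrix (Fin 2) (Fin 2 × Fin m) F := fun b p => if p = (b, j) then 1 else 0

variable {F m}

theorem mul_sA {ι : Type*} (X : Matrix ι (Fin 2 × Fin m) F) (j : Fin m) (a : ι) (b : Fin 2) :
    (X * sA F m j) a b = X a (b, j) := by
  simp [Matrix.mul_apply, sA]

theorem sB_mul {ι : Type*} (X : Matrix (Fin 2 × Fin m) ι F) (j : Fin m) (a : Fin 2) (b : ι) :
    (sB F m j * X) a b = X (a, j) b := by
  simp [Matrix.mul_apply, sB]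

theorem sA_mul {ι : Type*} (X : Matrix (Fin 2) ι F) (j : Fin m) (p : Fin 2 × Fin m) (b : ι) :
    (sA F m j * X) p b = if p.2 = j then X p.1 b else 0 := by
  obtain ⟨a, i⟩ := p
  by_cases h : i = j <;> simp [Matrix.mul_apply, sA, h]

theorem mul_sB {ι : Type*} (X : Matrix ι (Fin 2) F) (j : Fin m) (a : ι) (p : Fin 2 × Fin m) :
    (X * sB F m j) a p = if p.2 = j then X a p.1 else 0 := by
  obtain ⟨b, i⟩ := p
  by_cases h : i = j <;> simp [Matrix.mul_apply, sB, h]

theorem sB_sA (j : Fin m) : sB F m j * sA F m j = 1 := by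
  ext a b; simp [sB_mul, sA, one_apply]

theorem sB_sA_ne {i j : Fin m} (h : i ≠ j) : sB F m i * sA F m j = 0 := by
  ext a b; simp [sB_mul, sA, h]

theorem sum_sA_sB : ∑ j, sA F m j * sB F m j = 1 := by
  ext ⟨a, i⟩ ⟨b, j⟩
  simp [Matrix.sum_apply, sA_mul, sB, one_apply, eq_comm]

theorem bd_sA (f : Fin m → Matrix (Fin 2) (Fin 2) F) (j : Fin m) :
    blockDiagonal f * sA F m j = sA F m j * f j := by
  ext ⟨a, i⟩ b
  rw [mul_sA, sA_mul, blockDiagonal_apply']
  split_ifs with h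
  · rw [h]
  · rfl

theorem sB_bd (f : Fin m → Matrix (Fin 2) (Fin 2) F) (j : Fin m) :
    sB F m j * blockDiagonal f = f j * sB F m j := by
  ext a ⟨b, i⟩
  rw [sB_mul, mul_sB, blockDiagonal_apply']
  simp only [eq_comm]

theorem pm_sA (σ : Perm (Fin m)) (j : Fin m) :
    H85.pmHom (Fin 2) (Fin m) F σ * sA F m j = sA F m (σ j) := by
  ext ⟨a, i⟩ b
  rw [mul_sA, H85.pmHom_apply]
  simp [Perm.permMatrix, PEquiv.toMatrix_apply, H85.sndPerm, sA, Equiv.symm_apply_eq]

theorem sB_pm (σ : Perm (Fin m)) (j : Fin m) :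
    sB F m (σ j) * H85.pmHom (Fin 2) (Fin m) F σ = sB F m j := by
  ext a ⟨b, i⟩
  rw [sB_mul, H85.pmHom_apply]
  simp [Perm.permMatrix, PEquiv.toMatrix_apply, H85.sndPerm, sB, eq_comm]

theorem ext_s (j : Fin m) (k : Matrix (Fin 2) (Fin 2) F) :
    ext (sA F m j) (sB F m j) k = blockDiagonal (Pi.mulSingle j k) := by
  ext ⟨a, i⟩ ⟨b, l⟩
  rw [ext, Matrix.add_apply, mul_sB, sA_mul, blockDiagonal_apply']
  by_cases h1 : i = l
  · subst h1
    by_cases h2 : i = j
    · subst h2; simp [one_apply]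
    · simp [one_apply, h2]
  · by_cases h2 : l = j
    · subst h2; simp [h1]
    · simp [h1, h2]

theorem val_β (f : Fin m → GL (Fin 2) F) :
    ((H85.glWD (Fin 2) (Fin m) F).β f).1 = blockDiagonal fun i => (f i).1 :=
  rfl

theorem val_σ (σ : Perm (Fin m)) :
    ((H85.glWD (Fin 2) (Fin m) F).σ σ).1 = H85.pmHom (Fin 2) (Fin m) F σ := rfl

end Std

theorem ext_ext {κ ι ι' : Type*} [Fintype κ] [DecidableEq κ] [Fintype ι] [DecidableEq ι]
    [Fintype ι'] [DecidableEq ι'] (E : Matrix κ ι F) (E' : Matrix ι κ F) (A : Matrix ι ι' F)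
    (B : Matrix ι' ι F) (k : Matrix ι' ι' F) :
    ext E E' (ext A B k) = ext (E * A) (B * E') k := by
  simp only [ext, add_sub_cancel_left, Matrix.mul_assoc]

theorem sylIn_comap_toGL [Finite F] {κ : Type*} [Fintype κ] [DecidableEq κ]
    {W : Subgroup (GL κ F)} (hW : SylIn 2 W ⊤) :
    SylIn 2 (W.comap (SpecialLinearGroup.toGL : SpecialLinearGroup κ F →* GL κ F)) ⊤ := by
  have h1 := hW.inf_normal (N := (GeneralLinearGroup.det : GL κ F →* Fˣ).ker)
    fun a _ n hn => (MonoidHom.normal_ker _).conj_mem n hn a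
  rw [top_inf_eq, ← H9.toGL_range_eq_ker_det, inf_comm, ← Subgroup.map_comap_eq] at h1
  refine sylIn_of_card_eq le_top ?_
  rw [← Subgroup.card_map_of_injective SpecialLinearGroup.toGL_injective, h1.card_eq,
    MonoidHom.range_eq_map, Subgroup.card_map_of_injective SpecialLinearGroup.toGL_injective]

theorem sl2_nab [Finite F] (h2 : (2 : F) ≠ 0) {Q : Subgroup SL(2, F)} (hQ : SylIn 2 Q ⊤) :
    ∃ k ∈ Q, ∃ k' ∈ Q, k * k' ≠ k' * k := by
  have := Fintype.ofFinite F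
  obtain ⟨S, rfl⟩ := hQ.exists_sylow_top
  obtain ⟨n, x, y, hn, -, ox, mx', my, e, -⟩ := H66.exists_sylow_two_gens
    (odd_card h2) S
  refine ⟨y, my, x, mx', fun h => ?_⟩
  rw [h, mul_inv_cancel_right] at e
  have : x ^ 2 = 1 := by rw [sq]; nth_rewrite 1 [e]; exact inv_mul_cancel x
  have h1 := Nat.le_of_dvd two_pos (orderOf_dvd_of_pow_eq_one this)
  rw [ox] at h1
  have : 2 ^ (1 + 1) ≤ 2 ^ (n + 1) := Nat.pow_le_pow_right two_pos (by omega)
  omega

theorem exists_nsq [Finite F] (h2 : (2 : F) ≠ 0) {D : Subgroup (GL (Fin 2) F)}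
    (hD : SylIn 2 D ⊤) : ∃ d ∈ D, ¬ IsSquare (d : Matrix (Fin 2) (Fin 2) F).det := by
  obtain ⟨a, ha⟩ := FiniteField.exists_nonsquare (F := F) fun h => h2 (by
      have := ringChar.spec F 2
      rw [h] at this
      exact_mod_cast this.2 dvd_rfl)
  have a0 : a ≠ 0 := by rintro rfl; exact ha ⟨0, by simp⟩
  obtain ⟨k, o, ⟨j, rfl⟩, e⟩ := Nat.exists_eq_two_pow_mul_odd (orderOf_pos (Units.mk0 a a0)).ne'
  have h1 := hD.map (GeneralLinearGroup.det : GL (Fin 2) F →* Fˣ)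
  rw [Subgroup.map_top_of_surjective _ GeneralLinearGroup.det_surjective] at h1
  obtain ⟨d, hd, ed⟩ := mem_of_normalizes h1 (x := Units.mk0 a a0 ^ (2 * j + 1)) (n := k)
    (by rw [← pow_mul, mul_comm, ← e, pow_orderOf_eq_one]) (by
      rw [Subgroup.normalizer_eq_top]; trivial)
  refine ⟨d, hd, fun ⟨s, hs⟩ => ha ⟨s / a ^ j, ?_⟩⟩
  have := congrArg Units.val ed
  rw [GeneralLinearGroup.val_det_apply, hs, Units.val_pow_eq_pow_val, Units.val_mk0] at this
  rw [div_mul_div_comm, this, eq_div_iff (mul_ne_zero (pow_ne_zero _ a0) (pow_ne_zero _ a0))]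
  ring

theorem sys_of_embed [Finite F] (h2 : (2 : F) ≠ 0) {κ : Type*} [Fintype κ] [DecidableEq κ]
    {m : ℕ} (D : Sylow 2 (GL (Fin 2) F)) (T₀ : Sylow 2 (Perm (Fin m)))
    {E : Matrix κ (Fin 2 × Fin m) F} {E' : Matrix (Fin 2 × Fin m) κ F} (hE : E' * E = 1)
    (res : ∃ (A₀ : Matrix κ Unit F) (B₀ : Matrix Unit κ F), E * E' + A₀ * B₀ = 1)
    {T : Subgroup (SpecialLinearGroup κ F)} (syl : SylIn 2 T ⊤)
    (h1 : ∀ t ∈ T, ∃ g ∈ (H85.glWD (Fin 2) (Fin m) F).W D T₀,
      mx t * E = E * g.1 ∧ E' * mx t = g.1 * E')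
    (h3 : ∀ g ∈ (H85.glWD (Fin 2) (Fin m) F).W D T₀, g.1.det = 1 → ∀ t,
      mx t = ext E E' g.1 → t ∈ T)
    (h4 : ∀ j, ∀ d ∈ D, ∃ t ∈ T, ∃ f : Fin m → GL (Fin 2) F, f j = d ∧
      mx t * E = E * ((H85.glWD (Fin 2) (Fin m) F).β f).1 ∧
      E' * mx t = ((H85.glWD (Fin 2) (Fin m) F).β f).1 * E') :
    Sys T T₀ (fun j => E * sA F m j) (fun j => sB F m j * E') := by
  have fr : Frs (fun j => E * sA F m j) (fun j => sB F m j * E') := by
    refine ⟨fun i => ?_, fun i j h => ?_, ?_⟩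
    · rw [Matrix.mul_assoc, cancelBA hE, sB_sA]
    · rw [Matrix.mul_assoc, cancelBA hE, sB_sA_ne h]
    · obtain ⟨A₀, B₀, e⟩ := res
      refine ⟨A₀, B₀, ?_⟩
      rw [← e]
      congr 1
      conv_rhs => rw [← Matrix.mul_one E, ← sum_sA_sB, Matrix.mul_sum, Matrix.sum_mul]
      simp only [Matrix.mul_assoc]
  have mv : ∀ {t : SpecialLinearGroup κ F} {f : Fin m → Matrix (Fin 2) (Fin 2) F}
      {σ : Perm (Fin m)}, mx t * E = E * (blockDiagonal f * H85.pmHom (Fin 2) (Fin m) F σ) →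
      E' * mx t = blockDiagonal f * H85.pmHom (Fin 2) (Fin m) F σ * E' →
      Mv (fun j => E * sA F m j) (fun j => sB F m j * E') t σ := fun {t f σ} e1 e2 j => by
    show mx t * (E * sA F m j * (sB F m j * E')) = E * sA F m (σ j) * (sB F m (σ j) * E') * mx t
    rw [← Matrix.mul_assoc, ← Matrix.mul_assoc (mx t), e1, Matrix.mul_assoc _ _ (mx t),
      Matrix.mul_assoc _ _ (mx t), e2, Matrix.mul_assoc E, Matrix.mul_assoc (blockDiagonal f),
      pm_sA, bd_sA, ← Matrix.mul_assoc (sB F m (σ j)), ← Matrix.mul_assoc (sB F m (σ j)), sB_bd,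
      Matrix.mul_assoc (f (σ j)), sB_pm]
    simp only [Matrix.mul_assoc]
  refine ⟨fr, syl, fun t ht => ?_, fun σ hσ => ?_, fun j => ?_, fun j => ?_⟩
  · obtain ⟨g, hg, e1, e2⟩ := h1 t ht
    obtain ⟨f, -, σ, hσ, rfl⟩ := (H85.WD.mem_W _).1 hg
    exact ⟨σ, hσ, mv e1 e2⟩
  · have hd : (H85.pmHom (Fin 2) (Fin m) F σ).det = 1 := by
      rw [H85.det_pmHom, Fintype.card_fin, Int.units_sq]; simp
    refine ⟨sl (ext E E' (H85.pmHom (Fin 2) (Fin m) F σ)) (by rw [det_ext hE, hd]),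
      h3 _ (H85.WD.σ_mem_W _ _ hσ) hd _ rfl, mv (f := 1) ?_ ?_⟩
    · rw [mx_sl, ext_mul_A hE, blockDiagonal_one, one_mul]
    · rw [mx_sl, B_mul_ext hE, blockDiagonal_one, one_mul]
  · obtain ⟨k, hk, k', hk', e⟩ := sl2_nab h2 (sylIn_comap_toGL (sylIn_top D))
    have key : ∀ k : SL(2, F), SpecialLinearGroup.toGL k ∈ (D : Subgroup (GL (Fin 2) F)) →
        root (fr.one j) k ∈ T := fun k hk => by
      have e1 : ((H85.glWD (Fin 2) (Fin m) F).β (Pi.mulSingle j (SpecialLinearGroup.toGL k))).1 =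
          ext (sA F m j) (sB F m j) (mx k) := by
        rw [val_β, ext_s]
        congr 1
        funext i
        by_cases h : i = j
        · subst h; rw [Pi.mulSingle_eq_same, Pi.mulSingle_eq_same]; rfl
        · rw [Pi.mulSingle_eq_of_ne h, Pi.mulSingle_eq_of_ne h]; rfl
      exact h3 _ (H85.WD.single_mem_W _ _ j hk) (by rw [e1, det_ext (sB_sA j), det_mx]) _
        (by rw [e1, ext_ext, mx_root])
    exact ⟨k, k', key k hk, key k' hk', e⟩
  · obtain ⟨d, hd, hn⟩ := exists_nsq h2 (sylIn_top D)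
    obtain ⟨t, ht, f, rfl, e1, e2⟩ := h4 j d hd
    rw [val_β] at e1 e2
    refine ⟨t, ht, mv (σ := 1) (by rw [map_one, mul_one]; exact e1)
      (by rw [map_one, mul_one]; exact e2) j, ?_⟩
    rw [Matrix.mul_assoc (sB F m j), e2, Matrix.mul_assoc, Matrix.mul_assoc, cancelBA hE, bd_sA,
      cancelBA (sB_sA j)]
    exact hn

theorem val_card_gl [Fintype F] {κ : Type*} [Fintype κ] [DecidableEq κ] {n : ℕ}
    (h : Fintype.card κ = n) : (Nat.card (GL κ F)).factorization 2 =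
      padicValNat 2 (∏ i : Fin n, (Fintype.card F ^ n - Fintype.card F ^ (i : ℕ))) := by
  rw [← H85.factorization_card_gl]
  congr 2
  exact Nat.card_congr (Units.mapEquiv (Matrix.reindexAlgEquiv F F
    (Fintype.equivFinOfCardEq h)).toRingEquiv.toMulEquiv).toEquiv

theorem sylIn_W [Finite F] (h2 : (2 : F) ≠ 0) {m : ℕ} (D : Sylow 2 (GL (Fin 2) F))
    (T₀ : Sylow 2 (Perm (Fin m))) : SylIn 2 ((H85.glWD (Fin 2) (Fin m) F).W D T₀) ⊤ := by
  have := Fintype.ofFinite F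
  have h1 := Fintype.one_lt_card (α := F)
  have hq := odd_card h2
  refine sylIn_of_card_eq le_top ?_
  rw [H85.WD.card_W, D.card_eq_multiplicity, T₀.card_eq_multiplicity, Subgroup.card_top,
    val_card_gl (κ := Fin 2 × Fin m) (n := 2 * m) (by simp), val_gl_even h1 hq,
    val_card_gl (κ := Fin 2) (n := 2 * 1) (by simp), val_gl_even h1 hq, Nat.card_perm,
    Nat.factorization_def _ Nat.prime_two, ← pow_mul, ← pow_add]
  simp [mul_comm]

theorem exists_sys_even [Finite F] (h2 : (2 : F) ≠ 0) {m : ℕ} (hm : 2 ≤ m) :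
    ∃ (T : Subgroup (SpecialLinearGroup (Fin 2 × Fin m) F)) (T₀ : Sylow 2 (Perm (Fin m)))
      (A : Fin m → Matrix _ (Fin 2) F) (B : Fin m → Matrix (Fin 2) _ F), Sys T T₀ A B := by
  obtain ⟨D⟩ : Nonempty (Sylow 2 (GL (Fin 2) F)) := inferInstance
  obtain ⟨T₀⟩ : Nonempty (Sylow 2 (Perm (Fin m))) := inferInstance
  refine ⟨_, T₀, _, _, sys_of_embed h2 D T₀ (E := 1) (E' := 1) (mul_one _) ⟨0, 0, by simp⟩
    (sylIn_comap_toGL (sylIn_W h2 D T₀)) (fun t ht => ⟨_, ht, ?_, ?_⟩) (fun g hg _ t e => ?_)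
    fun j d hd => ?_⟩
  · rw [mul_one, one_mul]; rfl
  · rw [mul_one, one_mul]; rfl
  · have : SpecialLinearGroup.toGL t = g := Units.ext (by
      refine Eq.trans e ?_
      simp [ext])
    exact Subgroup.mem_comap.2 (this ▸ hg)
  · obtain ⟨l, hl⟩ := Fintype.exists_ne_of_one_lt_card (α := Fin m) (by rw [Fintype.card_fin]; omega) j
    let f : Fin m → GL (Fin 2) F := Pi.mulSingle j d * Pi.mulSingle l d⁻¹
    have hdet : ((H85.glWD (Fin 2) (Fin m) F).β f).1.det = 1 := by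
      have e1 : ∀ i (d : GL (Fin 2) F),
          ((H85.glWD (Fin 2) (Fin m) F).β (Pi.mulSingle i d)).1.det = d.1.det := fun i d => by
        rw [val_β, det_blockDiagonal, Finset.prod_eq_single i
          (fun b _ hb => by rw [Pi.mulSingle_eq_of_ne hb]; exact det_one)
          (fun h => absurd (Finset.mem_univ i) h), Pi.mulSingle_eq_same]
      rw [map_mul, Units.val_mul, det_mul, e1, e1, ← det_mul, ← Units.val_mul, mul_inv_cancel,
        Units.val_one, det_one]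
    refine ⟨sl _ hdet, Subgroup.mem_comap.2 ?_, f, ?_, ?_, ?_⟩
    · have : SpecialLinearGroup.toGL (sl _ hdet) = (H85.glWD (Fin 2) (Fin m) F).β f :=
        Units.ext rfl
      rw [this, map_mul]
      exact Subgroup.mul_mem _ (H85.WD.single_mem_W _ _ j hd)
        (H85.WD.single_mem_W _ _ l (Subgroup.inv_mem _ hd))
    · simp only [f, Pi.mul_apply, Pi.mulSingle_eq_same, Pi.mulSingle_eq_of_ne hl.symm, mul_one]
    · rw [mul_one, one_mul, mx_sl]
    · rw [mul_one, one_mul, mx_sl]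

theorem exists_sys_odd [Finite F] (h2 : (2 : F) ≠ 0) (m : ℕ) :
    ∃ (T : Subgroup (SpecialLinearGroup ((Fin 2 × Fin m) ⊕ Unit) F)) (T₀ : Sylow 2 (Perm (Fin m)))
      (A : Fin m → Matrix _ (Fin 2) F) (B : Fin m → Matrix (Fin 2) _ F), Sys T T₀ A B := by
  have := Fintype.ofFinite F
  obtain ⟨D⟩ : Nonempty (Sylow 2 (GL (Fin 2) F)) := inferInstance
  obtain ⟨T₀⟩ : Nonempty (Sylow 2 (Perm (Fin m))) := inferInstance
  have hW := sylIn_W h2 D T₀
  have e0 : ∀ g : GL (Fin 2 × Fin m) F, mx (H85.glToSl _ F g) = fromBlocks g.1 0 0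
      (diagonal fun _ => ((GeneralLinearGroup.det g)⁻¹ : Fˣ)) := fun _ => rfl
  let E : Matrix ((Fin 2 × Fin m) ⊕ Unit) (Fin 2 × Fin m) F := fromRows 1 0
  let E' : Matrix (Fin 2 × Fin m) ((Fin 2 × Fin m) ⊕ Unit) F := fromCols 1 0
  have e1 : ∀ g : GL (Fin 2 × Fin m) F, mx (H85.glToSl _ F g) * E = E * g.1 := fun g => by
    simp only [E]
    rw [e0, fromBlocks_mul_fromRows, fromRows_mul]; simp
  have e2 : ∀ g : GL (Fin 2 × Fin m) F, E' * mx (H85.glToSl _ F g) = g.1 * E' := fun g => by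
    simp only [E']
    rw [e0, fromCols_mul_fromBlocks, mul_fromCols]; simp
  refine ⟨((H85.glWD (Fin 2) (Fin m) F).W D T₀).map (H85.glToSl _ F), T₀, _, _,
    sys_of_embed h2 D T₀ (E := E) (E' := E')
    (by simp only [E, E']; rw [fromCols_mul_fromRows]; simp) ⟨fromRows 0 1, fromCols 0 1, ?_⟩ ?_ ?_
    (fun g hg hd t e => ⟨g, hg, mx_inj ?_⟩) fun j d hd => ⟨_, ⟨_, H85.WD.single_mem_W _ _ j hd, rfl⟩,
      _, by rw [Pi.mulSingle_eq_same], e1 _, e2 _⟩⟩
  · simp only [E, E']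
    rw [fromRows_mul_fromCols, fromRows_mul_fromCols, fromBlocks_add, ← fromBlocks_one]; simp
  · have h1 := Fintype.one_lt_card (α := F)
    have hq := odd_card h2
    refine sylIn_of_card_eq le_top ?_
    rw [Subgroup.card_map_of_injective (H85.glToSl_injective _ F), hW.card_eq, Subgroup.card_top,
      Subgroup.card_top]
    congr 1
    have h4 := congrArg (fun n => n.factorization 2)
      (H9.card_units_mul_card_sl (ι := (Fin 2 × Fin m) ⊕ Unit) (R := F))
    rw [Nat.factorization_mul Nat.card_pos.ne' Nat.card_pos.ne', Finsupp.add_apply,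
      val_card_gl (n := 2 * m + 1) (by simp), H85.val2_gl_succ h1 hq, val_pow_odd h1 hq,
      Nat.card_units, Nat.card_eq_fintype_card, Nat.factorization_def _ Nat.prime_two] at h4
    rw [val_card_gl (n := 2 * m) (by simp)]
    omega
  · rintro _ ⟨g, hg, rfl⟩
    exact ⟨g, hg, e1 g, e2 g⟩
  · have : GeneralLinearGroup.det g = 1 := Units.ext hd
    simp only [E, E'] at e
    rw [e, e0, this, ext, fromRows_mul, fromRows_mul_fromCols, ← fromBlocks_one, fromBlocks_add]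
    simp

end Cfsg.Agent.H91.Rt
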