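import Cfsg.Agent.H91.Cent

/-! A normal subsystem with trivial centralizer whose underlying group has no `p'`-automorphism in
the ambient system has `p`-power index. -/

namespace Cfsg.Agent.H91

open Cfsg.FusionSystem H93 H94

variable {Ω : Type*} [Group Ω] {S T : Subgroup Ω} {F : FusionSystem S} {E : FusionSystem T}
  {p : ℕ} [Finite S] [Fact p.Prime] (hS : IsPGroup p S) (hE : E.IsNormalIn F p)
  (hC : centE F E = ⊥) (hA : ∀ a, M F T a → PP p T a → ∀ x ∈ T, a x = x)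

include hS hE hC hA

theorem rigid_fix {R : Subgroup Ω} (hR : T ≤ R) {β : Ω → Ω} (hβ : M F R β) (hp : PP p R β) :
    ∀ x ∈ R, β x = x := by
  have hT := H92.normalIn_sc hE
  have h1 : ∀ x ∈ T, β x = x :=
    hA β (hβ.restrict hR) (hp.restrict hR fun x hx => hβ.mem_of_stronglyClosed hT (hR hx) hx)
  refine PP.fix_of_chain (H := centralizerIn S T) (isPGroup_of_le hS hβ.le) hp hβ.homOn
    (fun x hx => ?_) fun x hx hx' => ?_
  · refine ⟨S.mul_mem (S.inv_mem (hβ.le hx)) (hβ.mem hx),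
      Subgroup.mem_centralizer_iff.2 fun t ht => ?_⟩
    have e1 := hβ.map_conj hx (hR ht)
    rw [h1 _ (conj_mem_of_stronglyClosed hT (hβ.le hx) ht), h1 t ht] at e1
    have : t * (x⁻¹ * β x) = x⁻¹ * (x * t * x⁻¹) * β x := by group
    rw [this, e1]; group
  · have hc : CM F T (R ⊓ centralizerIn S T) β := hβ.toCM hR h1 inf_le_left inf_le_right
    have := mem_centE_of_CM hS hE hc ⟨hx, hx'⟩
    rw [hC, Subgroup.mem_bot, inv_mul_eq_one] at this
    exact this.symm

theorem rigid_inner {R : Subgroup Ω} (hR : T ≤ R) {f : Ω → Ω} (hf : M F R f) :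
    ∃ s ∈ S, ∀ x ∈ R, f x = s * x * s⁻¹ := by
  have hT := H92.normalIn_sc hE
  have hF : F.IsSaturated p := hE.1.2.1
  have hn := fullyNormalized_of_stronglyClosed hT
  have hN := normFS_saturated hS hF hn
  have hle : normalizerIn S T ≤ S := normalizerIn_le S T
  have := finite_of_le hle
  have hNp := isPGroup_of_le hS hle
  have hTN : (normFS F hn.1).IsNormal T := normal_in_norm hn.1 rfl fun _ _ => M_normFS hn.1
  have hsub : (normFS F hn.1).IsSubsystemOf (innerFusionSystem S) := by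
    refine sub_of_coprime hNp hN hle fun P hP α hα hc => ?_
    obtain ⟨h1, h2, -⟩ := centric_radical_of_alp hNp hN hP
    have hTP := normal_le_centric_radical hNp hTN h1 h2
    have hM := ((M_normFS hn.1).1 ((mem_autGroup_iff h1.1).1 hα)).toM
    exact (M.id _ hM.le).congr fun x hx =>
      (rigid_fix hS hE hC hA hTP hM (pp_efn_iff.2 hc) x hx).symm
  have h1 : M (normFS F hn.1) R f := (M_normFS hn.1).2 (hf.toNM hR
    (hf.im_eq_of_stronglyClosed hT hR) le_rfl
    (by rw [normalizerIn_eq_of_le (le_normalizer_of_stronglyClosed hT)]; exact hf.le))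
  exact (M_inner_iff.1 (M.of_sub hsub h1)).2

theorem rigid_hyp_le : F.hyperfocalSubgroup p ≤ T := by
  have hT := H92.normalIn_sc hE
  have hn : (T.subgroupOf S).Normal :=
    (Subgroup.normal_subgroupOf_iff_le_normalizer hT.1).2 (le_normalizer_of_stronglyClosed hT)
  let θ : S →* S ⧸ T.subgroupOf S := QuotientGroup.mk' _
  have hθ := homOn_fn θ
  have hker : ∀ x ∈ S, fn θ x = 1 ↔ x ∈ T := fun x hx => by
    rw [fn_of_mem θ hx]
    exact (QuotientGroup.eq_one_iff _).trans Subgroup.mem_subgroupOf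
  have hD : PredData S (fun P f => M F P f ∧ ∃ γ, ∀ x ∈ P, fn θ (f x) = γ * fn θ x * γ⁻¹) := by
    refine PredData.of_sub F (fun h => h.1) (fun h => h.1.le) (fun h _ hx => h.1.mem hx)
      ?_ ?_ ?_ ?_
    · rintro P f g ⟨h, γ, e⟩ e'
      exact ⟨h.congr e', γ, fun x hx => by rw [← e' x hx, e x hx]⟩
    · intro P g hP hg
      exact ⟨M.conj F hP hg, fn θ g, fun x hx => hθ.map_conj hg (hP hx)⟩
    · rintro P Q f g ⟨hg, γ, e⟩ ⟨hf, δ, e'⟩ hm
      refine ⟨hg.comp hf hm, γ * δ, fun x hx => ?_⟩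
      show fn θ (g (f x)) = _
      rw [e _ (hm x hx), e' x hx]; group
    · rintro P f g ⟨hf, γ, e⟩ hg eg
      refine ⟨hg, γ⁻¹, fun y hy => ?_⟩
      obtain ⟨x, hx, rfl⟩ := hf.homOn.mem_im.1 hy
      rw [eg x hx, e x hx]; group
  have key := alperin_kAut hS hE.1 hD.fs (fun R hR hRS α hα => ?_) fun R hRS _ _ β hβ _ => ?_
  · have := hyp_le_ker (F := F) (hS.to_quotient _) θ fun P hP α hα =>
      (hD.M_iff.1 (key P _ ((mem_autGroup_iff hP).1 hα))).2
    refine this.trans ?_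
    rintro _ ⟨x, hx, rfl⟩
    exact (QuotientGroup.eq_one_iff x).1 hx
  · have hM := (mem_autGroup_iff hRS).1 hα
    obtain ⟨s, hs, e⟩ := rigid_inner hS hE hC hA hR hM
    exact hD.M_iff.2 ⟨hM, fn θ s, fun x hx => by rw [e x hx, hθ.map_conj hs (hRS hx)]⟩
  · have hM := (mem_autGroup_iff hRS).1 hβ.1
    refine hD.M_iff.2 ⟨hM, 1, fun x hx => ?_⟩
    have h1 := (hker _ (hT.1 (hβ.2.1 x hx))).2 (hβ.2.1 x hx)
    rw [hθ.map_mul (S.inv_mem (hRS hx)) (hM.mem hx), hθ.map_inv (hRS hx), inv_mul_eq_one] at h1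
    rw [← h1]; group

theorem rigid_eq (hh : F.hyperfocalSubgroup p = S) : T = S ∧ ∀ P f, M F P f → M E P f := by
  have hT := H92.normalIn_sc hE
  have e : T = S := le_antisymm hT.1 (hh ▸ rigid_hyp_le hS hE hC hA)
  refine ⟨e, fun P f hf => ?_⟩
  have hP : P ≤ T := e ▸ hf.le
  obtain ⟨a, f₀, ha, -, hf₀, ef⟩ := frattini_of_strongInv hS hE.1.2.1 (H92.normalIn_sub hE) hT
    (strongInv_of_invariant hE.1.2.2) hP hf
  obtain ⟨s, hs, es⟩ := rigid_inner hS hE hC hA le_rfl ha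
  exact (hf₀.conj_comp (e ▸ hs : s ∈ T)).congr fun x hx => by
    rw [ef x hx, es _ (hf₀.mem hx)]

end Cfsg.Agent.H91
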