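import Cfsg.Agent.H91.Root7
import Cfsg.Agent.H91.Rigid
import Cfsg.Agent.H92.Iso3

/-! The `2`-fusion system of `PSL_n(q)`, `q` odd, has no automorphism of odd order (apart from
`PSL_2(q)` with `q ≡ ±3 mod 8`). -/

set_option autoImplicit false
set_option linter.unusedSectionVars false

namespace Cfsg.Agent.H91.Rt

open Matrix Equiv
open scoped MatrixGroups

section General

variable {Ω : Type*} [Group Ω] {L : Type*} [Group L]

/-- conjugacy preserving automorphisms of odd order are trivial -/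
def RigidOn (T : Subgroup L) : Prop := ∀ a b, FA T a b → PP 2 T a → ∀ x ∈ T, a x = x

theorem RigidOn.pull {T' : Subgroup L} (h : RigidOn T') {T : Subgroup Ω} {j : Ω → L} {k : L → Ω}
    (hj : H92.GIso T T' j k) {a b : Ω → Ω} (hab : H92.GIso T T a b)
    (ca : ∀ x ∈ T, ∀ y ∈ T, IsConj (j x) (j y) → IsConj (j (a x)) (j (a y)))
    (cb : ∀ x ∈ T, ∀ y ∈ T, IsConj (j x) (j y) → IsConj (j (b x)) (j (b y)))
    (hp : PP 2 T a) : ∀ x ∈ T, a x = x := by
  have key : ∀ {a b : Ω → Ω}, H92.GIso T T a b → HomOn T' fun y => j (a (k y)) := fun h =>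
    hj.hj.comp (h.hj.comp hj.hk hj.mk') fun y hy => h.mj _ (hj.mk' y hy)
  have h1 := h (fun y => j (a (k y))) (fun y => j (b (k y)))
    ⟨⟨key hab, key hab.symm, fun y hy => hj.mj _ (hab.mj _ (hj.mk' y hy)),
      fun y hy => hj.mj _ (hab.mk' _ (hj.mk' y hy)), fun y hy => by
        show j (b (k (j (a (k y))))) = y
        rw [hj.kj _ (hab.mj _ (hj.mk' y hy)), hab.kj _ (hj.mk' y hy), hj.jk y hy],
      fun y hy => by
        show j (a (k (j (b (k y))))) = y
        rw [hj.kj _ (hab.mk' _ (hj.mk' y hy)), hab.jk _ (hj.mk' y hy), hj.jk y hy]⟩,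
      fun x hx y hy e => ca _ (hj.mk' x hx) _ (hj.mk' y hy) (by rwa [hj.jk x hx, hj.jk y hy]),
      fun x hx y hy e => cb _ (hj.mk' x hx) _ (hj.mk' y hy) (by rwa [hj.jk x hx, hj.jk y hy])⟩
    (by
      obtain ⟨hm, o, ho, hper⟩ := hp
      refine ⟨fun y hy => hj.mj _ (hm _ (hj.mk' y hy)), o, ho, fun y hy => ?_⟩
      have : ∀ n, (fun y => j (a (k y)))^[n] y = j (a^[n] (k y)) := by
        intro n
        induction n with
        | zero => exact (hj.jk y hy).symm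
        | succ n ih =>
          rw [Function.iterate_succ_apply', Function.iterate_succ_apply', ih]
          show j (a (k (j _))) = _
          rw [hj.kj _ (iter_mem hm n _ (hj.mk' y hy))]
      rw [this, hper _ (hj.mk' y hy), hj.jk y hy])
  intro x hx
  have h2 : j (a (k (j x))) = j x := h1 _ (hj.mj x hx)
  rw [hj.kj x hx] at h2
  exact hj.injOn (hab.mj x hx) hx h2

theorem RigidOn.of_sylIn [Finite L] {T T' : Subgroup L} (h : RigidOn T') (hT' : SylIn 2 T' ⊤)
    (hT : SylIn 2 T ⊤) : RigidOn T := by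
  obtain ⟨g, -, hg⟩ := hT'.exists_conj_mem hT.isPGroup le_top
  have hi : Set.InjOn (fun x => g * x * g⁻¹) T := fun x _ y _ e =>
    mul_left_cancel (mul_right_cancel e)
  have him : im (fun x => g * x * g⁻¹) T = T' := eq_of_le_of_card_le (im_le_iff.2 hg)
    (by rw [(homOn_conj T g).card_im hi, hT.card_eq_card hT'])
  obtain ⟨k, hk⟩ := H92.gIso_of_injOn (homOn_conj T g) hi
  rw [him] at hk
  have c : ∀ x y : L, IsConj (g * x * g⁻¹) (g * y * g⁻¹) ↔ IsConj x y := fun x y =>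
    ⟨fun e => ((_root_.isConj_iff.2 ⟨g, rfl⟩).trans e).trans (_root_.isConj_iff.2 ⟨g, rfl⟩).symm,
      fun e => ((_root_.isConj_iff.2 ⟨g, rfl⟩).symm.trans e).trans (_root_.isConj_iff.2 ⟨g, rfl⟩)⟩
  intro a b G hp
  exact h.pull hk G.g (fun x hx y hy e => (c _ _).2 (G.ca x hx y hy ((c _ _).1 e)))
    (fun x hx y hy e => (c _ _).2 (G.cb x hx y hy ((c _ _).1 e))) hp

open Cfsg.FusionSystem in
theorem RigidOn.fix_of_realized {S T : Subgroup Ω} [Finite S] {F : FusionSystem S}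
    {E : FusionSystem T} (hE : E.IsInvariantIn F) {ι : T →* L} (hι : E.IsRealizedBy ι)
    (h : RigidOn ι.range) {a : Ω → Ω} (ha : M F T a) (hp : PP 2 T a) : ∀ x ∈ T, a x = x := by
  obtain ⟨k, hk⟩ := H92.gIso_fn ι hι.1
  have hM := (H92.isRealizedBy_iff.1 hι).2
  have key : ∀ {a : Ω → Ω}, M F T a → ∀ x ∈ T, ∀ y ∈ T, IsConj (fn ι x) (fn ι y) →
      IsConj (fn ι (a x)) (fn ι (a y)) := fun {a} ha x hx y hy e => by
    obtain ⟨g, hg⟩ := _root_.isConj_iff.1 e
    have hz : Subgroup.zpowers x ≤ T := Subgroup.zpowers_le_of_mem hx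
    have e1 : ∀ u ∈ Subgroup.zpowers x, g * fn ι u * g⁻¹ ∈ ι.range := by
      rintro _ ⟨i, rfl⟩
      show g * fn ι (x ^ i) * g⁻¹ ∈ ι.range
      rw [hk.hj.map_zpow hx, ← conj_zpow, hg]
      exact Subgroup.zpow_mem _ (hk.mj y hy) i
    have hf : M E (Subgroup.zpowers x) fun u => k (g * fn ι u * g⁻¹) :=
      (hM _ _).2 ⟨hz, fun u hu => hk.mk' _ (e1 u hu), g, fun u hu => hk.jk _ (e1 u hu)⟩
    obtain ⟨χ, hχ, eχ⟩ := strongInv_of_invariant hE _ T _ a hf hz le_rfl
      (fun u hu => hf.mem hu) ha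
    obtain ⟨-, -, g', hg'⟩ := (hM _ _).1 hχ
    refine _root_.isConj_iff.2 ⟨g', ?_⟩
    rw [← hg' _ (mem_im_of_mem a (Subgroup.mem_zpowers x)), eχ x (Subgroup.mem_zpowers x), hg,
      hk.kj y hy]
  obtain ⟨b, hb, -, e1, e2, e3⟩ := ha.exists_inv' hp.im_eq
  exact h.pull hk ⟨ha.homOn, hb.homOn, hp.1, e2, e1, e3⟩ (key ha) (key hb) hp

end General

variable {F : Type*} [Field F]

theorem mem_center_iff' {κ : Type*} [Fintype κ] [DecidableEq κ] {g : SpecialLinearGroup κ F} :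
    g ∈ Subgroup.center (SpecialLinearGroup κ F) ↔ ∃ c : F, mx g = c • 1 := by
  refine ⟨fun h => ?_, fun ⟨c, hc⟩ => Subgroup.mem_center_iff.2 fun h => mx_inj ?_⟩
  · obtain ⟨r, -, hr⟩ := Matrix.SpecialLinearGroup.mem_center_iff.1 h
    exact ⟨r, hr.symm.trans (by rw [scalar_apply, smul_one_eq_diagonal])⟩
  · rw [mx_mul, mx_mul, hc, mul_smul_comm, smul_mul_assoc, mul_one, one_mul]

theorem exists_proj {κ ι : Type*} [Fintype κ] [DecidableEq κ] [Fintype ι] [DecidableEq ι]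
    (e : κ ≃ ι) : ∃ π : SpecialLinearGroup κ F →* ProjectiveSpecialLinearGroup ι F, Proj π := by
  refine ⟨(QuotientGroup.mk' _).comp (H9.slReindexEquiv e).toMonoidHom,
    (QuotientGroup.mk'_surjective _).comp (H9.slReindexEquiv e).surjective, fun g => ?_⟩
  rw [← mem_center_iff']
  refine (QuotientGroup.eq_one_iff _).trans ?_
  rw [← H9.map_center_eq (H9.slReindexEquiv e)]
  exact Subgroup.mem_map_iff_mem (H9.slReindexEquiv e).injective

theorem rigid_psl [Finite F] (h2 : (2 : F) ≠ 0) {n : ℕ} (hn : 3 ≤ n)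
    {T : Subgroup (ProjectiveSpecialLinearGroup (Fin n) F)} (hT : SylIn 2 T ⊤) : RigidOn T := by
  rcases Nat.even_or_odd' n with ⟨m, rfl | rfl⟩
  · obtain ⟨T', T₀, A, B, H⟩ := exists_sys_even h2 (m := m) (by omega)
    obtain ⟨π, hπ⟩ := exists_proj (F := F)
      (Fintype.equivFinOfCardEq (α := Fin 2 × Fin m) (n := 2 * m) (by simp))
    have h3 : 3 ≤ Fintype.card (Fin 2 × Fin m) := by simpa using hn
    exact RigidOn.of_sylIn (fun a b G hp => H.fix_all h2 hπ h3 G hp) (H.sylL h2 hπ h3) hT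
  · obtain ⟨T', T₀, A, B, H⟩ := exists_sys_odd h2 m
    obtain ⟨π, hπ⟩ := exists_proj (F := F)
      (Fintype.equivFinOfCardEq (α := (Fin 2 × Fin m) ⊕ Unit) (n := 2 * m + 1) (by simp))
    have h3 : 3 ≤ Fintype.card ((Fin 2 × Fin m) ⊕ Unit) := by simpa using hn
    exact RigidOn.of_sylIn (fun a b G hp => H.fix_all h2 hπ h3 G hp) (H.sylL h2 hπ h3) hT

theorem rigid_psl_two [Fintype F] (hq : Fintype.card F % 8 = 1 ∨ Fintype.card F % 8 = 7)
    {T : Subgroup (ProjectiveSpecialLinearGroup (Fin 2) F)} (hT : SylIn 2 T ⊤) : RigidOn T := by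
  have hodd : Odd (Fintype.card F) := Nat.odd_iff.2 (by omega)
  have h2 : (2 : F) ≠ 0 := fun h => by
    have h1 : ringChar F = 2 := ringChar.eq_iff.2 ((CharP.charP_iff_prime_eq_zero Nat.prime_two).2
      (by exact_mod_cast h))
    have := FiniteField.even_card_of_char_two h1
    omega
  obtain ⟨π, hπ⟩ := exists_proj (F := F) (Equiv.refl (Fin 2))
  obtain ⟨Q⟩ : Nonempty (Sylow 2 SL(2, F)) := inferInstance
  have hS := (sylIn_top Q).map π
  rw [Subgroup.map_top_of_surjective _ hπ.surj] at hS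
  refine RigidOn.of_sylIn (fun a b G hp => ?_) hS hT
  obtain ⟨k, x, y, -, hc, ox, mx', my, e, hall⟩ := H66.exists_sylow_two_gens hodd Q
  have hk : 2 ≤ k := by
    rw [H85.card_sylow_sl2 hodd] at hc
    have h1 := Nat.pow_right_injective le_rfl hc
    have h0 := Fintype.one_lt_card (α := F)
    have h3 : 2 ^ 4 ∣ Fintype.card F ^ 2 - 1 := by
      refine (Nat.modEq_iff_dvd' (Nat.one_le_pow _ _ (by omega))).1 ?_
      have : Fintype.card F % 16 = 1 ∨ Fintype.card F % 16 = 9 ∨ Fintype.card F % 16 = 7 ∨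
        Fintype.card F % 16 = 15 := by omega
      rcases this with h | h | h | h <;> simp [Nat.ModEq, Nat.pow_mod, h]
    have := (padicValNat_dvd_iff_le (H85.pow_sub_one_ne_zero h0 two_ne_zero)).1 h3
    omega
  have pm : ∀ {s : SL(2, F)}, π s = 1 ↔ s = 1 ∨ s = -1 := fun {s} => by
    refine ⟨fun h => ?_, ?_⟩
    · obtain ⟨c, hc⟩ := (hπ.ker s).1 h
      refine eq_or_neg_of_sq h2 (mx_inj ?_)
      have := det_mx s
      rw [hc, det_smul, det_one, mul_one, Fintype.card_fin] at this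
      rw [mx_mul, hc, smul_mul_assoc, one_mul, smul_smul, ← sq, this, one_smul, mx_one]
    · rintro (rfl | rfl)
      · exact map_one π
      · exact (hπ.ker _).2 ⟨-1, by rw [mx_neg, mx_one, neg_smul, one_smul]⟩
  have x4 : x ^ 4 ≠ 1 := fun h => by
    have h1 := Nat.le_of_dvd (by norm_num) (orderOf_dvd_of_pow_eq_one h)
    rw [ox] at h1
    have : 2 ^ (2 + 1) ≤ 2 ^ (k + 1) := Nat.pow_le_pow_right two_pos (by omega)
    omega
  have xy : x * y ≠ y * x := fun h => by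
    rw [← h, mul_inv_cancel_right] at e
    refine x4 ?_
    have : x * x = 1 := by nth_rewrite 1 [e]; exact inv_mul_cancel x
    rw [show x ^ 4 = x * x * (x * x) by simp only [pow_succ, pow_zero, one_mul, mul_assoc], this,
      one_mul]
  have e' : y * x = x⁻¹ * y := by rw [← e, inv_mul_cancel_right]
  have e'' : y * x⁻¹ = x * y := by
    rw [mul_inv_eq_iff_eq_mul, mul_assoc, e', mul_inv_cancel_left]
  have yy : π (y * y) = 1 := pm.2 (eq_or_neg_of_comm xy
    (by rw [mul_assoc, e', ← mul_assoc, e'', mul_assoc]) (mul_assoc _ _ _))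
  have inv : ∀ i : ℕ, π (y * x ^ i) * π (y * x ^ i) = 1 := fun i => by
    have : x ^ i * y * x ^ i = y := by
      have h1 : y * x ^ i * y⁻¹ = (x ^ i)⁻¹ := by rw [← conj_pow, e, inv_pow]
      rw [mul_assoc, mul_inv_eq_iff_eq_mul.1 h1, mul_inv_cancel_left]
    rw [← map_mul, mul_assoc, ← mul_assoc (x ^ i), this, yy]
  have ha := G.g.hj
  have mX : π x ∈ (Q : Subgroup SL(2, F)).map π := ⟨x, mx', rfl⟩
  have hW : Subgroup.zpowers (π x) ≤ (Q : Subgroup SL(2, F)).map π :=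
    Subgroup.zpowers_le_of_mem mX
  have mW : ∀ i : ℕ, π (x ^ i) ∈ Subgroup.zpowers (π x) := fun i => by
    rw [map_pow]; exact Subgroup.npow_mem_zpowers _ i
  have aX : a (π x) ∈ Subgroup.zpowers (π x) := by
    obtain ⟨s, hs, es⟩ := hp.1 _ mX
    obtain ⟨i, rfl | rfl⟩ := hall s hs
    · exact es ▸ mW i
    · exfalso
      have h1 := inv i
      rw [es, ← ha.map_mul mX mX] at h1
      have h3 := G.g.kj _ (Subgroup.mul_mem _ mX mX)
      rw [h1, G.g.hk.map_one, ← map_mul] at h3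
      refine x4 ?_
      rw [show x ^ 4 = x * x * (x * x) by simp only [pow_succ, pow_zero, one_mul, mul_assoc]]
      rcases pm.1 h3.symm with h | h
      · rw [h, one_mul]
      · rw [h, neg_mul_neg, one_mul]
  have pW : PP 2 (Subgroup.zpowers (π x)) a := hp.restrict hW (by
    rintro _ ⟨i, rfl⟩
    show a (π x ^ i) ∈ _
    rw [ha.map_zpow mX]
    exact Subgroup.zpow_mem _ aX i)
  have uq : ∀ u ∈ Subgroup.zpowers (π x), ∀ v ∈ Subgroup.zpowers (π x), u * u = 1 → v * v = 1 →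
      u ≠ 1 → v ≠ 1 → u = v := by
    rintro _ ⟨i, rfl⟩ _ ⟨j, rfl⟩ h1 h3 h4 h5
    simp only [← map_zpow, ← map_mul] at h1 h3 h4 h5 ⊢
    have s1 := (pm.1 h1).resolve_left fun h => h4 (pm.2 (eq_or_neg_of_sq h2 h))
    have s2 := (pm.1 h3).resolve_left fun h => h5 (pm.2 (eq_or_neg_of_sq h2 h))
    rw [← inv_mul_eq_one, ← map_inv, ← map_mul]
    refine pm.2 (eq_or_neg_of_sq h2 ?_)
    have c1 : x ^ j * (x ^ i)⁻¹ = (x ^ i)⁻¹ * x ^ j := by group
    rw [mul_assoc, ← mul_assoc (x ^ j), c1, mul_assoc, s2, ← mul_assoc, ← _root_.mul_inv_rev, s1, ← s1,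
      inv_mul_cancel]
  have fixW := fix_of_invol (isPGroup_of_le hS.isPGroup hW) (by
      rintro _ ⟨i, rfl⟩ _ ⟨j, rfl⟩
      exact zpow_mul_comm _ i j) pW (ha.mono hW) fun u hu e1 => by
    by_cases h1 : u = 1
    · rw [h1, ha.map_one]
    · refine uq _ (pW.1 u hu) _ hu (by rw [← ha.map_mul (hW hu) (hW hu), e1, ha.map_one]) e1
        (fun h3 => h1 ?_) h1
      rw [← G.g.kj u (hW hu), h3, G.g.hk.map_one]
  refine PP.fix_of_chain (H := Subgroup.zpowers (π x)) hS.isPGroup hp ha (fun u hu => ?_)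
    fun u _ hu => fixW u hu
  by_cases h1 : u ∈ Subgroup.zpowers (π x)
  · exact Subgroup.mul_mem _ (Subgroup.inv_mem _ h1) (pW.1 u h1)
  obtain ⟨s, hs, es⟩ := hp.1 u hu
  obtain ⟨s', hs', rfl⟩ := hu
  obtain ⟨i, rfl | rfl⟩ := hall s' hs'
  · exact absurd (mW i) h1
  obtain ⟨j, rfl | rfl⟩ := hall s hs
  · refine absurd ?_ h1
    have := fixW _ (mW j)
    rw [← G.g.injOn ⟨_, hs, rfl⟩ ⟨_, hs', rfl⟩ (this.trans es)]
    exact mW j
  · rw [← es, map_mul, map_mul, _root_.mul_inv_rev, mul_assoc, inv_mul_cancel_left]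
    exact Subgroup.mul_mem _ (Subgroup.inv_mem _ (mW i)) (mW j)

end Cfsg.Agent.H91.Rt
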