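import Cfsg.Agent.H91.Q5D
import Cfsg.Agent.SR3.TLem

/-! Fusion systems on groups of order `p⁵` without an abelian subgroup of index `p`. -/

set_option autoImplicit false

namespace Cfsg.Agent.H91.Q5

open Subgroup Cfsg.Agent.SR3
open scoped commutatorElement

universe u

variable {G : Type u} [Group G] [Finite G] {p : ℕ} [hp : Fact p.Prime]
  {S E N N₂ Z K M X Y : Subgroup G} {x : G}

theorem Ab.yo (h : Ab p S N E Z K M x) (ho : p ≠ 2) (na : NA p S) (hc : S ⊓ ce S ≤ N)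
    (hF : (groupFusionSystem S).IsSaturated p)
    (hfoc : S ≤ (groupFusionSystem S).focalSubgroup) : False := by
  have hn := h.not_ce ho na
  have h3 := h.three ho hn
  have sM := h.sM ho
  have pM := h.pg.to_le h.L3
  have nK := h.n4.trans h.n1
  have s1 := h.s1.trans (St_ce _).le
  have eK : S ⊓ ce S = K := eq_of_card' (h.pg.to_le h.L2) (le_inf h.L1 (ce_symm s1))
    (h.eZ ▸ le_inf hc (inf_le_right.trans (centralizer_le h.l4))) h.c2.le
    fun e => hn (ce_symm (e.trans inf_le_right))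
  obtain ⟨s, hs, hs'⟩ := exists_not_mem h.c5
  have xS := h.l4 h.xN
  have cK : ⁅x, s⁆ ∉ K := fun e => h.fix s hs hs' (h.l1 e)
  have eM := eq_St h.pg h.L3 sM nK (by rw [h.c5, h.c4]) xS hs cK
  have cM : ⁅x, s⁆ ∈ M := comm_symm ((h.s4 hs).2 x h.xN)
  have KM := h.l1.trans h.l2
  have pK : ∀ a ∈ K, a ^ p ∈ (⊥ : Subgroup G) := fun _ =>
    pow_mem_of_card (h.pg.to_le h.L1) bot_le (by simp [h.c1])
  have cp : ⁅x, s⁆ ^ p ∈ K := by
    have := comm_zpow (nK xS) (nK hs) ((sM xS).2 _ cM) ((sM hs).2 _ cM) p 1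
    rw [zpow_one, mul_one, zpow_natCast, zpow_natCast, mul_mem_cancel_left (comm_symm ((sM hs).2 _
      (pow_mem_of_card (h.pg.to_le h.l4) h.l3 h.c4.le h.xN))), inv_mem_iff] at this
    exact this
  have cR := card_sup_zpowers (nK (h.L3 cM)) cp cK
  have RM : K ⊔ zpowers ⁅x, s⁆ ≤ M := sup_le KM (zpowers_le.2 cM)
  have cR' : ⁅x, s⁆ ∈ K ⊔ zpowers ⁅x, s⁆ := mem_sup_right (mem_zpowers _)
  have m1 : nm S ≤ nm K := fun b hb => eK ▸ nm_inf hb (nm_ce hb)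
  have m3 : nm S ≤ nm M := fun b hb => eM ▸ nm_inf hb (nm_St hb (m1 hb))
  have sR := sM.trans (St_mono le_rfl le_sup_left RM)
  have nR : S ≤ nm (K ⊔ zpowers ⁅x, s⁆) := fun g hg => (sR hg).1
  have k : ∀ g ∈ S, ⁅g, x⁆ ∈ K ⊔ zpowers ⁅x, s⁆ → ⁅g, s⁆ ∈ K ⊔ zpowers ⁅x, s⁆ →
      g ∈ St S (K ⊔ zpowers ⁅x, s⁆) := fun g hg e1 e2 => mem_St_gen h.pg h.l4 h.c5.le nR
    (mem_St_gen (h.pg.to_le h.l4) h.l3 h.c4.le (h.l4.trans nR) (sR hg) h.xN h.xM' e1) hs hs' e2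
  have sS : S ≤ St S (K ⊔ zpowers ⁅x, s⁆) := fun g hg => k g hg
    (comm_symm ((k x xS (by simp) cR').2 g hg))
    (comm_symm ((k s hs (comm_symm cR') (by simp)).2 g hg))
  have m2 : nm S ≤ nm (K ⊔ zpowers ⁅x, s⁆) := fun b hb => mem_nm_of_conj fun y hy => by
    obtain ⟨a, ha, i, rfl⟩ := (mem_sup_zpowers (nK (h.L3 cM))).1 hy
    have := (sS (conj_mem hb xS)).2 _ (conj_mem hb hs)
    rw [← conj_comm] at this
    rw [← conj_mul, ← conj_zpow]
    exact mul_mem (mem_sup_left (conj_mem (m1 hb) ha)) (zpow_mem this i)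
  have KR : K ≤ K ⊔ zpowers ⁅x, s⁆ := le_sup_left
  generalize K ⊔ zpowers ⁅x, s⁆ = R at *
  have RS := RM.trans h.L3
  have pR := h.pg.to_le RS
  have c3 : Nat.card M = p * Nat.card R := by rw [h.c3, h.c2, cR]
  have nA : ¬ S ≤ ce R := fun e => cK (eK.le ⟨h.L3 cM, ce_symm e cR'⟩)
  have cA : Nat.card S = p * Nat.card ↥(S ⊓ ce R) := le_antisymm (St_ce R ▸ idx2 pR bot_le KR
    (by simp [h.c1]) cR.le (fun _ _ => nm_bot) h.s1 (sM.trans (St_anti RM)))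
    (mul_card_le h.pg (lt_of_le_not_ge inf_le_left fun e => nA (e.trans inf_le_right)))
  have MA : M ≤ S ⊓ ce R := le_inf h.L3 (h.abM.trans (centralizer_le RM))
  have cA' : Nat.card ↥(S ⊓ ce R) = p * Nat.card M :=
    Nat.eq_of_mul_eq_mul_left hp.out.pos (by rw [← cA, h.c5, h.c4])
  have pA := h.pg.to_le (inf_le_left (b := ce R))
  obtain ⟨a, ha, ha'⟩ := exists_not_mem cA'
  obtain ⟨w, hw, hw'⟩ := exists_not_mem c3
  obtain ⟨g, hg, hg'⟩ : ∃ g ∈ S, ⁅g, a⁆ ∉ K := by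
    by_contra e
    push Not at e
    exact ha' (eM.le ⟨ha.1, nK ha.1, fun g hg => comm_symm (e g hg)⟩)
  obtain ⟨g', hg2, hg2'⟩ : ∃ g ∈ S, ⁅g, ⁅x, s⁆⁆ ≠ 1 := by
    by_contra e
    push Not at e
    exact cK (eK.le ⟨h.L3 cM, mem_ce_of fun g hg => mem_bot.1 (comm_symm (mem_bot.2 (e g hg)))⟩)
  have aw : ⁅a, w⁆ ≠ 1 := fun e => na _ inf_le_left (ab_of_idx pA MA cA'.le (ce_symm
    (le_gen pA MA cA'.le h.abM ha ha' (mem_ce_gen pM RM c3.le ha.2 hw hw' e)))) cA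
  obtain ⟨H, H₀, a1, a2, a3, a4, u, hu, g, hg, hg', e⟩ := yosh h.pg hF hfoc m2 sS RS (h.L3 hw) hw'
    fun b hb => by
      have mA := nm_inf hb (nm_ce (m2 hb))
      obtain ⟨α, hα⟩ := exists_wt h.pg inf_le_left cA.le hb mA
      obtain ⟨β, hβ⟩ := exists_wt pA MA cA'.le mA (m3 hb)
      obtain ⟨γ, hγ⟩ := exists_wt pM RM c3.le (m3 hb) (m2 hb)
      obtain ⟨δ, hδ⟩ := exists_wt pR KR cR.le (m2 hb) (m1 hb)
      obtain ⟨ε, hε⟩ := exists_wt (h.pg.to_le h.L1) bot_le (by simp [h.c1]) (m1 hb) nm_bot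
      have sK := sM.trans (St_anti RM)
      have d1 := wt_dvd hα hβ hδ inf_le_left MA (le_St (inf_le_left.trans nK) fun y hy =>
          (mem_St_gen pA MA cA'.le (inf_le_left.trans nK) (sM hy.1) ha ha' (comm_symm
          ((mem_St_gen pA MA cA'.le (inf_le_left.trans nK) (sM ha.1) ha ha' (by simp)).2 y hy))).2)
        (le_St_symm sM (h.L3.trans nK)) (fun y hy z hz => (sS hy).2 z hz.1) sK
        (inf_le_left.trans sK) (fun _ => pow_mem_of_card pR KR cR.le) hg ha hg'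
      have d2 := wt_dvd hα hδ hε inf_le_left KR (inf_le_right.trans (St_ce _).ge)
        (le_St_symm h.s1 fun _ _ => nm_bot) (fun y hy => (sK hy).2) h.s1 (RS.trans h.s1) pK
        hg2 cR' hg2'
      have d3 := wt_dvd hβ hγ hε MA RM (h.abM.trans (St_ce _).ge)
        ((ce_symm inf_le_right).trans (St_ce _).ge) (fun y hy => (sM hy.1).2)
        (inf_le_left.trans h.s1) (h.L3.trans h.s1) pK ha hw aw
      have u1 := Wt.not_dvd hα mA (fun a => pow_mem_of_card h.pg inf_le_left cA.le) hg2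
        fun e => hg2' (comm_of_ce e.2 cR')
      have u2 := Wt.not_dvd hβ (m3 hb) (fun a => pow_mem_of_card pA MA cA'.le) ha ha'
      have d5 : (p : ℤ) ∣ (γ - α * α) * β := by
        have := dvd_sub (dvd_sub d3 d2) (d1.mul_left α)
        rwa [show β * γ - ε - (α * δ - ε) - α * (α * β - δ) = (γ - α * α) * β by ring] at this
      have d6 := ((Nat.prime_iff_prime_int.1 hp.out).dvd_or_dvd d5).resolve_right u2
      subst h3
      have := hγ.congr (j := 1) (fun a => pow_mem_of_card pM RM c3.le)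
        (by simpa using dvd_add d6 (sq_three u1)) w hw
      simpa [commutatorElement_def] using this
  have nH := le_nm_of_card h.pg a1 a2.le
  have l : ⁅H, H⁆ ≤ H₀ := commutator_le.2 a3
  obtain ⟨z, z1, z2, z3⟩ := exists_Zo h.pg (Y := ⁅H, H⁆) ((commutator_le.2 fun a ha b hb =>
    comm_mem_of_nm (le_normalizer ha) hb).trans a1) (fun g hg => TLem.nm_comm (nH hg) (nH hg))
    fun e => na H a1 (commutator_eq_bot_iff_le_centralizer.1 e) a2
  have f : K ≤ H₀ := le_gen (h.pg.to_le h.L1) bot_le (by simp [h.c1]) bot_le (eK.le (Zo_le z3)) z2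
    (l z1)
  subst h3
  exact e (norm_three a3 a4 hu (nH hg)
    (f ((sM (inv_mem hg)).2 _ (RM ((sS (inv_mem hg)).2 u (a1 hu))))))

theorem card_Phi (hE : IsPGroup p E) (ha : ¬ E ≤ ce E) : p ≤ Nat.card (Phi E) := by
  simpa using mul_card_le (hE.to_le Phi_le) (bot_lt_iff_ne_bot.2 fun e => ha fun a ha =>
    mem_ce_of fun b hb => mem_bot.1 (e ▸ comm_mem_Phi hE ha hb))

theorem case_ex (ho : p ≠ 2) (na : NA p S) (h : Par p N E) (hL : Loc p S N) (hne : ¬ S ≤ N)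
    (hfn : ∀ b ∈ nm N, S ⊓ nm (cj b E) ≤ N) (hc : Nat.card E = p ^ 3) (ha : ¬ E ≤ ce E) :
    False := by
  have pE := h.pg.to_le h.le
  obtain ⟨D, d1, d2, d3, d4, d5⟩ := exists_D h
    (by rw [hc, pow_succ]; exact Nat.mul_le_mul_left _ (card_Phi pE ha))
  have cD : Nat.card D = p :=
    Nat.eq_of_mul_eq_mul_left (pow_pos hp.out.pos 2) (by rw [← d3, hc]; ring)
  obtain ⟨l1, cE, cZ⟩ := card_Z h d1 d2 d3 d5
  have nD := h.norm.trans d2
  have s1 : N ≤ ce D := St_ce D ▸ le_St_of_card h.pg bot_le (d1.trans h.le) nD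
    (fun _ _ => nm_bot) (by simp [cD])
  have pZ := pE.to_le (inf_le_left (b := St N D))
  have nc : ¬ E ⊓ St N D ≤ ce E := fun e => ha (ab_of_idx pE inf_le_left cE.le e)
  have eD : N ⊓ ce N = D := eq_of_card' pZ (le_inf (d1.trans h.le) (ce_symm s1))
    (le_inf (AL.Zle h) (inf_le_right.trans (ce_le_St le_rfl (d1.trans h.le)))) cZ.le
    fun e => nc (e.trans (inf_le_right.trans (centralizer_le h.le)))
  have sl := h.St_le le_rfl d1 le_rfl d2 d5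
  have eZ : N ⊓ St N D = E ⊓ St N D := le_antisymm (le_inf
    ((inf_le_inf_left N (St_anti h.le)).trans sl) inf_le_right) (inf_le_inf_right _ h.le)
  have k1 : nm N ≤ nm D := fun g hg => eD ▸ nm_inf hg (nm_ce hg)
  have z1 : nm N ≤ nm (E ⊓ St N D) := fun g hg => eZ ▸ nm_inf hg (nm_St hg (k1 hg))
  obtain ⟨M, hU⟩ := exists_up h hL hne hfn d1 d2 d3 d4 d5 cD.le rfl z1 k1 l1 cZ.le cD.le
  obtain ⟨x, hx, hx'⟩ := exists_not_mem cE
  obtain ⟨y, hy, hy'⟩ := exists_not_mem hU.cM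
  obtain ⟨r, hr, hr'⟩ := SetLike.not_le_iff_exists.1 hne
  have aZ : E ⊓ St N D ≤ ce (E ⊓ St N D) := ab_of_idx pZ l1 cZ.le
    (ce_symm ((inf_le_left.trans h.le).trans s1))
  have hC : Ch p S D (E ⊓ St N D) M N x r := ⟨hL.pg, l1, hU.ZM, hU.MN, hL.le, cD, cZ, hU.cM, hU.cN,
    hU.cN₂, hL.norm.trans k1, hL.norm.trans z1, hL.norm.trans hU.nM, hL.norm, h.le hx,
    fun e => nc (ce_symm (le_gen pE inf_le_left cE.le aZ hx hx' e)),
    fun e => hy' (hU.inf.le ⟨hy, sl ⟨hU.MN hy, mem_St_gen pE inf_le_left cE.le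
      (le_normalizer.trans d2) (le_St_symm inf_le_right nD (hU.MN hy)) hx hx'
      (comm_symm (e.2 y hy))⟩⟩), hr,
    fun e => hx' (hU.inf.le ⟨(hU.fix r hr hr').le ⟨h.le hx, mem_St_one.2
      ⟨z1 (le_normalizer (h.le hx)), comm_symm e⟩⟩, hx⟩), na⟩
  obtain ⟨t, t1, t2, w1, -, w2, -, w3⟩ := hU.tor (-1) (-1) (by simp) (-1) 1 fun t ht tD w =>
    ⟨w, wt_one_of_St ((St_ce D).ge tD)⟩
  exact ho ((Nat.prime_dvd_prime_iff_eq hp.out Nat.prime_two).1 (Int.natCast_dvd_natCast.1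
    (dvd_neg.1 (hC.rel' t1 (hU.nM t2) (k1 t2) w1 w2 w3))))

theorem case_two (ho : p ≠ 2) (h7 : p ≠ 7) (na : NA p S) (hS : IsPGroup p S)
    (hF : (groupFusionSystem S).IsSaturated p) (hfoc : S ≤ (groupFusionSystem S).focalSubgroup)
    (h5 : Nat.card S = p ^ 5) (h : Par p N E) (hL : Loc p (S ⊓ nm N) N) (hne : ¬ S ⊓ nm N ≤ N)
    (hfn : ∀ b ∈ nm N, S ⊓ nm (cj b E) ≤ N) (hc : Nat.card E = p ^ 2) : False := by
  have pE := h.pg.to_le h.le
  have p0 := hp.out.pos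
  obtain ⟨D, d1, d2, d3, d4, d5⟩ := exists_D h (hc ▸ Nat.le_mul_of_pos_right _ Nat.card_pos)
  obtain rfl : D = ⊥ := card_eq_one.1
    (Nat.eq_of_mul_eq_mul_left (pow_pos p0 2) (by rw [← d3, hc, mul_one]))
  have eZ : N ⊓ ce N = E ⊓ St N ⊥ := by
    rw [St_ce]; exact le_antisymm (le_inf (AL.Zle h) inf_le_right) (inf_le_inf_right _ h.le)
  have cZ : Nat.card ↥(N ⊓ ce N) = p := by simpa [← eZ] using (card_Z h d1 d2 d3 d5).2.2
  obtain ⟨M, hU⟩ := exists_up h hL hne (fun b hb => (inf_le_inf_right _ inf_le_left).trans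
    (hfn b hb)) d1 d2 d3 d4 d5 (card_bot.le.trans p0) eZ (fun g hg => nm_inf hg (nm_ce hg))
    (fun _ _ => nm_bot) bot_le (by rw [cZ, card_bot, mul_one]) (card_bot.le.trans p0)
  have f1 : S ⊓ nm E ≤ N := by simpa only [cj_one] using hfn 1 (one_mem _)
  have z0 : S ⊓ nm N ≤ nm (N ⊓ ce N) := fun g hg => nm_inf hg.2 (nm_ce hg.2)
  have z1 : N ⊓ ce N ≤ ce N := inf_le_right
  have z2 : N ⊓ ce N ≤ N := inf_le_left
  have z3 : ∀ g ∈ N, g ∈ ce N → g ∈ N ⊓ ce N := fun g h1 h2 => ⟨h1, h2⟩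
  have n0 : S ⊓ nm N ≤ S := inf_le_left
  have n1 : ∀ g ∈ S, g ∈ nm N → g ∈ S ⊓ nm N := fun g h1 h2 => ⟨h1, h2⟩
  generalize N ⊓ ce N = Z at *
  generalize S ⊓ nm N = N₂ at *
  have p2 := hL.pg
  have cS : Nat.card S = p * Nat.card N₂ := by rw [h5, hU.cN₂, h.card, hc]; ring
  have n4 := le_nm_of_card hS n0 cS.le
  have M2 := hU.MN.trans hL.le
  have Z2 := z2.trans hL.le
  have pM := p2.to_le M2
  have s1 : N₂ ≤ St Z ⊥ := le_St_of_card p2 bot_le Z2 z0 (fun _ _ => nm_bot) (by simp [cZ])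
  have s2 : N₂ ≤ St M Z := le_St_of_card p2 hU.ZM M2 (hL.norm.trans hU.nM) z0 hU.cM.le
  obtain ⟨x, hx, hx'⟩ := exists_not_mem hU.cE
  have xN := h.le hx
  have xM : x ∉ M := fun e => hx' (hU.inf.le ⟨e, hx⟩)
  have fx : ∀ s ∈ N₂, s ∉ N → ⁅x, s⁆ ∉ Z := fun s hs hs' e => xM ((hU.fix s hs hs').le
    ⟨xN, mem_St_one.2 ⟨z0 (hL.le xN), e⟩⟩)
  have xc : x ∉ ce M := fun e => hx' (z3 x xN (mem_ce_gen h.pg hU.MN hU.cN.le e xN xM (by simp)))
  obtain ⟨s, hs, hs'⟩ := SetLike.not_le_iff_exists.1 hne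
  have eZ : N₂ ⊓ ce N₂ = Z := le_antisymm (fun g hg => z3 g (f1 ⟨n0 hg.1, ce_le_nm
    (h.le.trans hL.le) hg.2⟩) (centralizer_le hL.le hg.2)) (le_inf Z2 (ce_symm (St_ce Z ▸ s1)))
  have eM := eq_St p2 M2 s2 z0 (by rw [hU.cN₂, hU.cN]) (hL.le xN) hs (fx s hs hs')
  have m1 : nm N₂ ≤ nm Z := fun b hb => eZ ▸ nm_inf hb (nm_ce hb)
  have m2 : nm N₂ ≤ nm M := fun b hb => eM ▸ nm_inf hb (nm_St hb (m1 hb))
  have m3 : nm N₂ ≤ nm (N₂ ⊓ ce M) := fun b hb => nm_inf hb (nm_ce (m2 hb))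
  have c4 : Nat.card N₂ = p * Nat.card ↥(N₂ ⊓ ce M) := le_antisymm (St_ce M ▸ idx2 pM bot_le hU.ZM
    (by simp [cZ]) hU.cM.le (fun _ _ => nm_bot) s1 s2)
    (mul_card_le p2 (lt_of_le_not_ge inf_le_left fun e => xc (e (hL.le xN)).2))
  have c3 : Nat.card ↥(N₂ ⊓ ce M) = p * Nat.card M :=
    Nat.eq_of_mul_eq_mul_left p0 (by rw [← c4, hU.cN₂, hU.cN])
  have l2 : M ≤ N₂ ⊓ ce M :=
    le_inf M2 (ab_of_idx pM hU.ZM hU.cM.le (z1.trans (centralizer_le hU.MN)))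
  have e3 : N₂ ⊓ ce M ⊓ N = M :=
    eq_of_card' h.pg (le_inf l2 hU.MN) inf_le_right hU.cN.le fun e => xc (e xN).1.2
  have x3 : x ∉ N₂ ⊓ ce M := fun e => xc e.2
  have l3 : N₂ ⊓ ce M ≤ N₂ := inf_le_left
  generalize N₂ ⊓ ce M = M₂ at *
  obtain ⟨y, hy, hy'⟩ := exists_not_mem c3
  obtain ⟨r, hr, hr'⟩ := exists_not_mem cS
  have rx : ⁅r, x⁆ ∉ M := fun e => hr' (n1 r hr (St_le_nm hU.MN le_rfl (mem_St_gen h.pg hU.MN
    hU.cN.le (le_normalizer.trans hU.nM) (mem_St_self (m2 (n4 hr))) xN xM e)))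
  have hC : Ch p S Z M M₂ N₂ x r := ⟨hS, hU.ZM, l2, l3, n0, cZ, hU.cM, c3, c4, cS, n4.trans m1,
    n4.trans m2, n4.trans m3, n4, hL.le xN, xc,
    fun e => fx y (l3 hy) (fun e => hy' (e3.le ⟨hy, e⟩)) (e.2 y hy), hr, rx, na⟩
  obtain ⟨k, hk⟩ := hp.out.odd_of_ne_two ho
  have hlm : (p : ℤ) ∣ 2 * (k + 1) - 1 := ⟨1, by rw [hk]; push_cast; ring⟩
  obtain ⟨t, t1, -, w1, w2, -, w3, -⟩ := hU.tor 2 (k + 1) hlm 2 1 fun t _ _ w =>
    ⟨w, fun x hx => by simp [mem_bot.1 hx]⟩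
  have w4 := Wt.inf w1 (m3 t1) l3
  rw [e3] at w4
  have w5 := wt_of_gen (m3 t1) (m3 (le_normalizer (hL.le xN))) (l2 (w2 x xN))
  rw [sup_zpowers_eq p2 l3 c4.le (hL.le xN) x3] at w5
  have s4 : S ≤ St N₂ M₂ := le_St_of_card hS l3 n0 n4 hC.n3 c4.le
  obtain ⟨c, hc, hc'⟩ := (loc_normal hS hF n0 n4).frat (nm N₂ ⊓ St N₂ M₂ ⊓ St M₂ M ⊓ St Z ⊥)
    (fun g hg => ⟨⟨⟨n4 hg, s4 hg⟩, hC.s3 hg⟩, (St_ce Z).ge (hC.s1 hg)⟩)
    (fun g hg => ⟨⟨⟨ce_le_nm le_rfl hg, ce_le_St le_rfl l3 hg⟩, ce_le_St l3 M2 hg⟩,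
      ce_le_St Z2 bot_le hg⟩) (fun g hg => hg.1.1.1) t t1 (nm_inf (nm_inf (nm_inf (nm_nm t1)
      (nm_St t1 (m3 t1))) (nm_St (m3 t1) (m2 t1))) (nm_St (m1 t1) nm_bot))
  have tc := mul_mem t1 hc.1.1.1
  have v5 := Wt.mul_St w5 hc.1.1.2 (m3 t1) (le_normalizer.trans m3)
  have v4 := Wt.mul_St w4 hc.1.2 (m2 t1) (l3.trans (le_normalizer.trans m2))
  have v3 := Wt.mul_St w3 hc.2 nm_bot fun _ _ => nm_bot
  obtain ⟨j, hj⟩ := exists_wt hS n0 cS.le hc' tc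
  have d1 := wt_dvd hj v5 v4 n0 l3 (le_St_of_card_sq p2 M2 (n0.trans hC.n2)
    (by rw [c4, c3, ← mul_assoc, sq])) (le_St_symm hC.s3 (hC.S3.trans hC.n2))
    (fun a ha => (s4 ha).2) hC.s3 (n0.trans hC.s3)
    (fun _ => pow_mem_of_card (p2.to_le l3) l2 c3.le) hr (hL.le xN) rx
  have d2 := hC.rel' hc' (m3 tc) (m1 tc) hj v4 v3
  have d3 : p ∣ 2 * 3 * 3 * 7 := Int.natCast_dvd_natCast.1 (by
    have := dvd_sub d2 ((dvd_sub (d1.mul_left 2) (hlm.mul_left j)).mul_left 8)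
    rwa [show j * 2 ^ 3 - 2 - 8 * (2 * (j * (k + 1) - 2 ^ 3) - j * (2 * (k + 1) - 1)) =
      ((2 * 3 * 3 * 7 : ℕ) : ℤ) by push_cast; ring] at this)
  simp only [Nat.Prime.dvd_mul hp.out, Nat.prime_dvd_prime_iff_eq hp.out Nat.prime_two,
    Nat.prime_dvd_prime_iff_eq hp.out Nat.prime_three,
    Nat.prime_dvd_prime_iff_eq hp.out (by norm_num : Nat.Prime 7)] at d3
  exact hC.three (by omega) hF hfoc

theorem case_four (na : NA p S) (h : Par p S E) (hc : Nat.card E = p ^ 4) :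
    nm E ≤ nm (S ⊓ ce S) := by
  have pE := h.pg.to_le h.le
  have p1 := hp.out.one_lt
  have ha : ¬ E ≤ ce E := fun e => na E h.le e h.card
  have l : S ⊓ ce S ≤ E ⊓ ce E := le_inf (AL.Zle h) (inf_le_right.trans (centralizer_le h.le))
  rcases l.eq_or_lt with e | e
  · exact fun g hg => e ▸ nm_inf hg (nm_ce hg)
  obtain ⟨y, -, y1, y2⟩ := exists_Zo h.pg le_rfl le_normalizer fun e =>
    ha ((h.le.trans e.le).trans bot_le)
  have c0 := mul_card_le (h.pg.to_le inf_le_left) (bot_lt_iff_ne_bot.2 fun e : S ⊓ ce S = ⊥ =>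
    y1 (mem_bot.1 (e.le (Zo_le y2))))
  have c1 := mul_card_le (pE.to_le inf_le_left) e
  obtain ⟨k, hk⟩ := (pE.to_le (inf_le_left (b := ce E))).exists_card_eq
  have c2 : k < 3 := by
    by_contra c
    exact ha (ab_of_idx pE inf_le_left (by
      rw [hc, hk, ← pow_succ']; exact Nat.pow_le_pow_right p1.le (by omega)) inf_le_right)
  rw [card_bot, mul_one] at c0
  obtain rfl : k = 2 := by
    have := (Nat.mul_le_mul_left p c0).trans c1
    rw [hk, ← sq, Nat.pow_le_pow_iff_right p1] at this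
    omega
  obtain ⟨z, hA⟩ := al_of pE (by rw [hk, hc]; ring) hk.le
  have nz := AL.nm_z hA
  have cz := card_zpowers_eq (mem_Zo.1 hA.mem).2 fun e => ha fun a ha => mem_ce_of fun b hb => by
    simpa [e] using hA.comm a ha b hb
  have zS := (zpowers_le.2 (Zo_le hA.mem).1).trans h.le
  rwa [← eq_of_le_of_card_le (le_inf zS (ce_symm (St_ce (zpowers z) ▸ le_St_of_card h.pg bot_le zS
    (h.norm.trans nz) (fun _ _ => nm_bot) (by simp [cz])))) (Nat.le_of_mul_le_mul_left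
    (by rwa [cz, ← sq, ← hk]) hp.out.pos)]

theorem main (ho : p ≠ 2) (h7 : p ≠ 7) (hS : IsPGroup p S)
    (hF : (groupFusionSystem S).IsSaturated p) (hfoc : S ≤ (groupFusionSystem S).focalSubgroup)
    (h5 : Nat.card S = p ^ 5) (hO : (groupFusionSystem S).core = ⊥) : ¬ NA p S := fun na => by
  have p1 := hp.out.one_lt
  obtain ⟨E, hE, hn⟩ : ∃ E, (groupFusionSystem S).IsEssential p E ∧ ¬ nm E ≤ nm (S ⊓ ce S) := by
    by_contra e
    push Not at e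
    obtain ⟨y, -, y1, y2⟩ := exists_Zo hS le_rfl le_normalizer fun e => by
      rw [e, card_bot] at h5
      exact (Nat.one_lt_pow (by omega) p1).ne h5
    exact y1 (mem_bot.1 ((core_free hS hF hO _ ⟨inf_le_left, fun g hg => nm_inf hg (nm_ce hg),
      fun E hE => (inf_le_inf_left S (centralizer_le hE.1.1)).trans (hE.1.2 E
        (H92.isConj_group_iff.2 ⟨hE.1.1, hE.1.1, 1, cj_one E⟩)), e⟩).le (Zo_le y2)))
  have hES : E ≤ S := hE.1.1
  have pE := hS.to_le hES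
  obtain ⟨k, hk⟩ := pE.exists_card_eq
  have k4 : k ≤ 4 := by
    have := mul_card_le hS (hES.lt_of_ne fun e => hn fun g hg => nm_inf (e ▸ hg) (nm_ce (e ▸ hg)))
    rw [hk, h5, ← pow_succ', Nat.pow_le_pow_iff_right p1] at this
    omega
  have hr : Nat.card E ≤ p ^ 3 * Nat.card (Phi E) := by
    rcases k4.eq_or_lt with rfl | c
    · rw [hk, pow_succ]
      exact Nat.mul_le_mul_left _ (card_Phi pE fun e => na E hES e (by rw [h5, hk]; ring))
    · exact (hk.le.trans (Nat.pow_le_pow_right p1.le (by omega))).trans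
        (Nat.le_mul_of_pos_right _ Nat.card_pos)
  by_cases hN : S ≤ nm E
  · have h := par_of hS hF hE hr
    rw [inf_eq_left.2 hN] at h
    exact hn (case_four na h (Nat.eq_of_mul_eq_mul_left hp.out.pos (by rw [← h.card, h5]; ring)))
  obtain ⟨γ, N, h1, h, hL, hne, h2⟩ := setup hS hF hE hr hN
  have hfn := hfn_of h h1 h2
  rw [← card_cj γ] at hk
  have k2 := card_ge h
  have k3 := mul_card_le hS (lt_of_le_not_ge h1 fun e => hne (inf_le_left.trans e))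
  rw [h.card, hk, h5, ← pow_succ', ← pow_succ', Nat.pow_le_pow_iff_right p1] at k3
  rw [hk, Nat.pow_le_pow_iff_right p1] at k2
  obtain rfl | rfl : k = 2 ∨ k = 3 := by omega
  · exact case_two ho h7 na hS hF hfoc h5 h hL hne hfn hk
  rw [inf_eq_left.2 (le_nm_of_card hS h1 (by rw [h.card, hk, h5]; exact le_of_eq (by ring)))]
    at hL hne
  by_cases ha : cj γ E ≤ ce (cj γ E)
  · obtain ⟨K, M, x, hA⟩ := exists_ab h hL hne hfn hk ha
    exact hA.yo ho na ((inf_le_inf_left S ((ce_le_nm (h.le.trans h1)).trans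
      (by rw [cj_one]))).trans (hfn 1 (one_mem _))) hF hfoc
  · exact case_ex ho na h hL hne hfn hk ha

end Cfsg.Agent.H91.Q5
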