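import Cfsg.Agent.H91.Root1

/-! Root elements of order four in `PSL_n(q)` and their recognition. -/

set_option autoImplicit false
set_option linter.unusedSectionVars false

namespace Cfsg.Agent.H91.Rt

open Matrix
open scoped MatrixGroups

variable {F : Type*} [Field F] {κ : Type*} [Fintype κ] [DecidableEq κ]
  {A A' : Matrix κ (Fin 2) F} {B B' : Matrix (Fin 2) κ F}

/-- the fundamental `SL₂` of a frame -/
def root (h : B * A = 1) : SL(2, F) →* SpecialLinearGroup κ F where
  toFun k := sl (ext A B (mx k)) (by rw [det_ext h, det_mx])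
  map_one' := mx_inj (by rw [mx_sl, mx_one, mx_one, ext_one])
  map_mul' k k' := mx_inj (by rw [mx_sl, mx_mul, mx_mul, mx_sl, mx_sl, ext_mul h])

theorem mx_root (h : B * A = 1) (k : SL(2, F)) : mx (root h k) = ext A B (mx k) := rfl

theorem inK_root (h : B * A = 1) (k : SL(2, F)) : InK (A * B) (mx (root h k)) := inK_ext h _

theorem mx_root_neg_one (h : B * A = 1) : mx (root h (-1)) = 1 - (2 : F) • (A * B) := by
  rw [mx_root, mx_neg, mx_one, ext_neg_one]

theorem root_inj (h : B * A = 1) {k k' : SL(2, F)} (e : root h k = root h k') : k = k' :=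
  mx_inj (by rw [← B_ext_A h (mx k), ← mx_root h, e, mx_root, B_ext_A h])

theorem exists_root_eq (h : B * A = 1) {g : SpecialLinearGroup κ F} (hg : InK (A * B) (mx g)) :
    ∃ k, root h k = g :=
  ⟨sl (B * mx g * A) (by rw [← det_ext h, ← hg.eq_ext h, det_mx]),
    mx_inj (by rw [mx_root, mx_sl, ← hg.eq_ext h])⟩

theorem frame_conj (h : B * A = 1) (g : SpecialLinearGroup κ F) :
    B * mx g⁻¹ * (mx g * A) = 1 := by rw [Matrix.mul_assoc, mx_inv_cancel, h]

theorem root_conj (h : B * A = 1) (g : SpecialLinearGroup κ F) (k : SL(2, F)) :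
    root (frame_conj h g) k = g * root h k * g⁻¹ := mx_inj (by
  rw [mx_mul, mx_mul, mx_root, mx_root, ext, ext, mul_add, add_mul, mul_one, mx_mul_inv]
  simp only [Matrix.mul_assoc])

theorem frame_ne_zero (h : B * A = 1) : A * B ≠ 0 := fun e => by
  have : B * (A * B) * A = 1 := by rw [cancelBA h, h]
  rw [e, Matrix.mul_zero, Matrix.zero_mul] at this
  exact one_ne_zero2 this.symm

theorem frame_ne_one (h : B * A = 1) (h3 : 3 ≤ Fintype.card κ) : A * B ≠ 1 := fun e => by
  have := card_eq_of_inv h e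
  rw [Fintype.card_fin] at this
  omega

theorem frame_ne_compl (h : B * A = 1) (h' : B' * A' = 1) (h4 : Fintype.card κ ≠ 4) :
    A' * B' ≠ 1 - A * B := fun e => by
  have := card_eq_add h h' (by rw [e]; abel)
  rw [Fintype.card_fin] at this
  exact h4 this

theorem frame_eq_of_le (h' : B' * A' = 1) (e : A * B * A' = A')
    (e' : B' * (A * B) = B') : A' * B' = A * B := by
  have h1 : B' * A * (B * A') = 1 := by
    rw [← h', Matrix.mul_assoc, ← Matrix.mul_assoc A, e]
  have h2 := mul_eq_one_comm.1 h1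
  calc A' * B' = A * B * A' * (B' * (A * B)) := by rw [e, e']
    _ = A * (B * A' * (B' * A)) * B := by simp only [Matrix.mul_assoc]
    _ = A * B := by rw [h2, Matrix.mul_one]

theorem refl_sq {P : Matrix κ κ F} (hP : P * P = P) :
    (1 - (2 : F) • P) * (1 - (2 : F) • P) = 1 := by
  simp only [two_smul, mul_sub, sub_mul, mul_add, add_mul, hP, mul_one, one_mul]
  abel

theorem idem_eq_or (h2 : (2 : F) ≠ 0) {P P' : Matrix κ κ F} (hP : P * P = P) (hP' : P' * P' = P')
    {c : F} (e : 1 - (2 : F) • P' = c • (1 - (2 : F) • P)) : P' = P ∨ P' = 1 - P := by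
  rcases subsingleton_or_nontrivial (Matrix κ κ F) with _ | _
  · exact Or.inl (Subsingleton.elim _ _)
  have h1 := refl_sq hP'
  rw [e, smul_mul_assoc, mul_smul_comm, refl_sq hP, smul_smul] at h1
  rcases mul_self_eq_one_iff.1 (eq_one_of_smul_eq one_ne_zero h1) with rfl | rfl
  · rw [one_smul] at e
    exact Or.inl (smul_right_injective _ h2 (sub_right_injective e))
  · refine Or.inr (smul_right_injective _ h2 ?_)
    show (2 : F) • P' = (2 : F) • (1 - P)
    rw [neg_smul, one_smul] at e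
    rw [smul_sub, two_smul F (1 : Matrix κ κ F), ← sub_eq_zero]
    have : (2 : F) • P' - (1 + 1 - (2 : F) • P) = -(1 - (2 : F) • P) - (1 - (2 : F) • P') := by
      abel
    rw [this, e, sub_self]

/-- an order four root element is not a scalar multiple of an element of an orthogonal
fundamental subgroup -/
theorem not_inK_of_orth (h2 : (2 : F) ≠ 0) (h : B * A = 1) {k : SL(2, F)} (hk : k * k = -1)
    {P g : Matrix κ κ F} (hP : P * A = 0) (hg : InK P g) {c : F} (e : g = c • mx (root h k)) :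
    False := by
  have h1 : g * A = A := by
    have : (g - 1) * A = 0 := by rw [← hg.1, Matrix.mul_assoc, hP, Matrix.mul_zero]
    rw [Matrix.sub_mul, Matrix.one_mul] at this
    exact sub_eq_zero.1 this
  have h3 : c • mx k = 1 := by
    rw [← h, ← B_ext_A h (mx k), ← mx_root h, ← Matrix.smul_mul, ← Matrix.mul_smul, ← e,
      Matrix.mul_assoc, h1]
  have h4 := congrArg det h3
  rw [det_smul, det_mx, det_one, mul_one, Fintype.card_fin] at h4
  have h5 : (c • mx k) * (c • mx k) = 1 := by rw [h3, mul_one]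
  rw [smul_mul_assoc, mul_smul_comm, smul_smul, ← mx_mul, hk, ← sq, h4, one_smul] at h5
  exact neg_ne_self h2 1 (mx_inj (h5.trans mx_one.symm))

variable {L : Type*} [Group L] {π : SpecialLinearGroup κ F →* L}

/-- `π` is the projection onto the projective special linear group -/
structure Proj (π : SpecialLinearGroup κ F →* L) : Prop where
  surj : Function.Surjective π
  ker : ∀ g, π g = 1 ↔ ∃ c : F, mx g = c • 1

theorem Proj.eq_iff (hπ : Proj π) {g g' : SpecialLinearGroup κ F} :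
    π g = π g' ↔ ∃ c : F, mx g' = c • mx g := by
  rw [← inv_mul_eq_one, ← map_inv, ← map_mul, hπ.ker]
  refine exists_congr fun c => ⟨fun e => ?_, fun e => ?_⟩
  · rw [← mx_cancel_inv g (mx g'), ← mx_mul g⁻¹, e, mul_smul_comm, mul_one]
  · rw [mx_mul, e, mul_smul_comm, mx_inv_mul]

theorem Proj.eq_of_inK (hπ : Proj π) {P : Matrix κ κ F} (hP : P ≠ 1)
    {g g' : SpecialLinearGroup κ F} (hg : InK P (mx g)) (hg' : InK P (mx g')) (e : π g = π g') :
    g = g' := by
  obtain ⟨c, hc⟩ := hπ.eq_iff.1 e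
  exact (mx_inj (hg.eq_of_smul hg' hP hc)).symm

theorem Proj.root_inj (hπ : Proj π) (h3 : 3 ≤ Fintype.card κ) (h : B * A = 1) {k k' : SL(2, F)}
    (e : π (root h k) = π (root h k')) : k = k' :=
  Rt.root_inj h (hπ.eq_of_inK (frame_ne_one h h3) (inK_root h k) (inK_root h k') e)

theorem Proj.frame_eq_or (hπ : Proj π) (h2 : (2 : F) ≠ 0) (h : B * A = 1) (h' : B' * A' = 1)
    (e : π (root h (-1)) = π (root h' (-1))) : A' * B' = A * B ∨ A' * B' = 1 - A * B := by
  obtain ⟨c, hc⟩ := hπ.eq_iff.1 e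
  rw [mx_root_neg_one, mx_root_neg_one] at hc
  exact idem_eq_or h2 (idem h) (idem h') hc

/-- root elements of order four -/
def IsRt (π : SpecialLinearGroup κ F →* L) (u : L) : Prop :=
  ∃ (A : Matrix κ (Fin 2) F) (B : Matrix (Fin 2) κ F) (h : B * A = 1) (k : SL(2, F)),
    k * k = -1 ∧ π (root h k) = u

theorem IsRt.of_isConj (hπ : Proj π) {u v : L} (hu : IsRt π u) (h : IsConj u v) : IsRt π v := by
  obtain ⟨A, B, hf, k, hk, rfl⟩ := hu
  obtain ⟨g, rfl⟩ := isConj_iff.1 h
  obtain ⟨g, rfl⟩ := hπ.surj g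
  exact ⟨_, _, frame_conj hf g, k, hk, by rw [root_conj, map_mul, map_mul, map_inv]⟩

theorem IsRt.eq_or (hπ : Proj π) (h2 : (2 : F) ≠ 0) (h3 : 3 ≤ Fintype.card κ)
    (h4 : Fintype.card κ ≠ 4) {u w : L} (hu : IsRt π u) (hw : IsRt π (u * w))
    (e : u * w * (u * w) = u * u) (e' : w * w = 1) : w = 1 ∨ w = u * u := by
  obtain ⟨A, B, h, k, hk, rfl⟩ := hu
  obtain ⟨A', B', h', k', hk', e1⟩ := hw
  have e2 : π (root h (-1)) = π (root h' (-1)) := by
    conv_lhs => rw [← hk, map_mul, map_mul, ← e, ← e1, ← map_mul, ← map_mul, hk']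
  have e3 := (hπ.frame_eq_or h2 h h' e2).resolve_right (frame_ne_compl h h' h4)
  obtain ⟨k'', hk''⟩ := exists_root_eq h (e3 ▸ inK_root h' k')
  have e4 : w = π (root h (k⁻¹ * k'')) := by
    rw [map_mul, map_mul, map_inv, map_inv, hk'', e1, inv_mul_cancel_left]
  have e5 : k⁻¹ * k'' * (k⁻¹ * k'') = 1 := hπ.root_inj h3 h (by
    rw [map_mul, map_mul, ← e4, e', map_one, map_one])
  rcases eq_or_neg_of_sq h2 e5 with e6 | e6
  · exact Or.inl (by rw [e4, e6, map_one, map_one])
  · exact Or.inr (by rw [e4, e6, ← map_mul, ← map_mul, hk])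

theorem isRt_of_scalar (hπ : Proj π) (h : B * A = 1) (hP : A * B ≠ 1)
    {y : SpecialLinearGroup κ F} {c d : F} (h1 : mx y * (A * B) = A * B * mx y)
    (h2 : mx y * mx y = c • (1 - (2 : F) • (A * B)))
    (h3 : mx y * (1 - A * B) = d • (1 - A * B))
    (h4 : ¬ ∃ e : F, mx y * (A * B) = e • (A * B)) : IsRt π (π y) := by
  have hP' : (1 : Matrix κ κ F) - A * B ≠ 0 := sub_ne_zero.2 hP.symm
  have hd : d ≠ 0 := by
    rintro rfl
    exact hP' (eq_zero_of_mx_mul y (by rw [h3, zero_smul]))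
  have hdc : d⁻¹ * d⁻¹ * c = 1 := by
    refine eq_one_of_smul_eq hP' ?_
    have e1 : mx y * mx y * (1 - A * B) = (d * d) • (1 - A * B) := by
      rw [mul_assoc, h3, mul_smul_comm, h3, smul_smul]
    have e2 : (1 - (2 : F) • (A * B)) * (1 - A * B) = 1 - A * B := by
      simp only [two_smul, mul_sub, sub_mul, add_mul, idem h, mul_one, one_mul]; abel
    rw [h2, smul_mul_assoc, e2] at e1
    rw [mul_smul, e1, smul_smul]
    have : d⁻¹ * d⁻¹ * (d * d) = 1 := by field_simp
    rw [this, one_smul]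
  have hg : InK (A * B) (d⁻¹ • mx y) :=
    inK_of (by rw [smul_mul_assoc, mul_smul_comm, h1])
      (by rw [smul_mul_assoc, h3, smul_smul, inv_mul_cancel₀ hd, one_smul])
  have eg := hg.eq_ext h
  obtain ⟨k, hk⟩ : ∃ k, k = B * (d⁻¹ • mx y) * A := ⟨_, rfl⟩
  rw [← hk] at eg
  have hkk : k * k = (-1 : F) • 1 := by
    rw [← B_ext_A h (k * k), ← ext_mul h, ← eg, smul_mul_assoc, mul_smul_comm, h2, smul_smul,
      smul_smul, hdc, one_smul, ← ext_neg_one, B_ext_A h, neg_smul, one_smul]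
  have hdet := (trace_zero_of_sq hkk fun ⟨e, he⟩ => h4 ⟨d * e, by
    have : mx y = d • ext A B k := by rw [← eg, smul_smul, mul_inv_cancel₀ hd, one_smul]
    rw [this, smul_mul_assoc, ← Matrix.mul_assoc, ext_mul_A h, he, Matrix.mul_smul,
      Matrix.mul_one, Matrix.smul_mul, smul_smul]⟩).2
  rw [neg_neg] at hdet
  refine ⟨A, B, h, sl k hdet, mx_inj ?_, (hπ.eq_iff.2 ⟨d⁻¹, ?_⟩).symm⟩
  · rw [mx_mul, mx_sl, hkk, mx_neg, mx_one, neg_smul, one_smul]
  · rw [mx_root, mx_sl, eg]

/-- the reflection trick -/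
theorem exists_frame_refl [Finite F] (h2 : (2 : F) ≠ 0) {y : SpecialLinearGroup κ F}
    {S : Matrix κ κ F} {e : F} (he : e ≠ 0) (hS : S * S = S) (hc : mx y * S = S * mx y)
    (ht : mx y * mx y * S = e • S) (hn : ¬ ∃ d : F, mx y * S = d • S) :
    ∃ (A : Matrix κ (Fin 2) F) (B : Matrix (Fin 2) κ F) (h : B * A = 1), S * A = A ∧ B * S = B ∧
      root h (-1) * y = y * root h (-1) ∧ IsConj y (y * root h (-1)) := by
  obtain ⟨A, B, h, h1, h3, h4, h5⟩ := exists_frame_two h2 he hS hc ht hn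
  obtain ⟨m, hm⟩ := exists_anti h2 he
  have l1 : ∀ k, ext A B k * mx y = mx y + A * ((k - 1) * !![0, e; 1, 0]) * B := fun k => by
    rw [ext, add_mul, one_mul, Matrix.mul_assoc, h5]
    simp only [Matrix.mul_assoc]
  have l2 : ∀ k, mx y * ext A B k = mx y + A * (!![0, e; 1, 0] * (k - 1)) * B := fun k => by
    rw [ext, mul_add, mul_one, ← Matrix.mul_assoc, ← Matrix.mul_assoc, h4]
    simp only [Matrix.mul_assoc]
  refine ⟨A, B, h, h1, h3, mx_inj ?_, isConj_iff.2 ⟨root h m, ?_⟩⟩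
  · rw [mx_mul, mx_mul, mx_root, l1, l2, mx_neg, mx_one]
    simp only [mul_sub, sub_mul, mul_neg, neg_mul, mul_one, one_mul]
  · rw [mul_inv_eq_iff_eq_mul, mul_assoc, ← map_mul]
    refine mx_inj ?_
    rw [mx_mul, mx_mul, mx_root, mx_root, l1, l2, neg_one_mul, mx_neg]
    simp only [mul_sub, sub_mul, mul_neg, mul_one, one_mul, hm]

end Cfsg.Agent.H91.Rt
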