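import Cfsg.Agent.H91.Root2

/-! Recognition of root elements inside quaternion pairs. -/

set_option autoImplicit false
set_option linter.unusedSectionVars false

namespace Cfsg.Agent.H91.Rt

open Matrix
open scoped MatrixGroups

variable {F : Type*} [Field F] {κ : Type*} [Fintype κ] [DecidableEq κ]
  {L : Type*} [Group L] {π : SpecialLinearGroup κ F →* L}

theorem refl_mul_self {R : Matrix κ κ F} (hR : R * R = R) : (1 - (2 : F) • R) * R = -R := by
  simp only [two_smul, sub_mul, add_mul, hR, one_mul]; abel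

theorem refl_mul_compl {R : Matrix κ κ F} (hR : R * R = R) :
    (1 - (2 : F) • R) * (1 - R) = 1 - R := by
  simp only [two_smul, mul_sub, sub_mul, add_mul, hR, mul_one, one_mul]; abel

theorem compl_idem {R : Matrix κ κ F} (hR : R * R = R) : (1 - R) * (1 - R) = 1 - R := by
  simp only [mul_sub, sub_mul, hR, mul_one, one_mul]; abel

theorem comm_compl {R y : Matrix κ κ F} (h : y * R = R * y) : y * (1 - R) = (1 - R) * y := by
  rw [mul_sub, sub_mul, h, mul_one, one_mul]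

theorem not_scalar_of_anti (h2 : (2 : F) ≠ 0) {y y' z : SpecialLinearGroup κ F}
    {R : Matrix κ κ F} (hz : mx z = 1 - (2 : F) • R) (hR : R * R = R) (hR0 : R ≠ 0)
    (hy' : mx y' * R = R * mx y') (e : y' * y = z * (y * y')) :
    ¬ ∃ d : F, mx y * R = d • R := by
  rintro ⟨d, hd⟩
  have h1 : mx y' * mx y * R = mx z * (mx y * mx y') * R := by
    rw [← mx_mul, e, mx_mul, mx_mul]
  rw [mul_assoc, hd, mul_assoc, mul_assoc, hy', ← mul_assoc (mx y), hd, ← mul_assoc,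
    mul_smul_comm, mul_smul_comm, hz, refl_mul_self hR, smul_mul_assoc, neg_mul, ← hy',
    smul_neg, ← add_eq_zero_iff_eq_neg, ← add_smul, ← mul_smul_comm] at h1
  have h3 := (smul_eq_zero.1 (eq_zero_of_mx_mul y' h1)).resolve_right hR0
  have h4 : d = 0 := by
    apply mul_left_cancel₀ h2
    linear_combination h3
  rw [h4, zero_smul] at hd
  exact hR0 (eq_zero_of_mx_mul y hd)

theorem ne_zero_of_mx_eq [Nonempty κ] {g : SpecialLinearGroup κ F} {c : F} {X : Matrix κ κ F}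
    (h : mx g = c • X) : c ≠ 0 := by
  rintro rfl
  have := mx_mul_inv g
  rw [h, zero_smul, zero_mul] at this
  exact zero_ne_one this

/-- the data attached to a lifted quaternion pair -/
structure Pair (y₁ y₂ z : SpecialLinearGroup κ F) (c₁ c₂ : F) (R : Matrix κ κ F) : Prop where
  anti : y₂ * y₁ = z * (y₁ * y₂)
  anti' : y₁ * y₂ = z * (y₂ * y₁)
  c1 : c₁ ≠ 0
  c2 : c₂ ≠ 0
  sq1 : mx y₁ * mx y₁ = c₁ • (1 - (2 : F) • R)
  sq2 : mx y₂ * mx y₂ = c₂ • (1 - (2 : F) • R)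
  hz : mx z = 1 - (2 : F) • R
  idem : R * R = R
  ne0 : R ≠ 0
  ne1 : R ≠ 1
  cm1 : mx y₁ * R = R * mx y₁
  cm2 : mx y₂ * R = R * mx y₂

theorem exists_pair [Nonempty κ] (hπ : Proj π) (h2 : (2 : F) ≠ 0)
    {y₁ y₂ : SpecialLinearGroup κ F} {x : L} (h1 : π y₁ * π y₁ = x) (h1' : π y₂ * π y₂ = x)
    (h3 : π y₂ * π y₁ = x * (π y₁ * π y₂)) (hx : x ≠ 1) :
    ∃ z c₁ c₂ R, π z = x ∧ Pair y₁ y₂ z c₁ c₂ R := by
  obtain ⟨z, hz⟩ : ∃ z, y₂ * y₁ = z * (y₁ * y₂) := ⟨y₂ * y₁ * (y₁ * y₂)⁻¹, by group⟩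
  have hzx : π z = x := by
    have := congrArg π hz
    rw [map_mul, map_mul, map_mul, h3] at this
    exact (mul_right_cancel this).symm
  obtain ⟨c₁, e1⟩ := hπ.eq_iff.1 (hzx.trans (h1.symm.trans (map_mul π _ _).symm))
  obtain ⟨c₂, e2⟩ := hπ.eq_iff.1 (hzx.trans (h1'.symm.trans (map_mul π _ _).symm))
  have n1 := ne_zero_of_mx_eq e1
  have n2 := ne_zero_of_mx_eq e2
  have cz : ∀ {y : SpecialLinearGroup κ F} {c : F}, c ≠ 0 → mx (y * y) = c • mx z →
      y * z = z * y := fun {y c} hc e => mx_inj (smul_right_injective _ hc (by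
    show c • mx (y * z) = c • mx (z * y)
    rw [mx_mul, mx_mul, ← mul_smul_comm, ← smul_mul_assoc, ← e, ← mx_mul, ← mx_mul, mul_assoc]))
  have z1 := cz n1 e1
  have z2 := cz n2 e2
  have hzz : z * z = 1 := by
    have a1 : y₂ * (y₁ * y₁) = y₁ * y₁ * y₂ := mx_inj (by
      rw [mx_mul, mx_mul _ y₂, e1, mul_smul_comm, smul_mul_assoc, ← mx_mul, ← mx_mul, z2])
    have a2 : y₂ * (y₁ * y₁) = z * z * (y₁ * y₁ * y₂) := by
      rw [← mul_assoc, hz, mul_assoc, mul_assoc, hz, ← mul_assoc y₁, z1]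
      simp only [mul_assoc]
    rw [a1] at a2
    exact (mul_right_cancel (a2.symm.trans (one_mul _).symm))
  have hzR : mx z = 1 - (2 : F) • ((2 : F)⁻¹ • (1 - mx z)) := by
    rw [smul_smul, mul_inv_cancel₀ h2, one_smul, sub_sub_cancel]
  have cR : ∀ {y : SpecialLinearGroup κ F}, y * z = z * y →
      mx y * ((2 : F)⁻¹ • (1 - mx z)) = (2 : F)⁻¹ • (1 - mx z) * mx y := fun {y} e => by
    rw [mul_smul_comm, smul_mul_assoc, mul_sub, sub_mul, ← mx_mul, e, mx_mul, mul_one, one_mul]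
  refine ⟨z, c₁, c₂, (2 : F)⁻¹ • (1 - mx z), hzx, hz, ?_, n1, n2, ?_, ?_, hzR, ?_, ?_, ?_,
    cR z1, cR z2⟩
  · rw [hz, ← mul_assoc, hzz, one_mul]
  · rw [← hzR, ← e1, mx_mul]
  · rw [← hzR, ← e2, mx_mul]
  · have : (1 - mx z) * (1 - mx z) = (2 : F) • (1 - mx z) := by
      rw [two_smul, mul_sub, sub_mul, sub_mul, ← mx_mul, hzz, mx_one]
      simp only [mul_one, one_mul]; abel
    rw [smul_mul_assoc, mul_smul_comm, this, smul_smul (2 : F)⁻¹ 2, inv_mul_cancel₀ h2, one_smul]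
  · intro e
    rw [e, smul_zero, sub_zero] at hzR
    exact hx (hzx ▸ (hπ.ker z).2 ⟨1, by rw [hzR, one_smul]⟩)
  · intro e
    rw [e] at hzR
    refine hx (hzx ▸ (hπ.ker z).2 ⟨-1, ?_⟩)
    rw [hzR, two_smul, neg_smul, one_smul]; abel

namespace Pair

variable {y₁ y₂ z : SpecialLinearGroup κ F} {c₁ c₂ : F} {R : Matrix κ κ F}

theorem isRt_of_ne_four [Finite F] (H : Pair y₁ y₂ z c₁ c₂ R) (hπ : Proj π) (h2 : (2 : F) ≠ 0)
    (h4 : Fintype.card κ ≠ 4)
    (hW : ∀ w : L, w * w = 1 → w * π y₁ = π y₁ * w → IsConj (π y₁) (π y₁ * w) →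
      w = 1 ∨ w = π z) : IsRt π (π y₁) := by
  have key : ∀ {A : Matrix κ (Fin 2) F} {B : Matrix (Fin 2) κ F} (h : B * A = 1),
      root h (-1) * y₁ = y₁ * root h (-1) → IsConj y₁ (y₁ * root h (-1)) →
      A * B = 1 ∨ A * B = R ∨ A * B = 1 - R := fun {A B} h e1 e2 => by
    rcases hW (π (root h (-1))) (by rw [← map_mul, ← map_mul, neg_mul_neg, one_mul, map_one, map_one])
      (by rw [← map_mul, e1, map_mul]) (by rw [← map_mul]; exact π.map_isConj e2) with e | e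
    · obtain ⟨c, hc⟩ := (hπ.ker _).1 e
      rw [mx_root_neg_one] at hc
      rcases idem_eq_or h2 (P := 0) (zero_mul _) (Rt.idem h) (c := c)
        (by rw [hc, smul_zero, sub_zero]) with e' | e'
      · exact absurd e' (frame_ne_zero h)
      · exact Or.inl (by rw [e', sub_zero])
    · obtain ⟨c, hc⟩ := hπ.eq_iff.1 e.symm
      rw [mx_root_neg_one, H.hz] at hc
      exact Or.inr (idem_eq_or h2 H.idem (Rt.idem h) hc)
  have ns := not_scalar_of_anti h2 H.hz H.idem H.ne0 H.cm2 H.anti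
  obtain ⟨A, B, h, a1, -, a3, a4⟩ := exists_frame_refl h2 (neg_ne_zero.2 H.c1) H.idem H.cm1
    (by rw [H.sq1, smul_mul_assoc, refl_mul_self H.idem, smul_neg, neg_smul]) ns
  have hRP : R * (A * B) = A * B := by rw [← Matrix.mul_assoc, a1]
  have hP : A * B = R := by
    rcases key h a3 a4 with e | e | e
    · rw [e, mul_one] at hRP
      exact absurd hRP H.ne1
    · exact e
    · rw [e, mul_sub, mul_one, H.idem, sub_self] at hRP
      exact absurd (e.trans hRP.symm) (frame_ne_zero h)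
  by_cases hs : ∃ d : F, mx y₁ * (1 - R) = d • (1 - R)
  · obtain ⟨d, hd⟩ := hs
    subst hP
    exact isRt_of_scalar hπ h H.ne1 H.cm1 H.sq1 hd ns
  exfalso
  obtain ⟨A', B', h', b1, -, b3, b4⟩ := exists_frame_refl h2 H.c1 (compl_idem H.idem)
    (comm_compl H.cm1) (by rw [H.sq1, smul_mul_assoc, refl_mul_compl H.idem]) hs
  have hRP' : (1 - R) * (A' * B') = A' * B' := by rw [← Matrix.mul_assoc, b1]
  rcases key h' b3 b4 with e | e | e
  · rw [e, mul_one] at hRP'
    exact H.ne0 (sub_eq_self.1 hRP')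
  · rw [e, sub_mul, one_mul, H.idem, sub_self] at hRP'
    exact H.ne0 hRP'.symm
  · exact frame_ne_compl h h' h4 (hP ▸ e)

theorem isRt_of_four (H : Pair y₁ y₂ z c₁ c₂ R) (hπ : Proj π) (h2 : (2 : F) ≠ 0)
    (h4 : Fintype.card κ = 4) : IsRt π (π y₁) ∨ IsRt π (π y₂) ∨ IsRt π (π (y₁ * y₂)) := by
  obtain ⟨r, A, B, h, hP⟩ := exists_frame H.idem
  obtain ⟨s, A', B', h', hP'⟩ := exists_frame (compl_idem H.idem)
  have hrs := card_eq_add h h' (by rw [hP, hP']; abel)
  rw [h4, Fintype.card_fin, Fintype.card_fin] at hrs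
  have hr0 : r ≠ 0 := by
    rintro rfl
    exact H.ne0 (by rw [← hP]; ext i j; simp [Matrix.mul_apply])
  have hs0 : s ≠ 0 := by
    rintro rfl
    refine H.ne1 (sub_eq_zero.1 ?_).symm
    rw [← hP']; ext i j; simp [Matrix.mul_apply]
  have hre : Even r := by
    have := det_mx z
    rw [H.hz, ← hP, ← ext_neg_one, det_ext h, det_neg, det_one, mul_one, Fintype.card_fin] at this
    exact (neg_one_pow_eq_one_iff_even fun e => h2 (by linear_combination -e)).1 this
  obtain rfl : r = 2 := by obtain ⟨t, rfl⟩ := hre; omega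
  obtain rfl : s = 2 := by omega
  subst hP
  have cor : ∀ {y : Matrix κ κ F}, y * (A * B) = A * B * y →
      y * A' = A' * (B' * y * A') := fun {y} e => by
    have : y * (A' * B') * A' = A' * B' * y * A' := by rw [hP', comm_compl e]
    simpa only [Matrix.mul_assoc, h', Matrix.mul_one] using this
  have sc : ∀ {y : Matrix κ κ F} {d : F}, y * (A * B) = A * B * y → B' * y * A' = d • 1 →
      y * (1 - A * B) = d • (1 - A * B) := fun {y d} e e' => by
    rw [← hP', ← Matrix.mul_assoc, cor e, e', Matrix.mul_smul, Matrix.mul_one, Matrix.smul_mul]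
  have ml : ∀ (y : Matrix κ κ F) {y' : Matrix κ κ F}, y' * (A * B) = A * B * y' →
      B' * (y * y') * A' = B' * y * A' * (B' * y' * A') := fun y {y'} e => by
    rw [Matrix.mul_assoc, Matrix.mul_assoc, cor e]
    simp only [Matrix.mul_assoc]
  have hzA : (1 - (2 : F) • (A * B)) * A' = A' := by
    have : (1 - (2 : F) • (A * B)) * (A' * B') * A' = A' * B' * A' := by
      rw [hP', refl_mul_compl H.idem]
    simpa only [Matrix.mul_assoc, h', Matrix.mul_one] using this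
  have sq : ∀ {y : Matrix κ κ F} {c : F}, y * (A * B) = A * B * y →
      y * y = c • (1 - (2 : F) • (A * B)) → B' * y * A' * (B' * y * A') = c • 1 :=
    fun {y c} e e' => by
      rw [← ml y e, e', Matrix.mul_smul, Matrix.smul_mul, Matrix.mul_assoc, hzA, h']
  by_cases s1 : ∃ d : F, B' * mx y₁ * A' = d • 1
  · obtain ⟨d, hd⟩ := s1
    exact Or.inl (isRt_of_scalar hπ h H.ne1 H.cm1 H.sq1 (sc H.cm1 hd)
      (not_scalar_of_anti h2 H.hz H.idem H.ne0 H.cm2 H.anti))
  by_cases s2 : ∃ d : F, B' * mx y₂ * A' = d • 1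
  · obtain ⟨d, hd⟩ := s2
    exact Or.inr (Or.inl (isRt_of_scalar hπ h H.ne1 H.cm2 H.sq2 (sc H.cm2 hd)
      (not_scalar_of_anti h2 H.hz H.idem H.ne0 H.cm1 H.anti')))
  have cm : mx (y₁ * y₂) * (A * B) = A * B * mx (y₁ * y₂) := by
    rw [mx_mul, mul_assoc, H.cm2, ← mul_assoc, H.cm1, mul_assoc]
  have hBz : B' * (1 - (2 : F) • (A * B)) = B' := by
    have : B' * ((A' * B') * (1 - (2 : F) • (A * B))) = B' * (A' * B') := by
      rw [hP', ← comm_compl, refl_mul_compl H.idem]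
      rw [sub_mul, mul_sub, smul_mul_assoc, mul_smul_comm, one_mul, mul_one]
    simpa only [← Matrix.mul_assoc, h', Matrix.one_mul] using this
  obtain ⟨d, hd⟩ := scalar_mul_of_comm h2 (trace_zero_of_sq (sq H.cm1 H.sq1) s1).1
    (trace_zero_of_sq (sq H.cm2 H.sq2) s2).1 (by
      rw [← ml _ H.cm2, ← ml _ H.cm1, ← mx_mul y₂, H.anti, mx_mul, mx_mul, H.hz,
        ← Matrix.mul_assoc B' (1 - (2 : F) • (A * B)), hBz])
  rw [← ml _ H.cm2, ← mx_mul] at hd
  have z1 : mx y₁ * mx z = mx z * mx y₁ := by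
    rw [H.hz, mul_sub, sub_mul, mul_smul_comm, smul_mul_assoc, H.cm1, mul_one, one_mul]
  refine Or.inr (Or.inr (isRt_of_scalar (c := c₁ * c₂) hπ h H.ne1 cm ?_ (sc cm hd)
    (not_scalar_of_anti h2 H.hz H.idem H.ne0 H.cm1 ?_)))
  · have : mx (y₁ * y₂) * mx (y₁ * y₂) = mx z * (mx y₁ * mx y₁) * (mx y₂ * mx y₂) := by
      rw [mx_mul, mul_assoc, ← mul_assoc (mx y₂), ← mx_mul y₂, H.anti, mx_mul, mx_mul,
        ← mul_assoc, ← mul_assoc, z1]
      simp only [mul_assoc]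
    rw [this, H.sq1, H.sq2, H.hz, mul_smul_comm, mul_smul_comm, refl_sq H.idem, smul_mul_assoc,
      one_mul, smul_smul, mul_comm]
  · conv_lhs => rw [H.anti', ← mul_assoc, show y₁ * z = z * y₁ from mx_inj z1]
    simp only [mul_assoc]

end Pair

end Cfsg.Agent.H91.Rt
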