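import Cfsg.Agent.H91.Root3
import Cfsg.Agent.H91.PP
import Cfsg.Agent.H92.Iso

/-! Conjugacy preserving automorphisms of a Sylow `2`-subgroup of `PSL_n(q)` preserve root
elements; general lemmas on automorphisms of odd order. -/

set_option autoImplicit false
set_option linter.unusedSectionVars false

namespace Cfsg.Agent.H91.Rt

open Matrix
open scoped MatrixGroups

section General

variable {L : Type*} [Group L]

theorem fix_of_step {W : Subgroup L} {a : L → L} (hp : PP 2 W a) (hk : HomOn W a) {x u : L}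
    (hx : x ∈ W) (hu : u ∈ W) (e : a x = x * u) (eu : a u = u) (h : u * u = 1) : a x = x := by
  obtain ⟨hm, m, hc, hper⟩ := hp
  have key : ∀ n, a^[n] x = x * u ^ n := by
    intro n
    induction n with
    | zero => simp
    | succ n ih =>
      rw [Function.iterate_succ_apply', ih, hk.map_mul hx (W.pow_mem hu n), hk.map_pow hu, eu, e,
        pow_succ', mul_assoc]
  have h1 := key m
  rw [hper x hx] at h1
  obtain ⟨j, rfl⟩ := Nat.coprime_two_right.1 hc
  rw [pow_succ, pow_mul, sq, h, one_pow, one_mul] at h1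
  rw [e, ← h1]

theorem fix_of_invol {W : Subgroup L} (hW : IsPGroup 2 W) (hc : ∀ x ∈ W, ∀ y ∈ W, x * y = y * x)
    {a : L → L} (hp : PP 2 W a) (hk : HomOn W a) (h : ∀ x ∈ W, x * x = 1 → a x = x) :
    ∀ x ∈ W, a x = x := by
  have key : ∀ n, ∀ x ∈ W, x ^ 2 ^ n = 1 → a x = x := by
    intro n
    induction n with
    | zero => intro x hx e; rw [pow_zero, pow_one] at e; rw [e, hk.map_one]
    | succ n ih =>
      intro x hx e
      have h1 := ih (x * x) (W.mul_mem hx hx) (by rw [← sq, ← pow_mul, ← pow_succ', e])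
      have hu : x⁻¹ * a x ∈ W := W.mul_mem (W.inv_mem hx) (hp.1 x hx)
      have h2 : x⁻¹ * a x * (x⁻¹ * a x) = 1 := by
        rw [hc _ (W.inv_mem hx) _ (hp.1 x hx), mul_assoc, ← mul_assoc x⁻¹,
          hc _ (W.inv_mem hx) _ (hp.1 x hx), ← mul_assoc, ← mul_assoc, ← hk.map_mul hx hx, h1]
        group
      exact fix_of_step hp hk hx hu (by group) (h _ hu h2) h2
  intro x hx
  obtain ⟨n, hn⟩ := hW ⟨x, hx⟩
  exact key n x hx (congrArg Subtype.val hn)

theorem exists_second_center {N Q Z : Subgroup L} [Finite N] (hN : IsPGroup 2 N) (hQ : Q ≤ N)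
    (hn : ∀ n ∈ N, ∀ x ∈ Q, n * x * n⁻¹ ∈ Q) (hZ : ¬ Q ≤ Z) :
    ∃ c ∈ Q, c ∉ Z ∧ ∀ n ∈ N, n * c * n⁻¹ * c⁻¹ ∈ Z := by
  classical
  have hex : ∃ i, ¬ Q ⊓ ucs N i ≤ Z := by
    obtain ⟨i, hi⟩ := exists_ucs_eq hN
    exact ⟨i, by rwa [hi, inf_eq_left.2 hQ]⟩
  have h0 : Nat.find hex ≠ 0 := fun e => by
    have := Nat.find_spec hex
    rw [e, ucs_zero, inf_bot_eq] at this
    exact this bot_le
  obtain ⟨i, hi⟩ := Nat.exists_eq_succ_of_ne_zero h0
  have h1 := Nat.find_spec hex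
  have h2 := Nat.find_min hex (m := i) (by omega)
  rw [hi] at h1
  obtain ⟨c, hc, hc'⟩ := SetLike.not_le_iff_exists.1 h1
  refine ⟨c, hc.1, hc', fun n hn' => not_not.1 h2 ⟨Q.mul_mem (hn n hn' c hc.1) (Q.inv_mem hc.1), ?_⟩⟩
  exact commutator_ucs_le N i (Subgroup.commutator_mem_commutator hn' hc.2)

theorem isPGroup_zpowers_of_pow {x : L} {n : ℕ} (h : x ^ 2 ^ n = 1) :
    IsPGroup 2 (Subgroup.zpowers x) := by
  obtain ⟨j, -, hj⟩ := (Nat.dvd_prime_pow Nat.prime_two).1 (orderOf_dvd_of_pow_eq_one h)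
  exact IsPGroup.of_card (by rw [Nat.card_zpowers, hj])

theorem mem_of_normalizes {T : Subgroup L} (hT : SylIn 2 T ⊤) {x : L} {n : ℕ}
    (h : x ^ 2 ^ n = 1) (hx : x ∈ Subgroup.normalizer (T : Set L)) : x ∈ T := by
  have := hT.eq_of_le ((isPGroup_zpowers_of_pow h).to_sup_of_normal_right' hT.isPGroup
    (Subgroup.zpowers_le_of_mem hx)) le_sup_right le_top
  exact this ▸ Subgroup.mem_sup_left (Subgroup.mem_zpowers x)

/-- conjugacy preserving automorphisms -/
structure FA (T : Subgroup L) (a b : L → L) : Prop where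
  g : H92.GIso T T a b
  ca : ∀ x ∈ T, ∀ y ∈ T, IsConj x y → IsConj (a x) (a y)
  cb : ∀ x ∈ T, ∀ y ∈ T, IsConj x y → IsConj (b x) (b y)

theorem FA.symm {T : Subgroup L} {a b : L → L} (h : FA T a b) : FA T b a := ⟨h.g.symm, h.cb, h.ca⟩

end General

variable {F : Type*} [Field F] {κ : Type*} [Fintype κ] [DecidableEq κ]
  {L : Type*} [Group L] {π : SpecialLinearGroup κ F →* L}

theorem comm_of_comm_nonscalar {e a b : Matrix (Fin 2) (Fin 2) F} (he : ¬ ∃ d : F, e = d • 1)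
    (h1 : e * a = a * e) (h2 : e * b = b * e) : a * b = b * a := by
  have a00 := congrFun (congrFun h1 0) 0
  have a01 := congrFun (congrFun h1 0) 1
  have a10 := congrFun (congrFun h1 1) 0
  have b00 := congrFun (congrFun h2 0) 0
  have b01 := congrFun (congrFun h2 0) 1
  have b10 := congrFun (congrFun h2 1) 0
  simp only [Matrix.mul_apply, Fin.sum_univ_two] at a00 a01 a10 b00 b01 b10
  have key : a 0 1 * b 1 0 = b 0 1 * a 1 0 ∧ a 0 1 * (b 0 0 - b 1 1) = b 0 1 * (a 0 0 - a 1 1) ∧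
      a 1 0 * (b 0 0 - b 1 1) = b 1 0 * (a 0 0 - a 1 1) := by
    by_cases e1 : e 0 1 = 0
    · by_cases e2 : e 1 0 = 0
      · have e3 : e 0 0 - e 1 1 ≠ 0 := fun e3 => he ⟨e 0 0, by
          ext i j
          fin_cases i <;> fin_cases j <;> simp [e1, e2, (sub_eq_zero.1 e3).symm]⟩
        refine ⟨mul_left_cancel₀ e3 ?_, mul_left_cancel₀ e3 ?_, mul_left_cancel₀ e3 ?_⟩
        · linear_combination b 1 0 * a01 - a 1 0 * b01 + (a 0 0 - a 1 1) * b00 -
            (b 0 0 - b 1 1) * a00 + (a 0 1 * (b 0 0 - b 1 1) - b 0 1 * (a 0 0 - a 1 1)) * (-e2) +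
            0 * e1
        · linear_combination (b 0 0 - b 1 1) * a01 - (a 0 0 - a 1 1) * b01
        · linear_combination -(b 0 0 - b 1 1) * a10 + (a 0 0 - a 1 1) * b10
      · refine ⟨mul_left_cancel₀ e2 ?_, mul_left_cancel₀ e2 ?_, mul_left_cancel₀ e2 ?_⟩
        · linear_combination -(b 1 0) * a00 + a 1 0 * b00
        · linear_combination -(b 0 0 - b 1 1) * a00 + (a 0 0 - a 1 1) * b00 + a 1 0 * b01 +
            b 0 1 * a10 - b 1 0 * a01 - a 0 1 * b10 + a 0 1 * b10 + b 1 0 * a01 -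
            a 1 0 * b01 - b 0 1 * a10 + (a 1 0 * (b 0 0 - b 1 1) - b 1 0 * (a 0 0 - a 1 1)) * e1
        · linear_combination a 1 0 * b10 - b 1 0 * a10
    · have k1 : a 0 1 * b 1 0 = b 0 1 * a 1 0 := mul_left_cancel₀ e1 (by
        linear_combination a 0 1 * b00 - b 0 1 * a00)
      refine ⟨k1, mul_left_cancel₀ e1 ?_, mul_left_cancel₀ e1 ?_⟩
      · linear_combination -(a 0 1) * b01 + b 0 1 * a01
      · linear_combination -(a 1 0) * b01 + b 1 0 * a01 - (e 0 0 - e 1 1) * k1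
  ext i j
  fin_cases i <;> fin_cases j <;> simp [Matrix.mul_apply, Fin.sum_univ_two]
  · linear_combination key.1
  · linear_combination -key.2.1
  · linear_combination key.2.2
  · linear_combination -key.1

theorem eq_or_neg_of_comm {e k k' : SL(2, F)} (h : k * k' ≠ k' * k) (h1 : e * k = k * e)
    (h2 : e * k' = k' * e) : e = 1 ∨ e = -1 := by
  by_cases hn : ∃ d : F, mx e = d • 1
  · obtain ⟨d, hd⟩ := hn
    have hdet := det_mx e
    rw [hd, det_smul, det_one, mul_one, Fintype.card_fin] at hdet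
    rcases sq_eq_one_iff.1 hdet with rfl | rfl
    · exact Or.inl (mx_inj (by rw [hd, one_smul, mx_one]))
    · exact Or.inr (mx_inj (by rw [hd, neg_smul, one_smul, mx_neg, mx_one]))
  · exact absurd (mx_inj (comm_of_comm_nonscalar hn (congrArg mx h1) (congrArg mx h2))) h

theorem mem_zpowers_neg_one {k : SL(2, F)} : k ∈ Subgroup.zpowers (-1 : SL(2, F)) ↔
    k = 1 ∨ k = -1 := by
  refine ⟨?_, ?_⟩
  · rintro ⟨i, rfl⟩
    rcases Int.even_or_odd i with h | h
    · exact Or.inl h.neg_one_zpow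
    · exact Or.inr h.neg_one_zpow
  · rintro (rfl | rfl)
    · exact Subgroup.one_mem _
    · exact Subgroup.mem_zpowers _

theorem FA.isRt [Finite F] [Finite L] (hπ : Proj π) (h2 : (2 : F) ≠ 0) (h3 : 3 ≤ Fintype.card κ)
    {T : Subgroup L} (hT : SylIn 2 T ⊤) {a b : L → L} (H : FA T a b)
    {A : Matrix κ (Fin 2) F} {B : Matrix (Fin 2) κ F} (h : B * A = 1) {k₁ k₂ : SL(2, F)}
    (e₁ : k₁ * k₁ = -1) (e₂ : k₂ * k₂ = -1) (e : k₂ * k₁ = -(k₁ * k₂))
    (m₁ : π (root h k₁) ∈ T) (m₂ : π (root h k₂) ∈ T) : IsRt π (a (π (root h k₁))) := by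
  have : Nonempty κ := Fintype.card_pos_iff.1 (by omega)
  have ha := H.g.hj
  have hb := H.g.hk
  have mz : π (root h (-1)) ∈ T := by
    rw [← e₁, map_mul, map_mul]; exact T.mul_mem m₁ m₁
  have hx : a (π (root h (-1))) ≠ 1 := fun e' => by
    have := H.g.kj _ mz
    rw [e', hb.map_one] at this
    exact neg_ne_self h2 1 (hπ.root_inj h3 h (by rw [← this, map_one, map_one]))
  obtain ⟨y₁, hy₁⟩ := hπ.surj (a (π (root h k₁)))
  obtain ⟨y₂, hy₂⟩ := hπ.surj (a (π (root h k₂)))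
  have s1 : π y₁ * π y₁ = a (π (root h (-1))) := by
    rw [hy₁, ← ha.map_mul m₁ m₁, ← map_mul, ← map_mul, e₁]
  obtain ⟨z, c₁, c₂, R, hz, HP⟩ := exists_pair hπ h2 s1
    (by rw [hy₂, ← ha.map_mul m₂ m₂, ← map_mul, ← map_mul, e₂])
    (by rw [hy₁, hy₂, ← ha.map_mul m₂ m₁, ← ha.map_mul m₁ m₂, ← ha.map_mul mz (T.mul_mem m₁ m₂),
      ← map_mul, ← map_mul, ← map_mul, ← map_mul, ← map_mul, ← map_mul, e, neg_one_mul]) hx
  by_cases h4 : Fintype.card κ = 4
  · obtain ⟨w, w1, w2, -⟩ := H66.exists_omega h2 e₁ e₂ e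
    have c1 : IsConj (a (π (root h k₁))) (a (π (root h k₂))) := H.ca _ m₁ _ m₂
      ((π.comp (root h)).map_isConj (_root_.isConj_iff.2 ⟨w, by rw [w1, mul_inv_cancel_right]⟩))
    have c2 : IsConj (a (π (root h k₂))) (a (π (root h (k₁ * k₂)))) := H.ca _ m₂ _
      (by rw [map_mul, map_mul]; exact T.mul_mem m₁ m₂)
      ((π.comp (root h)).map_isConj (_root_.isConj_iff.2 ⟨w, by rw [w2, mul_inv_cancel_right]⟩))
    rcases HP.isRt_of_four hπ h2 h4 with r | r | r
    · exact hy₁ ▸ r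
    · exact (hy₂ ▸ r).of_isConj hπ c1.symm
    · rw [map_mul, hy₁, hy₂, ← ha.map_mul m₁ m₂, ← map_mul, ← map_mul] at r
      exact r.of_isConj hπ (c1.trans c2).symm
  rw [← hy₁]
  refine HP.isRt_of_ne_four hπ h2 h4 fun w w1 w2 w3 => ?_
  have y4 : π y₁ ^ 2 ^ 2 = 1 := by
    have : π y₁ ^ 2 ^ 2 = π y₁ * π y₁ * (π y₁ * π y₁) := by
      simp only [pow_succ, pow_zero, one_mul, Nat.reduceMul, mul_assoc]
    rw [this, s1, ← ha.map_mul mz mz, ← map_mul, ← map_mul, neg_mul_neg, one_mul, map_one, map_one,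
      ha.map_one]
  have hP : IsPGroup 2 (Subgroup.zpowers (π y₁) ⊔ Subgroup.zpowers w : Subgroup L) :=
    (isPGroup_zpowers_of_pow y4).to_sup_of_normal_right'
      (isPGroup_zpowers_of_pow (n := 1) (by rw [pow_one, sq, w1]))
      (Subgroup.zpowers_le_of_mem (Subgroup.centralizer_le_normalizer _
        (Subgroup.mem_centralizer_iff.2 fun x hx => by
          obtain ⟨i, rfl⟩ := hx
          exact (Commute.zpow_left w2 i).eq)))
  obtain ⟨g, -, hg⟩ := hT.exists_conj_mem hP le_top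
  have mY := hg _ (Subgroup.mem_sup_left (Subgroup.mem_zpowers _))
  have mW := hg _ (Subgroup.mem_sup_right (Subgroup.mem_zpowers _))
  have my : π y₁ ∈ T := hy₁ ▸ H.g.mj _ m₁
  have r0 : IsRt π (b (π y₁)) := by
    rw [hy₁, H.g.kj _ m₁]; exact ⟨A, B, h, k₁, e₁, rfl⟩
  have r1 := r0.of_isConj hπ (H.cb _ my _ mY (_root_.isConj_iff.2 ⟨g, rfl⟩))
  have r2 := r0.of_isConj hπ (H.cb _ my _ (T.mul_mem mY mW)
    (w3.trans (_root_.isConj_iff.2 ⟨g, by group⟩)))
  rw [hb.map_mul mY mW] at r2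
  have q1 : g * w * g⁻¹ * (g * w * g⁻¹) = 1 := by
    rw [conj_mul, w1]; group
  have q2 : g * π y₁ * g⁻¹ * (g * w * g⁻¹) * (g * π y₁ * g⁻¹ * (g * w * g⁻¹)) =
      g * π y₁ * g⁻¹ * (g * π y₁ * g⁻¹) := by
    rw [conj_mul, conj_mul, conj_mul, mul_assoc (π y₁) w, ← mul_assoc w, w2, mul_assoc (π y₁) w,
      w1, mul_one]
  rcases r1.eq_or hπ h2 h3 h4 r2 (by
      rw [← hb.map_mul mY mW, ← hb.map_mul (T.mul_mem mY mW) (T.mul_mem mY mW), q2,
        hb.map_mul mY mY])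
    (by rw [← hb.map_mul mW mW, q1, hb.map_one]) with r | r
  · left
    have := congrArg a r
    rw [H.g.jk _ mW, ha.map_one] at this
    exact conj_eq_one_iff.1 this
  · right
    have := congrArg a r
    rw [H.g.jk _ mW, ← hb.map_mul mY mY, H.g.jk _ (T.mul_mem mY mY), conj_mul, s1] at this
    rw [hz]
    exact mul_left_cancel (mul_right_cancel this)

end Cfsg.Agent.H91.Rt
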