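import Cfsg.Agent.H91.Root4
import Cfsg.Agent.H64.SymSylow

/-! Systems of fundamental subgroups permuted by a Sylow `2`-subgroup of `SL_n(q)`. -/

set_option autoImplicit false
set_option linter.unusedSectionVars false

namespace Cfsg.Agent.H91.Rt

open Matrix Equiv
open scoped MatrixGroups

variable {F : Type*} [Field F] {κ : Type*} [Fintype κ] [DecidableEq κ]
  {L : Type*} [Group L] {π : SpecialLinearGroup κ F →* L} {m : ℕ}

/-- `t` permutes the blocks according to `σ` -/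
def Mv (A : Fin m → Matrix κ (Fin 2) F) (B : Fin m → Matrix (Fin 2) κ F)
    (t : SpecialLinearGroup κ F) (σ : Perm (Fin m)) : Prop :=
  ∀ j, mx t * (A j * B j) = A (σ j) * B (σ j) * mx t

/-- orthogonal frames filling the space up to a line -/
structure Frs (A : Fin m → Matrix κ (Fin 2) F) (B : Fin m → Matrix (Fin 2) κ F) : Prop where
  one : ∀ i, B i * A i = 1
  orth : ∀ i j, i ≠ j → B i * A j = 0
  res : ∃ (A₀ : Matrix κ Unit F) (B₀ : Matrix Unit κ F), ∑ j, A j * B j + A₀ * B₀ = 1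

theorem InK.conj {P P' g : Matrix κ κ F} (hg : InK P g) {t : SpecialLinearGroup κ F}
    (ht : mx t * P = P' * mx t) : InK P' (mx t * g * mx t⁻¹) := by
  have e : mx t * g * mx t⁻¹ - 1 = mx t * (g - 1) * mx t⁻¹ := by
    rw [mul_sub, sub_mul, mul_one, mx_mul_inv]
  have ht' : mx t⁻¹ * P' = P * mx t⁻¹ := by
    rw [← mx_inv_cancel t (P * mx t⁻¹), ← mul_assoc (mx t), ht, mul_assoc, mx_mul_inv, mul_one]
  rw [InK, e]
  exact ⟨by rw [mul_assoc, ht', ← mul_assoc, mul_assoc (mx t), hg.1],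
    by rw [← mul_assoc, ← mul_assoc, ← ht, mul_assoc (mx t), hg.2]⟩

namespace Frs

variable {A : Fin m → Matrix κ (Fin 2) F} {B : Fin m → Matrix (Fin 2) κ F} (H : Frs A B)
include H

theorem B_mul_P {i j : Fin m} (h : i ≠ j) : B i * (A j * B j) = 0 := by
  rw [← Matrix.mul_assoc, H.orth i j h, Matrix.zero_mul]

theorem P_mul_A {i j : Fin m} (h : i ≠ j) : A i * B i * A j = 0 := by
  rw [Matrix.mul_assoc, H.orth i j h, Matrix.mul_zero]

theorem P_mul_P {i j : Fin m} (h : i ≠ j) : A i * B i * (A j * B j) = 0 := by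
  rw [Matrix.mul_assoc, H.B_mul_P h, Matrix.mul_zero]

theorem mv_A {t : SpecialLinearGroup κ F} {σ : Perm (Fin m)} (h : Mv A B t σ) (j : Fin m) :
    mx t * A j = A (σ j) * (B (σ j) * mx t * A j) := by
  have : mx t * (A j * B j) * A j = A (σ j) * B (σ j) * mx t * A j := by rw [h j]
  simpa only [Matrix.mul_assoc, H.one j, Matrix.mul_one] using this

theorem mv_zero {t : SpecialLinearGroup κ F} {σ : Perm (Fin m)} (h : Mv A B t σ) {i j : Fin m}
    (hi : i ≠ σ j) : B i * (mx t * A j) = 0 := by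
  rw [H.mv_A h j, ← Matrix.mul_assoc, H.orth _ _ hi, Matrix.zero_mul]

theorem fix_of_root (h2 : (2 : F) ≠ 0) {A' : Matrix κ (Fin 2) F} {B' : Matrix (Fin 2) κ F}
    (h : B' * A' = 1) {k : SL(2, F)} (hk : k * k = -1) {σ : Perm (Fin m)}
    (hσ : Mv A B (root h k) σ) (j : Fin m) : σ j = j := by
  by_contra hj
  obtain ⟨g, hg⟩ : ∃ g, g = root h k := ⟨_, rfl⟩
  have hK : InK (A' * B') (mx g) := hg ▸ inK_root h k
  have hz : mx g * mx g = 1 - (2 : F) • (A' * B') := by
    rw [← mx_mul, hg, ← map_mul, hk, mx_root_neg_one]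
  rw [← hg] at hσ
  have e1 : B j * ((mx g - 1) * A j) = -1 := by
    rw [Matrix.sub_mul, Matrix.mul_sub, H.mv_zero hσ (Ne.symm hj), Matrix.one_mul, H.one, zero_sub]
  have e2 : (mx g - 1) * A j = A' * (B' * ((mx g - 1) * A j)) := by
    rw [← Matrix.mul_assoc, ← Matrix.mul_assoc, hK.2]
  obtain ⟨N, hN⟩ : ∃ N, N = B' * ((mx g - 1) * A j) := ⟨_, rfl⟩
  rw [← hN] at e2
  have e3 : -(B j * A') * N = 1 := by
    rw [Matrix.neg_mul, Matrix.mul_assoc, ← e2, e1, neg_neg]
  have e4 : A' = (mx g - 1) * A j * -(B j * A') := by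
    rw [e2, Matrix.mul_assoc, mul_eq_one_comm.1 e3, Matrix.mul_one]
  have hzA : ∀ i, i ≠ σ (σ j) → B i * ((1 - (2 : F) • (A' * B')) * A j) = 0 := fun i hi => by
    rw [← hz, Matrix.mul_assoc, H.mv_A hσ j, ← Matrix.mul_assoc (mx g), ← Matrix.mul_assoc,
      H.mv_zero hσ hi, Matrix.zero_mul]
  by_cases hl : σ (σ j) = j
  · have e5 := hzA (σ j) (by rw [hl]; exact hj)
    rw [Matrix.sub_mul, Matrix.mul_sub, Matrix.one_mul, H.orth _ _ hj, zero_sub, neg_eq_zero,
      Matrix.smul_mul, Matrix.mul_smul, smul_eq_zero, or_iff_right h2, Matrix.mul_assoc,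
      ← Matrix.mul_assoc] at e5
    have e6 : B (σ j) * A' = B (σ j) * mx g * A j * -(B j * A') := by
      conv_lhs => rw [e4, Matrix.sub_mul, Matrix.one_mul, ← Matrix.mul_assoc, Matrix.mul_sub,
        H.orth _ _ hj, sub_zero, ← Matrix.mul_assoc]
    have e7 : B j * mx g⁻¹ * A (σ j) * (B (σ j) * mx g * A j) = 1 := by
      rw [Matrix.mul_assoc, ← H.mv_A hσ j, Matrix.mul_assoc, mx_inv_cancel, H.one]
    have e8 : B' * A j = 0 := by
      have : N * (B j * mx g⁻¹ * A (σ j) * (B (σ j) * A' * (B' * A j))) = 0 := by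
        rw [e5, Matrix.mul_zero, Matrix.mul_zero]
      rwa [e6, Matrix.mul_assoc _ (-(B j * A')), ← Matrix.mul_assoc (B j * mx g⁻¹ * A (σ j)), e7,
        Matrix.one_mul, ← Matrix.mul_assoc, mul_eq_one_comm.1 e3, Matrix.one_mul] at this
    rw [← hK.1, Matrix.mul_assoc, Matrix.mul_assoc, e8, Matrix.mul_zero, Matrix.mul_zero,
      Matrix.mul_zero] at e1
    exact one_ne_zero2 (neg_eq_zero.1 e1.symm)
  · have hl' : σ (σ j) ≠ σ j := fun e => hj (σ.injective e)
    have e5 : B (σ (σ j)) * A' = 0 := by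
      rw [e4, Matrix.sub_mul, Matrix.one_mul, ← Matrix.mul_assoc, Matrix.mul_sub,
        H.mv_zero hσ hl', H.orth _ _ hl, sub_zero, Matrix.zero_mul]
    have e6 : B (σ (σ j)) * (mx g * (mx g * A j)) = 0 := by
      rw [← Matrix.mul_assoc (mx g), hz, Matrix.sub_mul, Matrix.mul_sub, Matrix.one_mul,
        H.orth _ _ hl, Matrix.smul_mul, Matrix.mul_smul, Matrix.mul_assoc, ← Matrix.mul_assoc,
        e5, Matrix.zero_mul, smul_zero, sub_zero]
    have e7 : mx g * (mx g * A j) = 0 := by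
      conv_lhs => rw [H.mv_A hσ j, ← Matrix.mul_assoc, H.mv_A hσ (σ j), Matrix.mul_assoc,
        Matrix.mul_assoc, Matrix.mul_assoc, ← H.mv_A hσ j, e6, Matrix.mul_zero]
    have e8 := H.one j
    rw [eq_zero_of_mx_mul g (eq_zero_of_mx_mul g e7), Matrix.mul_zero] at e8
    exact one_ne_zero2 e8.symm

theorem exists_frame_eq (h2 : (2 : F) ≠ 0) {A' : Matrix κ (Fin 2) F} {B' : Matrix (Fin 2) κ F}
    (h : B' * A' = 1) {k₁ k₂ : SL(2, F)} (e₁ : k₁ * k₁ = -1) (e₂ : k₂ * k₂ = -1)
    (e : k₂ * k₁ = -(k₁ * k₂)) {σ₁ σ₂ : Perm (Fin m)} (h₁ : Mv A B (root h k₁) σ₁)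
    (h₂ : Mv A B (root h k₂) σ₂) : ∃ j, A' * B' = A j * B j := by
  have cm : ∀ {k : SL(2, F)} {σ : Perm (Fin m)}, k * k = -1 → Mv A B (root h k) σ → ∀ j,
      mx (root h k) * (A j * B j) = A j * B j * mx (root h k) := fun {k σ} hk hσ j => by
    rw [hσ j, H.fix_of_root h2 h hk hσ j]
  have cm' : ∀ {k : SL(2, F)} {P : Matrix κ κ F},
      mx (root h k) * P = P * mx (root h k) → B' * P * A' * mx k = mx k * (B' * P * A') :=
    fun {k P} hP => by
      rw [Matrix.mul_assoc, ← ext_mul_A h, ← mx_root h, Matrix.mul_assoc, ← Matrix.mul_assoc P,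
        ← hP, Matrix.mul_assoc, ← Matrix.mul_assoc, mx_root, B_mul_ext h]
      simp only [Matrix.mul_assoc]
  have cP : ∀ j, A' * B' * (A j * B j) = A j * B j * (A' * B') := fun j => by
    have : mx (root h (-1)) * (A j * B j) = A j * B j * mx (root h (-1)) := by
      rw [← e₁, map_mul, mx_mul, mul_assoc, cm e₁ h₁ j, ← mul_assoc, cm e₁ h₁ j, mul_assoc]
    rw [mx_root_neg_one, sub_mul, mul_sub, one_mul, mul_one, smul_mul_assoc, mul_smul_comm,
      sub_right_inj] at this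
    exact smul_right_injective _ h2 this
  by_contra hne
  push Not at hne
  have hz : ∀ j, B' * (A j * B j) * A' = 0 := fun j => by
    obtain ⟨d, hd⟩ := scalar_of_comm_pair h2 e (cm' (cm e₁ h₁ j)) (cm' (cm e₂ h₂ j))
    have PA : A j * B j * A' = d • A' := by
      have : A j * B j * (A' * B') * A' = A' * B' * (A j * B j) * A' := by rw [cP j]
      rw [Matrix.mul_assoc, Matrix.mul_assoc A', h, Matrix.mul_one, Matrix.mul_assoc A',
        Matrix.mul_assoc A', hd, Matrix.mul_smul, Matrix.mul_one] at this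
      exact this
    have BP : B' * (A j * B j) = d • B' := by
      have : B' * (A' * B' * (A j * B j)) = B' * (A j * B j * (A' * B')) := by rw [cP j]
      rw [Matrix.mul_assoc A', cancelBA h, ← Matrix.mul_assoc (A j * B j), PA, Matrix.smul_mul,
        Matrix.mul_smul, cancelBA h] at this
      exact this
    have dd : d * d = d := by
      have : B' * (A j * B j * (A j * B j)) * A' = B' * (A j * B j) * A' := by
        rw [idem (H.one j)]
      rw [← Matrix.mul_assoc B', BP, Matrix.smul_mul, BP, smul_smul, Matrix.smul_mul,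
        Matrix.smul_mul, h] at this
      simpa using congrFun (congrFun this 0) 0
    by_cases d0 : d = 0
    · rw [hd, d0, zero_smul]
    · have d1 : d = 1 := mul_left_cancel₀ d0 (by rw [dd, mul_one])
      rw [d1, one_smul] at PA BP
      exact absurd (frame_eq_of_le h PA BP) (hne j)
  obtain ⟨A₀, B₀, hs⟩ := H.res
  have : B' * A₀ * (B₀ * A') = 1 := by
    have e0 : B' * (∑ j, A j * B j + A₀ * B₀) * A' = 1 := by rw [hs, Matrix.mul_one, h]
    rw [Matrix.mul_add, Matrix.add_mul, Matrix.mul_sum, Matrix.sum_mul,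
      Finset.sum_eq_zero fun j _ => hz j, zero_add] at e0
    rw [← e0]
    simp only [Matrix.mul_assoc]
  have h1 := congrArg det this
  rw [det_one, det_fin_two] at h1
  simp only [Matrix.mul_apply (M := B' * A₀), Finset.univ_unique, Finset.sum_singleton] at h1
  exact zero_ne_one (by linear_combination h1)

theorem index_eq (hπ : Proj π) (h2 : (2 : F) ≠ 0) {i j : Fin m} {k k' : SL(2, F)}
    (hk : k * k = -1) (e : π (root (H.one i) k) = π (root (H.one j) k')) : i = j := by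
  by_contra hij
  obtain ⟨c, hc⟩ := hπ.eq_iff.1 e
  exact not_inK_of_orth h2 (H.one i) hk (H.P_mul_A (Ne.symm hij)) (inK_root (H.one j) k') hc

theorem conj_root {t : SpecialLinearGroup κ F} {σ : Perm (Fin m)} (h : Mv A B t σ) (j : Fin m)
    (k : SL(2, F)) : ∃ k', root (H.one (σ j)) k' = t * root (H.one j) k * t⁻¹ :=
  exists_root_eq _ (by rw [mx_mul, mx_mul]; exact (inK_root (H.one j) k).conj (h j))

/-- block scalar matrices -/
def Diag (_ : Frs A B) (X : Matrix κ κ F) (d : Fin m → F) (d₀ : F) : Prop :=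
  (∀ j, X * (A j * B j) = d j • (A j * B j)) ∧
    X * (1 - ∑ j, A j * B j) = d₀ • (1 - ∑ j, A j * B j)

theorem eq_of_mul {X Y : Matrix κ κ F} (h : ∀ j, X * (A j * B j) = Y * (A j * B j))
    (h₀ : X * (1 - ∑ j, A j * B j) = Y * (1 - ∑ j, A j * B j)) : X = Y := by
  rw [mul_sub, mul_sub, mul_one, mul_one, Finset.mul_sum, Finset.mul_sum,
    Finset.sum_congr rfl fun j _ => h j] at h₀
  exact sub_left_injective h₀

theorem Diag.mul {X Y : Matrix κ κ F} {d e : Fin m → F} {d₀ e₀ : F} (hX : H.Diag X d d₀)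
    (hY : H.Diag Y e e₀) : H.Diag (X * Y) (fun j => e j * d j) (e₀ * d₀) :=
  ⟨fun j => by rw [mul_assoc, hY.1, mul_smul_comm, hX.1, smul_smul],
    by rw [mul_assoc, hY.2, mul_smul_comm, hX.2, smul_smul]⟩

theorem Diag.comm {X Y : Matrix κ κ F} {d e : Fin m → F} {d₀ e₀ : F} (hX : H.Diag X d d₀)
    (hY : H.Diag Y e e₀) : X * Y = Y * X :=
  H.eq_of_mul (fun j => by rw [(hX.mul H hY).1, (hY.mul H hX).1]; simp only [mul_comm (e j)])
    (by rw [(hX.mul H hY).2, (hY.mul H hX).2, mul_comm])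

theorem P_mul_res (i : Fin m) : A i * B i * (1 - ∑ j, A j * B j) = 0 := by
  rw [mul_sub, mul_one, Finset.mul_sum, Finset.sum_eq_single i (fun j _ hj => H.P_mul_P hj.symm)
    (fun h => absurd (Finset.mem_univ i) h), idem (H.one i), sub_self]

theorem diag_root (i : Fin m) :
    H.Diag (mx (root (H.one i) (-1))) (fun j => if j = i then -1 else 1) 1 := by
  rw [mx_root_neg_one]
  refine ⟨fun j => ?_, ?_⟩
  · by_cases h : j = i
    · subst h
      simp only [if_true, refl_mul_self (idem (H.one j)), neg_smul, one_smul]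
    · simp only [if_neg h, sub_mul, smul_mul_assoc, H.P_mul_P (Ne.symm h), smul_zero, sub_zero,
        one_mul, one_smul]
  · rw [sub_mul, smul_mul_assoc, H.P_mul_res, smul_zero, sub_zero, one_mul, one_smul]

theorem exists_diag {X : Matrix κ κ F} (hc : ∀ j, X * (A j * B j) = A j * B j * X)
    (hs : ∀ j, ∃ d : F, B j * X * A j = d • 1) : ∃ d d₀, H.Diag X d d₀ := by
  choose d hd using hs
  obtain ⟨A₀, B₀, e⟩ := H.res
  have e0 : 1 - ∑ j, A j * B j = A₀ * B₀ := by rw [← e]; abel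
  have c0 : X * (1 - ∑ j, A j * B j) = (1 - ∑ j, A j * B j) * X := by
    rw [mul_sub, sub_mul, mul_one, one_mul, Finset.mul_sum, Finset.sum_mul,
      Finset.sum_congr rfl fun j _ => hc j]
  have i0 : (1 - ∑ j, A j * B j) * (1 - ∑ j, A j * B j) = 1 - ∑ j, A j * B j := by
    conv_lhs => rw [sub_mul, one_mul, Finset.sum_mul, Finset.sum_eq_zero fun j _ => H.P_mul_res j,
      sub_zero]
  refine ⟨d, (B₀ * X * A₀) () (), fun j => ?_, ?_⟩
  · rw [← idem (H.one j), ← mul_assoc, hc j]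
    have : A j * B j * X * (A j * B j) = A j * (B j * X * A j) * B j := by
      simp only [Matrix.mul_assoc]
    rw [this, hd, Matrix.mul_smul, Matrix.mul_one, Matrix.smul_mul, idem (H.one j)]
  · conv_lhs => rw [← i0, ← mul_assoc, c0, e0]
    have e1 : A₀ * B₀ * X * (A₀ * B₀) = A₀ * (B₀ * X * A₀) * B₀ := by
      simp only [Matrix.mul_assoc]
    have e2 : B₀ * X * A₀ = (B₀ * X * A₀) () () • (1 : Matrix Unit Unit F) := by
      ext i j; simp
    rw [e1, e0]
    conv_lhs => rw [e2, Matrix.mul_smul, Matrix.mul_one, Matrix.smul_mul]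

end Frs

end Cfsg.Agent.H91.Rt
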