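import Cfsg.Agent.H91.Root5

/-! Conjugacy preserving automorphisms of odd order of a Sylow `2`-subgroup of `PSL_n(q)`,
`n ≥ 3`, are trivial. -/

set_option autoImplicit false
set_option linter.unusedSectionVars false

namespace Cfsg.Agent.H91.Rt

open Matrix Equiv
open scoped MatrixGroups

variable {F : Type*} [Field F] {κ : Type*} [Fintype κ] [DecidableEq κ]
  {L : Type*} [Group L] {π : SpecialLinearGroup κ F →* L} {m : ℕ}

theorem sq_eq_neg_one_of_anti (h2 : (2 : F) ≠ 0) {c k : SL(2, F)} (h : k * c = -(c * k)) :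
    k * k = -1 := by
  have hne : c * k ≠ k * c := fun e => neg_ne_self h2 _ (h.symm.trans e.symm)
  rcases eq_or_neg_of_comm (e := k * k) hne
    (by rw [mul_assoc, h, mul_neg, ← mul_assoc, h, neg_mul, neg_neg, mul_assoc])
    (mul_assoc _ _ _) with e | e
  · rcases eq_or_neg_of_sq h2 e with rfl | rfl
    · exact absurd (by rw [mul_one, one_mul]) hne
    · exact absurd (by rw [mul_neg, neg_mul, mul_one, one_mul]) hne
  · exact e

theorem isSquare_det_of_pm (h2 : (2 : F) ≠ 0) {c h : SL(2, F)} (e : h * c = -(c * h))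
    {τ : Matrix (Fin 2) (Fin 2) F} (h1 : τ * mx c = mx c * τ ∨ τ * mx c = -(mx c * τ))
    (h1' : τ * mx h = mx h * τ ∨ τ * mx h = -(mx h * τ)) : IsSquare τ.det := by
  have e1 : mx h * mx c = -(mx c * mx h) := congrArg mx e
  have key : ∀ q : SL(2, F), τ * mx q * mx c = mx c * (τ * mx q) →
      τ * mx q * mx h = mx h * (τ * mx q) → IsSquare τ.det := fun q a b => by
    obtain ⟨d, hd⟩ := scalar_of_comm_pair h2 e a b
    have := congrArg det hd
    rw [det_mul, det_mx, mul_one, det_smul, det_one, mul_one, Fintype.card_fin] at this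
    exact ⟨d, by rw [this, sq]⟩
  have e2 : mx c * mx h = -(mx h * mx c) := by rw [e1, neg_neg]
  rcases h1 with a | a <;> rcases h1' with b | b
  · exact key 1 (by rw [mx_one, mul_one, a]) (by rw [mx_one, mul_one, b])
  · refine key c (by rw [← mul_assoc, ← a]) ?_
    rw [mul_assoc, e2, mul_neg, ← mul_assoc, b, neg_mul, neg_neg, mul_assoc]
  · refine key h ?_ (by rw [← mul_assoc, ← b])
    rw [mul_assoc, e1, mul_neg, ← mul_assoc, a, neg_mul, neg_neg, mul_assoc]
  · refine key (c * h) ?_ ?_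
    · rw [mx_mul, mul_assoc, mul_assoc, e1, mul_neg, mul_neg, ← mul_assoc, a, neg_mul, neg_neg,
        mul_assoc]
    · rw [mx_mul]
      conv_lhs => rw [e2, mul_neg, neg_mul, ← mul_assoc τ, b, neg_mul, neg_mul, neg_neg]
      simp only [mul_assoc]

/-- the stabilizer of an idempotent -/
def cP (P : Matrix κ κ F) : Subgroup (SpecialLinearGroup κ F) where
  carrier := {g | mx g * P = P * mx g}
  one_mem' := by show mx 1 * P = P * mx 1; rw [mx_one, one_mul, mul_one]
  mul_mem' {a b} ha hb := by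
    show mx (a * b) * P = P * mx (a * b)
    rw [mx_mul, mul_assoc, show mx b * P = P * mx b from hb, ← mul_assoc,
      show mx a * P = P * mx a from ha, mul_assoc]
  inv_mem' {a} ha := by
    show mx a⁻¹ * P = P * mx a⁻¹
    rw [← mx_inv_cancel a (P * mx a⁻¹), ← mul_assoc (mx a), show mx a * P = P * mx a from ha,
      mul_assoc, mx_mul_inv, mul_one]

theorem corner_comm {A : Matrix κ (Fin 2) F} {B : Matrix (Fin 2) κ F} (h : B * A = 1)
    {t : SpecialLinearGroup κ F} {k k' : SL(2, F)} (e : t * root h k * t⁻¹ = root h k') :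
    B * mx t * A * mx k = mx k' * (B * mx t * A) := by
  have e1 : mx t * mx (root h k) = mx (root h k') * mx t := by
    rw [← mx_mul, ← mx_mul, ← e, inv_mul_cancel_right]
  rw [Matrix.mul_assoc, ← ext_mul_A h, ← mx_root h, Matrix.mul_assoc, ← Matrix.mul_assoc (mx t), e1,
    Matrix.mul_assoc, ← Matrix.mul_assoc, mx_root, B_mul_ext h]
  simp only [Matrix.mul_assoc]

/-- a Sylow `2`-subgroup of `SL_n(q)` adapted to a system of frames -/
structure Sys (T : Subgroup (SpecialLinearGroup κ F)) (T₀ : Sylow 2 (Perm (Fin m)))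
    (A : Fin m → Matrix κ (Fin 2) F) (B : Fin m → Matrix (Fin 2) κ F) : Prop where
  fr : Frs A B
  syl : SylIn 2 T ⊤
  mv : ∀ t ∈ T, ∃ σ ∈ T₀, Mv A B t σ
  lift : ∀ σ ∈ T₀, ∃ t ∈ T, Mv A B t σ
  nab : ∀ j, ∃ k k', root (fr.one j) k ∈ T ∧ root (fr.one j) k' ∈ T ∧ k * k' ≠ k' * k
  nsq : ∀ j, ∃ t ∈ T, mx t * (A j * B j) = A j * B j * mx t ∧ ¬ IsSquare (B j * mx t * A j).det

namespace Sys

variable {T : Subgroup (SpecialLinearGroup κ F)} {T₀ : Sylow 2 (Perm (Fin m))}
  {A : Fin m → Matrix κ (Fin 2) F} {B : Fin m → Matrix (Fin 2) κ F} (H : Sys T T₀ A B)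
  [Finite F] (h2 : (2 : F) ≠ 0)
include H h2

theorem exists_c (j : Fin m) : ∃ c h : SL(2, F), root (H.fr.one j) c ∈ T ∧
    root (H.fr.one j) h ∈ T ∧ h * c = -(c * h) ∧ ∀ t ∈ T, t ∈ cP (A j * B j) →
      t * root (H.fr.one j) c * t⁻¹ = root (H.fr.one j) c ∨
        t * root (H.fr.one j) c * t⁻¹ = root (H.fr.one j) (-c) := by
  have hf := H.fr.one j
  obtain ⟨k, k', m1, m2, hne⟩ := H.nab j
  obtain ⟨_, ⟨hc, c, rfl⟩, hcZ, hN⟩ := exists_second_center (N := T ⊓ cP (A j * B j))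
    (Q := T ⊓ (root hf).range) (Z := (Subgroup.zpowers (-1)).map (root hf))
    H.syl.isPGroup.to_inf_left (by
      rintro _ ⟨h1, k, rfl⟩
      exact ⟨h1, (inK_root hf k).comm⟩) (by
      rintro n ⟨h1, h3⟩ _ ⟨h4, k, rfl⟩
      refine ⟨T.mul_mem (T.mul_mem h1 h4) (T.inv_mem h1), exists_root_eq hf ?_⟩
      rw [mx_mul, mx_mul]
      exact (inK_root hf k).conj h3) (fun hle => by
      obtain ⟨k₀, h0, e⟩ := hle ⟨m1, k, rfl⟩
      obtain rfl := root_inj hf e
      rcases mem_zpowers_neg_one.1 h0 with rfl | rfl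
      · exact hne (by rw [mul_one, one_mul])
      · exact hne (by rw [mul_neg, neg_mul, mul_one, one_mul]))
  have key : ∀ t ∈ T, t ∈ cP (A j * B j) → t * root hf c * t⁻¹ = root hf c ∨
      t * root hf c * t⁻¹ = root hf (-c) := fun t h1 h3 => by
    obtain ⟨k₀, h0, e⟩ := hN t ⟨h1, h3⟩
    rw [eq_mul_inv_iff_mul_eq, ← map_mul] at e
    rcases mem_zpowers_neg_one.1 h0 with rfl | rfl
    · exact Or.inl (by rw [← e, one_mul])
    · exact Or.inr (by rw [← e, neg_one_mul])
  have key' : ∀ k, root hf k ∈ T → k * c = c * k ∨ k * c = -(c * k) := fun k hk =>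
    (key _ hk (inK_root hf k).comm).imp
      (fun e => by
        rw [← map_inv, ← map_mul, ← map_mul] at e
        exact mul_inv_eq_iff_eq_mul.1 (root_inj hf e))
      fun e => by
        rw [← map_inv, ← map_mul, ← map_mul] at e
        rw [mul_inv_eq_iff_eq_mul.1 (root_inj hf e), neg_mul]
  rcases key' k m1 with a | a
  · rcases key' k' m2 with b | b
    · exact absurd ⟨c, mem_zpowers_neg_one.2 (eq_or_neg_of_comm hne a.symm b.symm), rfl⟩ hcZ
    · exact ⟨c, k', hc, m2, b, key⟩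
  · exact ⟨c, k, hc, m1, a, key⟩

variable [Finite L] (hπ : Proj π) (h3 : 3 ≤ Fintype.card κ)
include hπ h3

theorem sylL : SylIn 2 (T.map π) ⊤ := by
  have := H.syl.map π
  rwa [Subgroup.map_top_of_surjective _ hπ.surj] at this

theorem mv_of_mem {g : SpecialLinearGroup κ F} (h : π g ∈ T.map π) : ∃ σ ∈ T₀, Mv A B g σ := by
  obtain ⟨t, ht, e⟩ := h
  obtain ⟨c, hc⟩ := hπ.eq_iff.1 e
  obtain ⟨σ, h1, h4⟩ := H.mv t ht
  exact ⟨σ, h1, fun j => by rw [hc, smul_mul_assoc, mul_smul_comm, h4 j]⟩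

theorem mem_of_proj {j : Fin m} {k : SL(2, F)} (h : π (root (H.fr.one j) k) ∈ T.map π) :
    root (H.fr.one j) k ∈ T := by
  obtain ⟨n, hn⟩ := (H.sylL h2 hπ h3).isPGroup ⟨_, h⟩
  have h1 : k ^ 2 ^ n = 1 := hπ.root_inj h3 (H.fr.one j) (by
    rw [map_pow, map_pow, map_one, map_one]; exact congrArg Subtype.val hn)
  obtain ⟨t, ht, e⟩ := h
  obtain ⟨c, hc⟩ := hπ.eq_iff.1 e
  refine mem_of_normalizes H.syl (n := n) (by rw [← map_pow, h1, map_one])
    (mem_normalizer_of_conj_mem fun x hx => ?_)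
  have : root (H.fr.one j) k * x * (root (H.fr.one j) k)⁻¹ = t * x * t⁻¹ := by
    rw [mul_inv_eq_iff_eq_mul]
    refine mx_inj ?_
    rw [mx_mul, mx_mul, mx_mul, mx_mul, hc, mul_smul_comm, smul_mul_assoc, mul_assoc, mx_inv_mul,
      mul_one]
  rw [this]
  exact T.mul_mem (T.mul_mem ht hx) (T.inv_mem ht)

/-- `a` carries the `i`-th quaternion subgroup into the `j`-th one -/
def Rel (π : SpecialLinearGroup κ F →* L) (a : L → L) (i j : Fin m) : Prop :=
  ∀ k, root (H.fr.one i) k ∈ T → ∃ k', root (H.fr.one j) k' ∈ T ∧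
    a (π (root (H.fr.one i) k)) = π (root (H.fr.one j) k')

theorem exists_rel {a b : L → L} (G : FA (T.map π) a b) (i : Fin m) : ∃ j, H.Rel π a i j := by
  have hf := H.fr.one i
  have hS := H.sylL h2 hπ h3
  have ha := G.g.hj
  obtain ⟨c, h, mc, mh, e, hN⟩ := H.exists_c h2 i
  have e' : ∀ {k : SL(2, F)}, k * c = -(c * k) → c * k = -(k * c) := fun e => by rw [e, neg_neg]
  have cc := sq_eq_neg_one_of_anti h2 (e' e)
  have im : ∀ {g}, g ∈ T → π g ∈ T.map π := fun hg => ⟨_, hg, rfl⟩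
  obtain ⟨A', B', h', c', cc', ec⟩ := G.isRt hπ h2 h3 hS hf cc (sq_eq_neg_one_of_anti h2 e) e
    (im mc) (im mh)
  have mz : root hf (-1) ∈ T := by rw [← cc, map_mul]; exact T.mul_mem mc mc
  have ez : a (π (root hf (-1))) = π (root h' (-1)) := by
    conv_lhs => rw [← cc, map_mul, map_mul, ha.map_mul (im mc) (im mc), ← ec, ← map_mul, ← map_mul,
      cc']
  have key : ∀ k, root hf k ∈ T → k * c = -(c * k) → ∃ k', k' * c' = -(c' * k') ∧
      a (π (root hf k)) = π (root h' k') := fun k mk ek => by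
    have kk := sq_eq_neg_one_of_anti h2 ek
    obtain ⟨A'', B'', h'', k', kk', ek'⟩ := G.isRt hπ h2 h3 hS hf kk cc (e' ek) (im mk) (im mc)
    have an : π (root h'' k') * π (root h' c') =
        π (root h' (-1)) * (π (root h' c') * π (root h'' k')) := by
      rw [ek', ec, ← ez, ← ha.map_mul (im mk) (im mc), ← ha.map_mul (im mc) (im mk),
        ← ha.map_mul (im mz) ((T.map π).mul_mem (im mc) (im mk)), ← map_mul, ← map_mul, ← map_mul,
        ← map_mul, ← map_mul, ← map_mul, ek, neg_one_mul]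
    rcases hπ.frame_eq_or h2 h' h'' (by
      conv_rhs => rw [← kk', map_mul, map_mul, ek', ← ha.map_mul (im mk) (im mk), ← map_mul,
        ← map_mul, kk, ez]) with e1 | e1
    · obtain ⟨k'', hk''⟩ := exists_root_eq h' (e1 ▸ inK_root h'' k')
      refine ⟨k'', hπ.root_inj h3 h' ?_, by rw [hk'', ek']⟩
      rw [← neg_one_mul, map_mul, map_mul, map_mul, map_mul, map_mul, map_mul, hk'', an]
    · exfalso
      have : root h'' k' * root h' c' = root h' c' * root h'' k' := mx_inj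
        ((inK_root h'' k').comm_of_orth (inK_root h' c')
          (by rw [e1, sub_mul, one_mul, idem h', sub_self])
          (by rw [e1, mul_sub, mul_one, idem h', sub_self]))
      rw [← map_mul, this, map_mul] at an
      exact neg_ne_self h2 1 (hπ.root_inj h3 h' (by
        rw [map_one, map_one]; exact (mul_right_cancel ((one_mul _).trans an)).symm))
  obtain ⟨h₁, eh₁, eh₂⟩ := key h mh e
  obtain ⟨σ₁, -, s₁⟩ := H.mv_of_mem h2 hπ h3 (g := root h' c') (ec ▸ G.g.mj _ (im mc))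
  obtain ⟨σ₂, -, s₂⟩ := H.mv_of_mem h2 hπ h3 (g := root h' h₁) (eh₂ ▸ G.g.mj _ (im mh))
  obtain ⟨j, hj⟩ := H.fr.exists_frame_eq h2 h' cc' (sq_eq_neg_one_of_anti h2 eh₁) eh₁ s₁ s₂
  have fin : ∀ k, root hf k ∈ T → (∃ k', a (π (root hf k)) = π (root h' k')) →
      ∃ k', root (H.fr.one j) k' ∈ T ∧ a (π (root hf k)) = π (root (H.fr.one j) k') := by
    rintro k mk ⟨k', ek⟩
    obtain ⟨k'', hk''⟩ := exists_root_eq (H.fr.one j) (hj ▸ inK_root h' k')
    exact ⟨k'', H.mem_of_proj h2 hπ h3 (by rw [hk'', ← ek]; exact G.g.mj _ (im mk)),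
      by rw [hk'', ek]⟩
  refine ⟨j, fun k mk => fin k mk ?_⟩
  rcases hN _ mk (inK_root hf k).comm with e1 | e1
  · rw [← map_inv, ← map_mul, ← map_mul] at e1
    have e2 := mul_inv_eq_iff_eq_mul.1 (root_inj hf e1)
    have mhk : root hf (h * k) ∈ T := by rw [map_mul]; exact T.mul_mem mh mk
    obtain ⟨k', -, ek⟩ := key (h * k) mhk (by
      rw [mul_assoc, e2, ← mul_assoc, e, neg_mul, mul_assoc])
    refine ⟨h₁⁻¹ * k', ?_⟩
    rw [map_mul, map_mul, map_inv, map_inv, ← ek, ← eh₂, map_mul, map_mul,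
      ha.map_mul (im mh) (im mk), inv_mul_cancel_left]
  · rw [← map_inv, ← map_mul, ← map_mul] at e1
    obtain ⟨k', -, ek⟩ := key k mk (by rw [mul_inv_eq_iff_eq_mul.1 (root_inj hf e1), neg_mul])
    exact ⟨k', ek⟩

omit h2 hπ h3 [Finite F] [Finite L] in
theorem Rel.comp {a a' : L → L} {i j l : Fin m} (h : H.Rel π a i j) (h' : H.Rel π a' j l) :
    H.Rel π (fun x => a' (a x)) i l := fun k mk => by
  obtain ⟨k', m', e⟩ := h k mk
  obtain ⟨k'', m'', e'⟩ := h' k' m'
  exact ⟨k'', m'', by show a' (a _) = _; rw [e, e']⟩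

theorem Rel.eq_of_fix {a : L → L} {i j : Fin m} (h : H.Rel π a i j)
    (ha : ∀ x ∈ T.map π, a x = x) : i = j := by
  obtain ⟨c, k, mc, -, e, -⟩ := H.exists_c h2 i
  obtain ⟨c', -, e'⟩ := h c mc
  rw [ha _ ⟨_, mc, rfl⟩] at e'
  exact H.fr.index_eq hπ h2 (sq_eq_neg_one_of_anti h2 (c := k) (by rw [e, neg_neg])) e'

theorem sq_of_rel {a b : L → L} (G : FA (T.map π) a b) {i j : Fin m} {c c' : SL(2, F)}
    (mc : root (H.fr.one i) c ∈ T) (cc : c * c = -1)
    (e : a (π (root (H.fr.one i) c)) = π (root (H.fr.one j) c')) : c' * c' = -1 := by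
  have m1 : π (root (H.fr.one i) c) ∈ T.map π := ⟨_, mc, rfl⟩
  have e1 : a (π (root (H.fr.one i) (c * c))) = π (root (H.fr.one j) (c' * c')) := by
    rw [map_mul, map_mul, G.g.hj.map_mul m1 m1, e, map_mul, map_mul]
  have m2 : π (root (H.fr.one i) (c * c)) ∈ T.map π := by
    rw [map_mul, map_mul]; exact (T.map π).mul_mem m1 m1
  have e2 : c' * c' * (c' * c') = 1 := hπ.root_inj h3 (H.fr.one j) (by
    rw [map_mul, map_mul, ← e1, ← G.g.hj.map_mul m2 m2, ← map_mul, ← map_mul, cc, neg_mul_neg,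
      one_mul, map_one, map_one, map_one, map_one, G.g.hj.map_one])
  refine (eq_or_neg_of_sq h2 e2).resolve_left fun e3 => ?_
  have := G.g.kj _ m2
  rw [e1, e3, map_one, map_one, G.g.hk.map_one, cc] at this
  exact neg_ne_self h2 1 (hπ.root_inj h3 (H.fr.one i) (by rw [← this, map_one, map_one]))

theorem rel_self {a b : L → L} (G : FA (T.map π) a b) (hp : PP 2 (T.map π) a) (i : Fin m) :
    H.Rel π a i i := by
  choose s hs using H.exists_rel h2 hπ h3 G
  choose s' hs' using H.exists_rel h2 hπ h3 G.symm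
  let σ : Perm (Fin m) := ⟨s, s', fun i =>
    (Rel.eq_of_fix H h2 hπ h3 ((hs i).comp H (hs' (s i))) G.g.kj).symm, fun i =>
    (Rel.eq_of_fix H h2 hπ h3 ((hs' i).comp H (hs (s' i))) G.g.jk).symm⟩
  have hσ : ∀ i, H.Rel π a i (σ i) := hs
  have it : ∀ n i, H.Rel π a^[n] i ((σ ^ n) i) := by
    intro n
    induction n with
    | zero => exact fun i k mk => ⟨k, mk, rfl⟩
    | succ n ih =>
      intro i
      rw [Function.iterate_succ', pow_succ']
      exact (ih i).comp H (hσ _)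
  obtain ⟨-, o, ho, hper⟩ := hp
  have h1 : σ ^ o = 1 := Equiv.ext fun i => (Rel.eq_of_fix H h2 hπ h3 (it o i) hper).symm
  have h4 : σ ∈ Subgroup.normalizer (T₀ : Set (Perm (Fin m))) := by
    refine Subgroup.mem_normalizer_fintype fun τ hτ => ?_
    obtain ⟨t, mt, ht⟩ := H.lift τ hτ
    obtain ⟨t', mt', et⟩ := G.g.mj _ ⟨t, mt, rfl⟩
    obtain ⟨τ', hτ', ht'⟩ := H.mv t' mt'
    suffices σ * τ * σ⁻¹ = τ' from this ▸ hτ'
    rw [mul_inv_eq_iff_eq_mul]
    refine Equiv.ext fun i => ?_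
    show σ (τ i) = τ' (σ i)
    obtain ⟨c, k, mc, -, e, -⟩ := H.exists_c h2 i
    have cc := sq_eq_neg_one_of_anti h2 (c := k) (k := c) (by rw [e, neg_neg])
    obtain ⟨c₁, e₁⟩ := H.fr.conj_root ht i c
    have m₁ : root (H.fr.one (τ i)) c₁ ∈ T := e₁ ▸ T.mul_mem (T.mul_mem mt mc) (T.inv_mem mt)
    have cc₁ : c₁ * c₁ = -1 := by
      refine (eq_or_neg_of_sq h2 (root_inj (H.fr.one (τ i)) ?_)).resolve_left fun e3 => ?_
      · rw [map_mul, map_mul, e₁, conj_mul, conj_mul, ← map_mul, ← map_mul, cc, neg_mul_neg,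
          one_mul, map_one, map_one, mul_one, mul_inv_cancel]
      · have := congrArg (root (H.fr.one (τ i))) e3
        rw [map_mul, e₁, conj_mul, ← map_mul, cc, map_one, conj_eq_one_iff] at this
        exact neg_ne_self h2 1 (root_inj (H.fr.one i) (by rw [this, map_one]))
    obtain ⟨c₂, -, e₂⟩ := hσ (τ i) c₁ m₁
    obtain ⟨c', -, e'⟩ := hσ i c mc
    obtain ⟨c₃, e₃⟩ := H.fr.conj_root ht' (σ i) c'
    refine H.fr.index_eq hπ h2 (H.sq_of_rel h2 hπ h3 G m₁ cc₁ e₂) (k' := c₃) ?_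
    rw [← e₂, e₁, e₃, map_mul, map_mul, map_mul, map_mul, map_inv, map_inv,
      G.g.hj.map_conj ⟨t, mt, rfl⟩ ⟨_, mc, rfl⟩, et, e']
  have h5 := H64.perm_sylow_odd_aux _ (Fin m) rfl T₀ σ h4
    ((Nat.coprime_two_right.1 ho).of_dvd_nat (orderOf_dvd_of_pow_eq_one h1))
  have := hσ i
  rwa [h5] at this

theorem fix_root {a b : L → L} (G : FA (T.map π) a b) (hp : PP 2 (T.map π) a) (i : Fin m)
    {k : SL(2, F)} (mk : root (H.fr.one i) k ∈ T) :
    a (π (root (H.fr.one i) k)) = π (root (H.fr.one i) k) := by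
  have hf := H.fr.one i
  have hS := H.sylL h2 hπ h3
  have ha := G.g.hj
  have hR := H.rel_self h2 hπ h3 G hp i
  have hR' : H.Rel π b i i := fun k mk => by
    obtain ⟨y, hy, e⟩ := (hp.restrict (X := (T ⊓ (root hf).range).map π)
      (Subgroup.map_mono inf_le_left) (by
        rintro _ ⟨_, ⟨h1, k, rfl⟩, rfl⟩
        obtain ⟨k', m', e⟩ := hR k h1
        exact ⟨_, ⟨m', k', rfl⟩, e.symm⟩)).surj ⟨_, ⟨mk, k, rfl⟩, rfl⟩
    obtain ⟨_, ⟨h1, k', rfl⟩, rfl⟩ := hy
    exact ⟨k', h1, by rw [← e, G.g.kj _ ⟨_, h1, rfl⟩]⟩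
  obtain ⟨c, h, mc, mh, e, hN⟩ := H.exists_c h2 i
  have im : ∀ {g}, g ∈ T → π g ∈ T.map π := fun hg => ⟨_, hg, rfl⟩
  have cc := sq_eq_neg_one_of_anti h2 (c := h) (k := c) (by rw [e, neg_neg])
  have mz : root hf (-1) ∈ T := by rw [← cc, map_mul]; exact T.mul_mem mc mc
  obtain ⟨c', mc', ec⟩ := hR c mc
  have cc' := H.sq_of_rel h2 hπ h3 G mc cc ec
  have ez : a (π (root hf (-1))) = π (root hf (-1)) := by
    conv_lhs => rw [← cc, map_mul, map_mul, ha.map_mul (im mc) (im mc), ec, ← map_mul, ← map_mul,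
      cc']
  have hN' : ∀ t ∈ T, t ∈ cP (A i * B i) → t * root hf c' * t⁻¹ = root hf c' ∨
      t * root hf c' * t⁻¹ = root hf (-c') := fun t mt ht => by
    obtain ⟨n, mn, en⟩ := G.g.mk' _ (im mt)
    have en' : a (π n) = π t := by rw [en, G.g.jk _ (im mt)]
    have K1 : InK (A i * B i) (mx (t * root hf c' * t⁻¹)) := by
      rw [mx_mul, mx_mul]; exact (inK_root hf c').conj ht
    obtain ⟨c₁, e₁⟩ := exists_root_eq hf K1
    have hn : n ∈ cP (A i * B i) := by
      obtain ⟨τ, -, hτ⟩ := H.mv n mn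
      obtain ⟨c₂, e₂⟩ := H.fr.conj_root hτ i c
      obtain ⟨c₃, -, e₃⟩ := hR' c₁ (e₁ ▸ T.mul_mem (T.mul_mem mt mc') (T.inv_mem mt))
      have : i = τ i := H.fr.index_eq hπ h2 (H.sq_of_rel h2 hπ h3 G.symm
        (e₁ ▸ T.mul_mem (T.mul_mem mt mc') (T.inv_mem mt)) (root_inj hf (by
          rw [map_mul, e₁, conj_mul, ← map_mul, cc']
          refine mx_inj ?_
          rw [mx_mul, mx_mul, mx_root_neg_one, mul_sub, mul_smul_comm,
            show mx t * (A i * B i) = A i * B i * mx t from ht, sub_mul, smul_mul_assoc,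
            mul_assoc (A i * B i), mul_one, mx_mul_inv, mul_one])) e₃) (k' := c₂) (by
        rw [← e₃, e₁, e₂, map_mul, map_mul, map_mul, map_mul, map_inv, map_inv,
          G.g.hk.map_conj (im mt) (im mc'), en, ← ec, G.g.kj _ (im mc)])
      have h5 := hτ i
      rwa [← this] at h5
    have e4 : π (t * root hf c' * t⁻¹) = a (π (n * root hf c * n⁻¹)) := by
      rw [map_mul, map_mul, map_mul, map_mul, map_inv, map_inv, ha.map_conj (im mn) (im mc), en', ec]
    refine (hN n mn hn).imp (fun e5 => ?_) fun e5 => ?_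
    · exact hπ.eq_of_inK (frame_ne_one hf h3) K1 (inK_root hf _) (by rw [e4, e5, ec])
    · refine hπ.eq_of_inK (frame_ne_one hf h3) K1 (inK_root hf _) ?_
      rw [e4, e5, ← neg_one_mul c, ← neg_one_mul c', map_mul, map_mul, map_mul, map_mul,
        ha.map_mul (im mz) (im mc), ez, ec]
  have ecc : c' = c ∨ c' = -c := by
    by_cases hc : c * c' = c' * c
    · have : c⁻¹ * c' * (c⁻¹ * c') = 1 := by
        have e1 : c⁻¹ = -c := inv_eq_of_mul_eq_one_right (by rw [mul_neg, cc, neg_neg])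
        rw [e1, neg_mul, neg_mul_neg, mul_assoc, ← mul_assoc c', ← hc, mul_assoc, cc', ← mul_assoc,
          cc, neg_mul_neg, one_mul]
      exact (eq_or_neg_of_sq h2 this).imp (fun e1 => (inv_mul_eq_one.1 e1).symm) fun e1 => by
        rw [inv_mul_eq_iff_eq_mul.1 e1, mul_neg, mul_one]
    exfalso
    have e1 : c' * c = -(c * c') := by
      rcases hN _ mc' (inK_root hf c').comm with e1 | e1
      · rw [← map_inv, ← map_mul, ← map_mul] at e1
        exact absurd (mul_inv_eq_iff_eq_mul.1 (root_inj hf e1)).symm hc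
      · rw [← map_inv, ← map_mul, ← map_mul] at e1
        rw [mul_inv_eq_iff_eq_mul.1 (root_inj hf e1), neg_mul]
    obtain ⟨t, mt, ht, hns⟩ := H.nsq i
    exact hns (isSquare_det_of_pm h2 e1
      ((hN t mt ht).imp (corner_comm hf) fun e2 => by rw [corner_comm hf e2, mx_neg, neg_mul])
      ((hN' t mt ht).imp (corner_comm hf) fun e2 => by rw [corner_comm hf e2, mx_neg, neg_mul]))
  let φ := π.comp (root hf)
  have hφ : ∀ k, φ k = π (root hf k) := fun _ => rfl
  let Q : Subgroup L := (T.comap (root hf)).map φ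
  let C : Subgroup L := (T.comap (root hf) ⊓ Subgroup.centralizer {c}).map φ
  have hQ : Q ≤ T.map π := by rintro _ ⟨k, hk, rfl⟩; exact im hk
  have hC : C ≤ Q := Subgroup.map_mono inf_le_left
  have memC : ∀ {k}, root hf k ∈ T → k * c = c * k → φ k ∈ C := fun {k} h1 h4 =>
    ⟨k, ⟨h1, Subgroup.mem_centralizer_singleton_iff.2 h4⟩, rfl⟩
  have cm : ∀ {k k' : SL(2, F)}, root hf k ∈ T → a (π (root hf k)) = π (root hf k') →
      (k * c = c * k → k' * c = c * k') ∧ (k * c = -(c * k) → k' * c = -(c * k')) :=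
    fun {k k'} mk ek => by
      refine ⟨fun e1 => ?_, fun e1 => ?_⟩
      · have : k' * c' = c' * k' := hπ.root_inj h3 hf (by
          rw [map_mul, map_mul, map_mul, map_mul, ← ek, ← ec, ← ha.map_mul (im mk) (im mc),
            ← ha.map_mul (im mc) (im mk), ← map_mul, ← map_mul, ← map_mul, ← map_mul, e1])
        rcases ecc with rfl | rfl
        · exact this
        · rwa [mul_neg, neg_mul, neg_inj] at this
      · have : k' * c' = -1 * (c' * k') := hπ.root_inj h3 hf (by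
          rw [map_mul, map_mul, map_mul, map_mul, map_mul, map_mul, ← ek, ← ec, ← ez,
            ← ha.map_mul (im mk) (im mc), ← ha.map_mul (im mc) (im mk),
            ← ha.map_mul (im mz) ((T.map π).mul_mem (im mc) (im mk)), ← map_mul, ← map_mul,
            ← map_mul, ← map_mul, ← map_mul, ← map_mul, e1, neg_one_mul])
        rw [neg_one_mul] at this
        rcases ecc with rfl | rfl
        · exact this
        · rwa [mul_neg, neg_mul, neg_inj] at this
  have pQ : PP 2 Q a := hp.restrict hQ (by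
    rintro _ ⟨k, hk, rfl⟩
    obtain ⟨k', m', e⟩ := hR k hk
    exact ⟨k', m', e.symm⟩)
  have pC : PP 2 C a := hp.restrict (hC.trans hQ) (by
    rintro _ ⟨k, ⟨h1, h4⟩, rfl⟩
    obtain ⟨k', m', e⟩ := hR k h1
    rw [hφ, e]
    exact memC m' ((cm h1 e).1 (Subgroup.mem_centralizer_singleton_iff.1 h4)))
  have cns : ¬ ∃ d : F, mx c = d • 1 := fun ⟨d, hd⟩ => neg_ne_self h2 (c * h) (e.symm.trans
    (mx_inj (by rw [mx_mul, mx_mul, hd, mul_smul_comm, smul_mul_assoc, mul_one, one_mul])))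
  have fixC := fix_of_invol (isPGroup_of_le hS.isPGroup (hC.trans hQ)) (by
      rintro _ ⟨k, ⟨-, h4⟩, rfl⟩ _ ⟨k', ⟨-, h4'⟩, rfl⟩
      rw [← map_mul, ← map_mul]
      exact congrArg φ (mx_inj (comm_of_comm_nonscalar cns
        (congrArg mx (Subgroup.mem_centralizer_singleton_iff.1 h4).symm)
        (congrArg mx (Subgroup.mem_centralizer_singleton_iff.1 h4').symm))))
    pC (ha.mono (hC.trans hQ)) (by
      rintro _ ⟨k, -, rfl⟩ e1
      rw [← map_mul, ← map_one φ] at e1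
      rcases eq_or_neg_of_sq h2 (hπ.root_inj h3 hf e1) with rfl | rfl
      · rw [map_one, ha.map_one]
      · exact ez)
  refine PP.fix_of_chain (H := C) (isPGroup_of_le hS.isPGroup hQ) pQ (ha.mono hQ) ?_
    (fun x _ hx => fixC x hx) _ ⟨k, mk, rfl⟩
  rintro _ ⟨k, hk, rfl⟩
  obtain ⟨k', m', ek⟩ := hR k hk
  rw [hφ, ek, ← hφ, ← hφ, ← map_inv, ← map_mul]
  refine memC (by rw [map_mul, map_inv]; exact T.mul_mem (T.inv_mem hk) m') ?_
  rcases hN _ hk (inK_root hf k).comm with e1 | e1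
  · rw [← map_inv, ← map_mul, ← map_mul] at e1
    have e2 := mul_inv_eq_iff_eq_mul.1 (root_inj hf e1)
    rw [mul_assoc, (cm hk ek).1 e2, ← mul_assoc, ← mul_assoc]
    congr 1
    rw [inv_mul_eq_iff_eq_mul, ← mul_assoc, e2, mul_inv_cancel_right]
  · rw [← map_inv, ← map_mul, ← map_mul] at e1
    have e2 := mul_inv_eq_iff_eq_mul.1 (root_inj hf e1)
    rw [neg_mul] at e2
    rw [mul_assoc, (cm hk ek).2 e2, mul_neg, ← mul_assoc, ← mul_assoc, ← neg_mul]
    congr 1
    rw [← mul_neg, inv_mul_eq_iff_eq_mul, ← mul_assoc, e2, neg_mul, mul_inv_cancel_right]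

theorem exists_diag {t : SpecialLinearGroup κ F} (mt : t ∈ T)
    (h : ∀ j k, root (H.fr.one j) k ∈ T →
      π t * π (root (H.fr.one j) k) = π (root (H.fr.one j) k) * π t) :
    ∃ d d₀, H.fr.Diag (mx t) d d₀ := by
  obtain ⟨τ, -, hτ⟩ := H.mv t mt
  have h1 : ∀ j, mx t * (A j * B j) = A j * B j * mx t := fun j => by
    obtain ⟨c, k, mc, -, e, -⟩ := H.exists_c h2 j
    obtain ⟨c₁, e₁⟩ := H.fr.conj_root hτ j c
    have : j = τ j := H.fr.index_eq hπ h2 (sq_eq_neg_one_of_anti h2 (c := k) (by rw [e, neg_neg]))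
      (k' := c₁) (by rw [e₁, map_mul, map_mul, h j c mc, map_inv, mul_inv_cancel_right])
    have h5 := hτ j
    rwa [← this] at h5
  refine H.fr.exists_diag h1 fun j => ?_
  have h4 : ∀ k, root (H.fr.one j) k ∈ T →
      t * root (H.fr.one j) k * t⁻¹ = root (H.fr.one j) k := fun k mk =>
    hπ.eq_of_inK (frame_ne_one (H.fr.one j) h3)
      (by rw [mx_mul, mx_mul]; exact (inK_root _ k).conj (h1 j)) (inK_root _ k)
      (by rw [map_mul, map_mul, h j k mk, map_inv, mul_inv_cancel_right])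
  obtain ⟨c, k, mc, mk, e, -⟩ := H.exists_c h2 j
  exact scalar_of_comm_pair h2 e (corner_comm _ (h4 c mc)) (corner_comm _ (h4 k mk))

theorem fix_all {a b : L → L} (G : FA (T.map π) a b) (hp : PP 2 (T.map π) a) :
    ∀ x ∈ T.map π, a x = x := by
  classical
  have : Nonempty κ := Fintype.card_pos_iff.1 (by omega)
  have hS := H.sylL h2 hπ h3
  have ha := G.g.hj
  have im : ∀ {g}, g ∈ T → π g ∈ T.map π := fun hg => ⟨_, hg, rfl⟩
  let X : Set L := {x | ∃ j k, root (H.fr.one j) k ∈ T ∧ π (root (H.fr.one j) k) = x}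
  have hX : ∀ x ∈ X, x ∈ T.map π ∧ a x = x := by
    rintro _ ⟨j, k, mk, rfl⟩
    exact ⟨im mk, H.fix_root h2 hπ h3 G hp j mk⟩
  let C : Subgroup L := T.map π ⊓ Subgroup.centralizer X
  have dg : ∀ t ∈ T, π t ∈ C → ∃ d d₀, H.fr.Diag (mx t) d d₀ := fun t mt ht =>
    H.exists_diag h2 hπ h3 mt fun j k mk =>
      (Subgroup.mem_centralizer_iff.1 ht.2 _ ⟨j, k, mk, rfl⟩).symm
  have md : ModT C (T.map π) a := fun x hx => by
    refine ⟨(T.map π).mul_mem ((T.map π).inv_mem hx) (hp.1 x hx),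
      Subgroup.mem_centralizer_iff.2 fun y hy => ?_⟩
    obtain ⟨t, mt, rfl⟩ := hx
    obtain ⟨j, k, mk, rfl⟩ := hy
    obtain ⟨τ, -, hτ⟩ := H.mv t mt
    obtain ⟨k₁, e₁⟩ := H.fr.conj_root hτ j k
    have e2 := H.fix_root h2 hπ h3 G hp _ (e₁ ▸ T.mul_mem (T.mul_mem mt mk) (T.inv_mem mt))
    rw [e₁, map_mul, map_mul, map_inv, ha.map_conj (im mt) (im mk),
      H.fix_root h2 hπ h3 G hp _ mk] at e2
    calc _ = (π t)⁻¹ * (π t * π (root (H.fr.one j) k) * (π t)⁻¹) * a (π t) := by group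
      _ = _ := by rw [← e2]; group
  have refl : ∀ J : Finset (Fin m), ∃ w ∈ T, a (π w) = π w ∧
      H.fr.Diag (mx w) (fun j => if j ∈ J then -1 else 1) 1 := by
    intro J
    induction J using Finset.induction_on with
    | empty => exact ⟨1, T.one_mem, by rw [map_one, ha.map_one],
        fun j => by simp [mx_one], by simp [mx_one]⟩
    | insert i J hi ih =>
      obtain ⟨w, mw, e1, e2⟩ := ih
      obtain ⟨c, k, mc, -, e, -⟩ := H.exists_c h2 i
      have mz : root (H.fr.one i) (-1) ∈ T := by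
        rw [← sq_eq_neg_one_of_anti h2 (c := k) (k := c) (by rw [e, neg_neg]), map_mul]
        exact T.mul_mem mc mc
      refine ⟨root (H.fr.one i) (-1) * w, T.mul_mem mz mw, ?_, ?_⟩
      · rw [map_mul, ha.map_mul (im mz) (im mw), e1, H.fix_root h2 hπ h3 G hp i mz]
      · have := (H.fr.diag_root i).mul H.fr e2
        rw [mul_one, ← mx_mul] at this
        convert this using 2 with j
        by_cases hj : j = i
        · subst hj; simp [hi]
        · simp [hj]
  have fixC := fix_of_invol (W := C) hS.isPGroup.to_inf_left (by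
      rintro _ ⟨⟨t, mt, rfl⟩, ht⟩ _ ⟨⟨t', mt', rfl⟩, ht'⟩
      obtain ⟨d, d₀, hd⟩ := dg t mt ⟨im mt, ht⟩
      obtain ⟨d', d₀', hd'⟩ := dg t' mt' ⟨im mt', ht'⟩
      rw [← map_mul, ← map_mul, show t * t' = t' * t from mx_inj (hd.comm H.fr hd')])
    (hp.restrict inf_le_left fun x hx => by
      have := C.mul_mem hx (md x hx.1)
      rwa [mul_inv_cancel_left] at this) (ha.mono inf_le_left) (by
      rintro _ ⟨⟨t, mt, rfl⟩, ht⟩ e
      obtain ⟨d, d₀, hd⟩ := dg t mt ⟨im mt, ht⟩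
      rw [← map_mul] at e
      obtain ⟨c, hc⟩ := (hπ.ker _).1 e
      have dd := hd.mul H.fr hd
      rw [← mx_mul, hc] at dd
      have d1 : ∀ j, d j * d j = c := fun j => by
        have := dd.1 j
        rw [smul_mul_assoc, one_mul] at this
        exact (smul_left_injective F (frame_ne_zero (H.fr.one j)) this).symm
      obtain ⟨e₀, e1, e2⟩ : ∃ e₀, e₀ * e₀ = c ∧
          mx t * (1 - ∑ j, A j * B j) = e₀ • (1 - ∑ j, A j * B j) := by
        by_cases h0 : (1 - ∑ j, A j * B j : Matrix κ κ F) = 0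
        · rcases isEmpty_or_nonempty (Fin m) with _ | ⟨⟨j⟩⟩
          · rw [Finset.univ_eq_empty, Finset.sum_empty, sub_zero] at h0
            exact absurd h0 one_ne_zero
          · exact ⟨d j, d1 j, by rw [h0, mul_zero, smul_zero]⟩
        · have := dd.2
          rw [smul_mul_assoc, one_mul] at this
          exact ⟨d₀, (smul_left_injective F h0 this).symm, hd.2⟩
      obtain ⟨w, mw, e3, e4⟩ := refl (Finset.univ.filter fun j => d j ≠ e₀)
      have : π w = π t := hπ.eq_iff.2 ⟨e₀, H.fr.eq_of_mul (fun j => by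
        rw [hd.1, smul_mul_assoc, e4.1, smul_smul]
        congr 1
        by_cases hj : d j = e₀
        · simp [hj]
        · have := (mul_self_eq_mul_self_iff.1 ((d1 j).trans e1.symm)).resolve_left hj
          simp [hj, this]) (by rw [e2, smul_mul_assoc, e4.2, one_smul])⟩
      rw [← this, e3])
  exact PP.fix_of_chain hS.isPGroup hp ha md fun x _ hx => fixC x hx

end Sys

end Cfsg.Agent.H91.Rt
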