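import Cfsg.Agent.H62.SimpleCrit
import Cfsg.Agent.H66.SL2Sylow2
import Cfsg.Agent.H41.RankOne3

/-! The `2`-fusion system of `PSp₄(q)`: the abstract part. -/

set_option autoImplicit false
set_option linter.unusedSectionVars false

namespace Cfsg.Agent.H91.Sp4

open Matrix MatrixGroups H66 Subgroup

variable {F : Type*} [Field F] [Fintype F]

/-- Generators of a Sylow `2`-subgroup of `SL₂(q)`. -/
structure QD (Q : Subgroup SL(2, F)) (x y : SL(2, F)) : Prop where
  two : (2 : F) ≠ 0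
  tr : tr2 x ^ 2 ≠ 4
  mx : x ∈ Q
  my : y ∈ Q
  inv : y * x * y⁻¹ = x⁻¹
  all : ∀ s ∈ Q, ∃ i : ℕ, s = x ^ i ∨ s = y * x ^ i
  four : ∃ j : ℕ, x ^ j * x ^ j = -1

theorem exists_qd (hodd : Odd (Fintype.card F)) (h2 : (2 : F) ≠ 0) (Q : Sylow 2 SL(2, F)) :
    ∃ x y, QD (Q : Subgroup SL(2, F)) x y := by
  obtain ⟨k, x, y, hk, -, ox, mx, my, e, hall⟩ := exists_sylow_two_gens hodd Q
  obtain ⟨k, rfl⟩ : ∃ j, k = j + 1 := ⟨k - 1, by omega⟩
  refine ⟨x, y, h2, tr2_sq_ne_of_orderOf_two_pow h2 hk ox, mx, my, e, hall, 2 ^ k, ?_⟩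
  rw [← pow_add, ← mul_two, ← pow_succ]
  refine ((mul_self_eq_one_iff _ h2).1 ?_).resolve_left fun e => ?_
  · rw [← pow_add, ← mul_two, ← pow_succ, ← ox, pow_orderOf_eq_one]
  · have := Nat.le_of_dvd (by positivity) (ox ▸ orderOf_dvd_of_pow_eq_one e)
    rw [Nat.pow_le_pow_iff_right one_lt_two] at this
    omega

theorem neg_ne (h2 : (2 : F) ≠ 0) (a : SL(2, F)) : a ≠ -a := fun e => by
  have : (1 : SL(2, F)) = -1 := mul_left_cancel (a := a) (by rw [mul_neg, mul_one, ← e])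
  have := congrArg tr2 this
  rw [tr2_neg, tr2_one] at this
  exact h2 ((mul_self_eq_zero (a := (2 : F))).1 (by linear_combination this))

namespace QD
variable {Q : Subgroup SL(2, F)} {x y : SL(2, F)}

theorem conj_pow (h : QD Q x y) (i : ℕ) : y * x ^ i * y⁻¹ = (x ^ i)⁻¹ := by
  rw [← _root_.conj_pow, h.inv, inv_pow]

theorem yy (h : QD Q x y) : y * y = -1 :=
  mul_self_of_tr2_eq_zero (tr2_eq_zero_of_conj_eq_inv (nonSc_of_tr2 h.tr) h.inv)

theorem sq (h : QD Q x y) (i : ℕ) : y * x ^ i * (y * x ^ i) = -1 := by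
  rw [← h.yy, show y * x ^ i * (y * x ^ i) = y * x ^ i * y⁻¹ * (y * y) * x ^ i by group,
    h.conj_pow, h.yy, mul_neg, mul_one, neg_mul, inv_mul_cancel]

theorem neg_mem (h : QD Q x y) {a : SL(2, F)} (ha : a ∈ Q) : -a ∈ Q := by
  rw [← neg_one_mul, ← h.yy]
  exact mul_mem (mul_mem h.my h.my) ha

theorem x_ne (h : QD Q x y) : x ≠ 1 ∧ x ≠ -1 := (nonSc_iff x).1 (nonSc_of_tr2 h.tr)

theorem cent (h : QD Q x y) {a : SL(2, F)} (ha : ∀ s ∈ Q, a * s = s * a) : a = 1 ∨ a = -1 :=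
  eq_of_commute_of_commute h.two h.tr h.inv (ha x h.mx) (ha y h.my)

theorem omega_norm (h : QD Q x y) {w : SL(2, F)} (h1 : w * x = y * w) (h3 : w * y = x * y * w) :
    w ∈ normalizer (Q : Set SL(2, F)) := by
  have e1 : w * x * w⁻¹ = y := mul_inv_eq_of_eq_mul h1
  have e2 : w * y * w⁻¹ = x * y := mul_inv_eq_of_eq_mul h3
  refine mem_normalizer_of_conj_mem fun s hs => ?_
  obtain ⟨i, rfl | rfl⟩ := h.all s hs
  · rw [← _root_.conj_pow, e1]
    exact pow_mem h.my i
  · rw [← conj_mul, ← _root_.conj_pow, e1, e2]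
    exact mul_mem (mul_mem h.mx h.my) (pow_mem h.my i)

theorem anti (h : QD Q x y) (hx : x * x = -1) : y * x = -(x * y) := by
  rw [mul_inv_eq_iff_eq_mul.1 h.inv, ← neg_mul]
  congr 1
  rw [inv_eq_iff_mul_eq_one, mul_neg, hx, neg_neg]

end QD

theorem QD.mem_of_comm {Q : Sylow 2 SL(2, F)} {x y : SL(2, F)}
    (h : QD (Q : Subgroup SL(2, F)) x y) {a : SL(2, F)}
    (ha : a ∈ normalizer ((Q : Subgroup SL(2, F)) : Set SL(2, F)))
    (hc : a * x * a⁻¹ * x = x * (a * x * a⁻¹)) : a ∈ (Q : Subgroup SL(2, F)) := by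
  have key : ∀ a ∈ normalizer ((Q : Subgroup SL(2, F)) : Set SL(2, F)), a * x * a⁻¹ = x →
      a ∈ (Q : Subgroup SL(2, F)) := fun a ha e => by
    have h1 := conj_eq_inv_of_mem_centralizer (nonSc_of_tr2 h.tr) h.inv
      (mem_centralizer_singleton_iff.2 (mul_inv_eq_iff_eq_mul.1 e))
    refine mem_sylow_of_pow_mem Q ha ?_
    have := mul_mem (conj_mem_of_mem_normalizer ha h.my) (inv_mem h.my)
    rwa [show a * y * a⁻¹ * y⁻¹ = a * (y * a * y⁻¹)⁻¹ by group, h1, inv_inv, ← pow_two] at this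
  rcases eq_or_eq_inv_of_commute h.tr hc (tr2_conj x a) with e | e
  · exact key a ha e
  · refine (mul_mem_cancel_left h.my).1 (key _ (mul_mem (le_normalizer h.my) ha) ?_)
    rw [show y * a * x * (y * a)⁻¹ = y * (a * x * a⁻¹) * y⁻¹ by group, e,
      show y * x⁻¹ * y⁻¹ = (y * x * y⁻¹)⁻¹ by group, h.inv, inv_inv]

theorem QD.norm_le {Q : Sylow 2 SL(2, F)} {x y : SL(2, F)}
    (h : QD (Q : Subgroup SL(2, F)) x y) {H : Subgroup SL(2, F)} (hQ : ↑Q ≤ H)
    (hw : x * x = -1 → ∃ w ∈ H, w * x = y * w ∧ w * y = x * y * w) :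
    normalizer ((Q : Subgroup SL(2, F)) : Set SL(2, F)) ≤ H := by
  intro a ha
  obtain ⟨i, e | e⟩ := h.all _ (conj_mem_of_mem_normalizer ha h.mx)
  · exact hQ (h.mem_of_comm ha (by rw [e, ← pow_succ, ← pow_succ']))
  have hx : x * x = -1 := by
    have := h.sq i
    rw [← e, conj_mul, mul_inv_eq_iff_eq_mul, neg_one_mul, ← mul_neg_one] at this
    exact mul_left_cancel this
  obtain ⟨w, hwH, h1, h3⟩ := hw hx
  have hn := h.omega_norm h1 h3
  have e1 : w⁻¹ * y * w = x := by rw [mul_assoc, ← h1, inv_mul_cancel_left]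
  have e2 : w⁻¹ * (x * y) * w = y := by rw [mul_assoc, ← h3, inv_mul_cancel_left]
  have pm : ∀ j : ℕ, x ^ (2 * j) = 1 ∨ x ^ (2 * j) = -1 := fun j => by
    rw [pow_mul, pow_two, hx]; exact neg_one_pow_eq_or _ j
  obtain ⟨j, rfl | rfl⟩ := Nat.even_or_odd' i
  · refine (H.mul_mem_cancel_left (inv_mem hwH)).1 (hQ (h.mem_of_comm (mul_mem (inv_mem hn) ha) ?_))
    rw [show w⁻¹ * a * x * (w⁻¹ * a)⁻¹ = w⁻¹ * (a * x * a⁻¹) * w by group, e]
    rcases pm j with e | e
    · rw [e, mul_one, e1]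
    · rw [e, mul_neg_one, mul_neg, neg_mul, e1, neg_mul, mul_neg]
  · refine (H.mul_mem_cancel_left (inv_mem (mul_mem hwH hwH))).1
      (hQ (h.mem_of_comm (mul_mem (inv_mem (mul_mem hn hn)) ha) ?_))
    rw [show (w * w)⁻¹ * a * x * ((w * w)⁻¹ * a)⁻¹ = w⁻¹ * (w⁻¹ * (a * x * a⁻¹) * w) * w by
      simp only [_root_.mul_inv_rev, inv_inv, mul_assoc], e, pow_succ]
    rcases pm j with e | e
    · rw [e, one_mul, h.anti hx]
      simp only [mul_neg, neg_mul, e2, e1]
    · rw [e, neg_one_mul, mul_neg, h.anti hx, neg_neg, e2, e1]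

/-- The structure of `PSp₄(q)` around the subgroup `(SL₂(q) ≀ 2) / ± 1`. -/
structure WS {G : Type*} [Group G] (β : SL(2, F) × SL(2, F) →* G) (τ : G) : Prop where
  ker : ∀ a b, β (a, b) = 1 → a = 1 ∧ b = 1 ∨ a = -1 ∧ b = -1
  neg : β (-1, -1) = 1
  sq : τ * τ = 1
  swap : ∀ a b, τ * β (a, b) = β (b, a) * τ
  ne : ∀ a b, β (a, b) ≠ τ
  conj : ∃ g, g * β (-1, 1) * g⁻¹ = τ
  cent : ∀ g, g * β (-1, 1) = β (-1, 1) * g → ∃ a b, g = β (a, b) ∨ g = β (a, b) * τ
  omega : ∀ E : Subgroup G, (∀ e ∈ E, ∀ e' ∈ E, e * e' = e' * e) → β (-1, 1) ∈ E → τ ∈ E →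
    ∀ i j : SL(2, F), i * i = -1 → j * j = -1 → j * i = -(i * j) → β (i, i) ∈ E → β (j, j) ∈ E →
      ∃ w, w * i = j * w ∧ w * j = i * j * w ∧ β (w, w) ∈ H62.pGenN 2 E

namespace WS
variable {G : Type*} [Group G] {β : SL(2, F) × SL(2, F) →* G} {τ : G}

theorem mul (β : SL(2, F) × SL(2, F) →* G) (a b c d : SL(2, F)) :
    β (a, b) * β (c, d) = β (a * c, b * d) := (map_mul β _ _).symm

theorem inv (β : SL(2, F) × SL(2, F) →* G) (a b : SL(2, F)) :
    (β (a, b))⁻¹ = β (a⁻¹, b⁻¹) := (map_inv β _).symm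

theorem eq (h : WS β τ) {a b c d : SL(2, F)} (e : β (a, b) = β (c, d)) :
    a = c ∧ b = d ∨ a = -c ∧ b = -d := by
  refine (h.ker (c⁻¹ * a) (d⁻¹ * b) (by rw [← mul, ← inv, e, inv_mul_cancel])).imp
    (fun e => ⟨(inv_mul_eq_one.1 e.1).symm, (inv_mul_eq_one.1 e.2).symm⟩) fun e => ?_
  rw [inv_mul_eq_iff_eq_mul, inv_mul_eq_iff_eq_mul, mul_neg_one, mul_neg_one] at e
  exact e

theorem neg' (h : WS β τ) (a b : SL(2, F)) : β (-a, -b) = β (a, b) := by
  rw [← neg_one_mul a, ← neg_one_mul b, ← mul, h.neg, one_mul]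

theorem ne' (h : WS β τ) (a b c d : SL(2, F)) : β (a, b) ≠ β (c, d) * τ := fun e =>
  h.ne (c⁻¹ * a) (d⁻¹ * b) (by rw [← mul, ← inv, e, inv_mul_cancel_left])

theorem tinv (h : WS β τ) : τ⁻¹ = τ := inv_eq_of_mul_eq_one_right h.sq

theorem conj_t (h : WS β τ) (a b : SL(2, F)) :
    β (a, b) * τ * (β (a, b))⁻¹ = β (a * b⁻¹, b * a⁻¹) * τ := by
  rw [inv, mul_assoc, h.swap, ← mul_assoc, mul]

theorem simple [Finite G] (h : WS β τ) {Q : Sylow 2 SL(2, F)} {x y : SL(2, F)}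
    (q : QD (Q : Subgroup SL(2, F)) x y) (S : Sylow 2 G)
    (hS : ∀ g, g ∈ (S : Subgroup G) ↔ ∃ a ∈ (Q : Subgroup SL(2, F)), ∃ b ∈ (Q : Subgroup SL(2, F)),
      g = β (a, b) ∨ g = β (a, b) * τ) :
    (groupFusionSystem (S : Subgroup G)).IsSimple 2 := by
  have h2 := q.two
  have m1 : ∀ {a b}, a ∈ (Q : Subgroup SL(2, F)) → b ∈ (Q : Subgroup SL(2, F)) →
      β (a, b) ∈ (S : Subgroup G) := fun ha hb => (hS _).2 ⟨_, ha, _, hb, Or.inl rfl⟩
  have mt : τ ∈ (S : Subgroup G) := (hS _).2 ⟨1, one_mem _, 1, one_mem _, Or.inr (by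
    rw [show ((1, 1) : SL(2, F) × SL(2, F)) = 1 from rfl, map_one, one_mul])⟩
  have m2 : ∀ {a b}, β (a, b) ∈ (S : Subgroup G) →
      a ∈ (Q : Subgroup SL(2, F)) ∧ b ∈ (Q : Subgroup SL(2, F)) := fun hab => by
    obtain ⟨c, hc, d, hd, e | e⟩ := (hS _).1 hab
    · rcases h.eq e with ⟨rfl, rfl⟩ | ⟨rfl, rfl⟩
      exacts [⟨hc, hd⟩, ⟨q.neg_mem hc, q.neg_mem hd⟩]
    · exact absurd e (h.ne' _ _ _ _)
  have mz : β (-1, 1) ∈ (S : Subgroup G) := m1 (q.neg_mem (one_mem _)) (one_mem _)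
  have z1 : β (-1, 1) ≠ 1 := fun e => by
    rcases h.ker _ _ e with e | e
    exacts [neg_ne h2 1 e.1.symm, neg_ne h2 1 e.2]
  have zc : ∀ s ∈ (S : Subgroup G), s * β (-1, 1) = β (-1, 1) * s := fun s hs => by
    obtain ⟨a, -, b, -, rfl | rfl⟩ := (hS s).1 hs
    · simp only [mul, mul_neg, neg_mul, mul_one, one_mul]
    · rw [mul_assoc, h.swap, ← mul_assoc, ← mul_assoc, mul, mul, ← h.neg']
      simp only [mul_neg, neg_mul, mul_one, one_mul, neg_neg]
  have Z : ∀ s ∈ (S : Subgroup G), s ≠ 1 → (∀ g ∈ (S : Subgroup G), s * g = g * s) →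
      s = β (-1, 1) := fun s hs s1 hc => by
    obtain ⟨a, -, b, -, rfl | rfl⟩ := (hS s).1 hs
    · have ha := q.cent (a := a) fun c hcQ => by
        have := hc _ (m1 hcQ (one_mem _))
        rw [mul, mul, mul_one, one_mul] at this
        exact ((h.eq this).resolve_right fun e => neg_ne h2 b e.2).1
      have hb := q.cent (a := b) fun c hcQ => by
        have := hc _ (m1 (one_mem _) hcQ)
        rw [mul, mul, mul_one, one_mul] at this
        exact ((h.eq this).resolve_right fun e => neg_ne h2 a e.1).2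
      rcases ha with rfl | rfl <;> rcases hb with rfl | rfl
      · exact absurd (map_one β) s1
      · rw [← h.neg', neg_neg]
      · rfl
      · exact absurd h.neg s1
    · have := hc _ (m1 q.mx (one_mem _))
      rw [mul_assoc, h.swap, ← mul_assoc, ← mul_assoc, mul_left_inj, mul, mul, mul_one,
        one_mul] at this
      rcases h.eq this with e | e
      · exact absurd (mul_eq_left.1 e.2) q.x_ne.1
      · exact absurd (mul_left_cancel (e.2.trans (mul_neg_one b).symm)) q.x_ne.2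
  refine H62.simple_of_local S (fun e => z1 (mem_bot.1 (e ▸ mz))) (fun T hT hc h1 => ?_)
    fun H hH _ hN g hg => ?_
  · have hn : ∀ s ∈ (S : Subgroup G), ∀ t ∈ T, s * t * s⁻¹ ∈ T := fun s hs t ht =>
      hc t ht s (mul_mem (mul_mem hs (hT ht)) (inv_mem hs))
    have : (T.subgroupOf S).Normal := ⟨fun t ht s => hn s s.2 t ht⟩
    have := S.isPGroup'.isNilpotent
    obtain ⟨s, hs, s1, sc⟩ := H41.R1.exists_central_mem (T.subgroupOf S)
      fun e => h1 ((subgroupOf_eq_bot.1 e).eq_bot_of_le hT)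
    have hz : β (-1, 1) ∈ T := Z s s.2 (fun e => s1 (Subtype.ext e))
      (fun g hg => congrArg Subtype.val (sc ⟨g, hg⟩)) ▸ hs
    obtain ⟨g, hg⟩ := h.conj
    have ht : τ ∈ T := hg ▸ hc _ hz g (hg ▸ mt)
    have k1 : ∀ a ∈ (Q : Subgroup SL(2, F)), β (a, a⁻¹) ∈ T := fun a ha => by
      have := hn _ (m1 ha (one_mem _)) _ ht
      rwa [h.conj_t, inv_one, mul_one, one_mul, mul_mem_cancel_right ht] at this
    have k2 : ∀ a ∈ (Q : Subgroup SL(2, F)), ∀ b ∈ (Q : Subgroup SL(2, F)), a * a = -1 →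
        b * b = -1 → β (1, a * b) ∈ T := fun a ha b hb ea eb => by
      have t0 : ∀ {c : SL(2, F)}, c * c = -1 → tr2 c = 0 := fun e =>
        (mul_self_eq_neg_one_iff _ h2).1 e
      obtain ⟨u, hu⟩ := _root_.isConj_iff.1 (isConj_of_tr2_eq (g := a⁻¹) (h := b)
        (by rw [tr2_inv, t0 ea]; exact fun e => h2 ((mul_self_eq_zero (a := (2 : F))).1
              (by linear_combination -e)))
        (by rw [tr2_inv, t0 ea, t0 eb]))
      have e : β (1, u) * β (a, a⁻¹) * (β (1, u))⁻¹ = β (a, b) := by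
        rw [inv, mul, mul, hu, inv_one, mul_one, one_mul]
      have := mul_mem (inv_mem (k1 a ha)) (e ▸ hc _ (k1 a ha) _ (e ▸ m1 ha hb))
      rwa [inv, mul, inv_mul_cancel, inv_inv] at this
    have k3 : ∀ i, β (1, y * x ^ i) ∈ T := fun i => by
      obtain ⟨j, hj⟩ := q.four
      have := k2 _ (mul_mem q.my (pow_mem q.mx (i + 3 * j))) _ (pow_mem q.mx j) (q.sq _) hj
      rwa [mul_assoc, ← pow_add, show i + 3 * j + j = i + (j + j) * 2 by ring, pow_add, pow_mul,
        pow_add, hj, neg_one_sq, mul_one] at this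
    have k4 : ∀ b ∈ (Q : Subgroup SL(2, F)), β (1, b) ∈ T := fun b hb => by
      obtain ⟨i, rfl | rfl⟩ := q.all b hb
      · have := mul_mem (inv_mem (k3 0)) (k3 i)
        rwa [inv, mul, pow_zero, mul_one, mul_one, inv_one, inv_mul_cancel_left] at this
      · exact k3 i
    have k5 : ∀ a ∈ (Q : Subgroup SL(2, F)), ∀ b ∈ (Q : Subgroup SL(2, F)), β (a, b) ∈ T :=
      fun a ha b hb => by
        have := mul_mem (k1 a ha) (k4 _ (mul_mem ha hb))
        rwa [mul, mul_one, inv_mul_cancel_left] at this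
    intro s hs
    obtain ⟨a, ha, b, hb, rfl | rfl⟩ := (hS s).1 hs
    exacts [k5 a ha b hb, mul_mem (k5 a ha b hb) ht]
  · have key : normalizer ((Q : Subgroup SL(2, F)) : Set SL(2, F)) ≤
        H.comap (β.comp ((MonoidHom.id _).prod (MonoidHom.id _))) := by
      refine q.norm_le (fun a ha => hH (m1 ha ha)) fun hx => ?_
      have ct : ∀ a, β (a, a) * τ = τ * β (a, a) := fun a => (h.swap a a).symm
      have cxy : Commute (β (x, x)) (β (y, y)) := by
        rw [Commute, SemiconjBy, mul, mul, q.anti hx, h.neg']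
      have cQ : ∀ a ∈ (Q : Subgroup SL(2, F)), ∀ b ∈ (Q : Subgroup SL(2, F)),
          Commute (β (a, a)) (β (b, b)) := fun a ha b hb => by
        have pw : ∀ i : ℕ, β (x ^ i, x ^ i) = β (x, x) ^ i := fun i => map_pow β (x, x) i
        obtain ⟨i, rfl | rfl⟩ := q.all a ha <;> obtain ⟨j, rfl | rfl⟩ := q.all b hb <;>
          simp only [← mul, pw]
        · exact (Commute.refl _).pow_pow i j
        · exact (cxy.pow_left i).mul_right ((Commute.refl _).pow_pow i j)
        · exact (cxy.symm.pow_right j).mul_left ((Commute.refl _).pow_pow i j)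
        · exact ((Commute.refl _).mul_right (cxy.symm.pow_right j)).mul_left
            ((cxy.pow_left i).mul_right ((Commute.refl _).pow_pow i j))
      let E := (S : Subgroup G) ⊓ centralizer {τ}
      have mE : ∀ {e}, e ∈ E ↔ e ∈ (S : Subgroup G) ∧ e * τ = τ * e :=
        and_congr_right fun _ => mem_centralizer_singleton_iff
      have tE : τ ∈ E := mE.2 ⟨mt, rfl⟩
      have zE : β (-1, 1) ∈ E := mE.2 ⟨mz, (zc τ mt).symm⟩
      have dE : ∀ a ∈ (Q : Subgroup SL(2, F)), β (a, a) ∈ E := fun a ha => mE.2 ⟨m1 ha ha, ct a⟩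
      have d0 : ∀ {a b}, β (a, b) ∈ E → ∀ c ∈ (Q : Subgroup SL(2, F)),
          Commute (β (c, c)) (β (a, b)) := fun {a b} hab c hc => by
        have := (mE.1 hab).2
        rw [h.swap, mul_left_inj] at this
        have hb := (m2 (mE.1 hab).1).2
        rcases h.eq this with ⟨rfl, -⟩ | ⟨rfl, -⟩
        · exact cQ c hc a hb
        · rw [show β (-b, b) = β (-1, 1) * β (b, b) by rw [mul, neg_one_mul, one_mul]]
          exact Commute.mul_right (zc _ (m1 hc hc)) (cQ c hc b hb)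
      have d1 : ∀ e ∈ E, ∀ c ∈ (Q : Subgroup SL(2, F)), Commute (β (c, c)) e := fun e he c hc => by
        obtain ⟨a, -, b, -, rfl | rfl⟩ := (hS e).1 he.1
        · exact d0 he c hc
        · exact (d0 ((mul_mem_cancel_right tE).1 he) c hc).mul_right (ct c)
      have d2 : ∀ {a b}, β (a, b) ∈ E → ∀ e ∈ E, Commute (β (a, b)) e := fun {a b} hab e he => by
        have := (mE.1 hab).2
        rw [h.swap, mul_left_inj] at this
        have hb := (m2 (mE.1 hab).1).2
        rcases h.eq this with ⟨rfl, -⟩ | ⟨rfl, -⟩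
        · exact d1 e he a hb
        · rw [show β (-b, b) = β (-1, 1) * β (b, b) by rw [mul, neg_one_mul, one_mul]]
          exact Commute.mul_left (zc e he.1).symm (d1 e he b hb)
      have ab : ∀ e ∈ E, ∀ e' ∈ E, e * e' = e' * e := fun e he e' he' => by
        obtain ⟨a, -, b, -, rfl | rfl⟩ := (hS e).1 he.1
        · exact d2 he e' he'
        · exact (d2 ((mul_mem_cancel_right tE).1 he) e' he').mul_left (mE.1 he').2.symm
      have c0 : ∀ a ∈ (Q : Subgroup SL(2, F)), ∀ b ∈ (Q : Subgroup SL(2, F)),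
          β (a, b) * τ * (β (a, b))⁻¹ ∈ E := fun a ha b hb => by
        rw [h.conj_t, mul_mem_cancel_right tE, show b * a⁻¹ = (a * b⁻¹)⁻¹ by group]
        have hc := mul_mem ha (inv_mem hb)
        generalize a * b⁻¹ = c at hc
        have : c * c = 1 ∨ c * c = -1 := by
          obtain ⟨i, rfl | rfl⟩ := q.all c hc
          · rw [← (Commute.refl x).mul_pow, hx]; exact neg_one_pow_eq_or _ i
          · exact Or.inr (q.sq i)
        rcases this with e | e
        · rw [inv_eq_of_mul_eq_one_right e]; exact dE c hc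
        · rw [show c⁻¹ = -c from inv_eq_of_mul_eq_one_right (by rw [mul_neg, e, neg_neg]),
            ← h.neg', neg_neg, show β (-c, c) = β (-1, 1) * β (c, c) by
              rw [mul, neg_one_mul, one_mul]]
          exact mul_mem zE (dE c hc)
      have c1 : ∀ s ∈ (S : Subgroup G), s * τ * s⁻¹ ∈ E := fun s hs => by
        obtain ⟨a, ha, b, hb, rfl | rfl⟩ := (hS s).1 hs
        · exact c0 a ha b hb
        · rw [show β (a, b) * τ * τ * (β (a, b) * τ)⁻¹ = β (a, b) * τ * (β (a, b))⁻¹ by group]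
          exact c0 a ha b hb
      obtain ⟨w, w1, w2, w3⟩ := h.omega E ab zE tE x y hx q.yy (q.anti hx) (dE x q.mx) (dE y q.my)
      have hn := q.omega_norm w1 w2
      refine ⟨w, hN E inf_le_left (fun s hs => mem_normalizer_of_conj_mem fun e he => mE.2
        ⟨mul_mem (mul_mem hs he.1) (inv_mem hs), ?_⟩)
        (fun c hc => mE.2 ⟨hc.1, (hc.2 τ tE).symm⟩) ⟨mem_normalizer_of_conj_mem fun s hs => ?_, w3⟩,
        w1, w2⟩
      · have := ab e he _ (c1 _ (inv_mem hs))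
        calc s * e * s⁻¹ * τ = s * (e * (s⁻¹ * τ * s⁻¹⁻¹)) * s⁻¹ := by group
          _ = τ * (s * e * s⁻¹) := by rw [this]; group
      · have c2 : ∀ a ∈ (Q : Subgroup SL(2, F)), ∀ b ∈ (Q : Subgroup SL(2, F)),
            β (w, w) * β (a, b) * (β (w, w))⁻¹ ∈ (S : Subgroup G) := fun a ha b hb => by
          rw [inv, mul, mul]
          exact m1 (conj_mem_of_mem_normalizer hn ha) (conj_mem_of_mem_normalizer hn hb)
        show β (w, w) * s * (β (w, w))⁻¹ ∈ (S : Subgroup G)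
        obtain ⟨a, ha, b, hb, rfl | rfl⟩ := (hS s).1 hs
        · exact c2 a ha b hb
        · rw [← conj_mul, ct, mul_inv_cancel_right]
          exact mul_mem (c2 a ha b hb) mt
    have k1 : ∀ a b, β (a, b) ∈ normalizer ((S : Subgroup G) : Set G) → β (a, b) ∈ H :=
      fun a b hab => by
        have ha : a ∈ normalizer ((Q : Subgroup SL(2, F)) : Set SL(2, F)) :=
          mem_normalizer_of_conj_mem fun c hc => by
            have := conj_mem_of_mem_normalizer hab (m1 hc (one_mem _))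
            rw [inv, mul, mul] at this
            exact (m2 this).1
        have := conj_mem_of_mem_normalizer hab mt
        rw [h.conj_t, mul_mem_cancel_right mt] at this
        have := mul_mem (hH (m1 (one_mem _) (m2 this).2)) (show β (a, a) ∈ H from key ha)
        rwa [mul, one_mul, inv_mul_cancel_right] at this
    have hz := Z _ (conj_mem_of_mem_normalizer hg mz) (fun e => z1 (by simpa using e))
      fun s hs => by
        have := zc _ (conj_mem_of_mem_normalizer (inv_mem hg) hs)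
        calc g * β (-1, 1) * g⁻¹ * s = g * (β (-1, 1) * (g⁻¹ * s * g⁻¹⁻¹)) * g⁻¹ := by group
          _ = s * (g * β (-1, 1) * g⁻¹) := by rw [← this]; group
    obtain ⟨a, b, rfl | rfl⟩ := h.cent g (mul_inv_eq_iff_eq_mul.1 hz)
    · exact k1 a b hg
    · exact mul_mem (k1 a b ((mul_mem_cancel_right (le_normalizer mt)).1 hg)) (hH mt)

end WS

end Cfsg.Agent.H91.Sp4
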