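import Cfsg.Agent.H91.Sp4A
import Cfsg.Agent.H85.GLWr
import Cfsg.Agent.S0246

/-! The `2`-fusion system of `PSp₄(q)`: the concrete part. -/

set_option autoImplicit false
set_option linter.unusedSectionVars false

namespace Cfsg.Agent.H91.Sp4

open Matrix MatrixGroups H66 Subgroup

variable {F : Type*} [Field F]

section General
variable {R : Type*} [Ring R]

theorem one_add_anti {X W : R} (hX : X * X = -1) (h : W * X = -(X * W)) :
    (1 + X) * W = X * W * (1 + X) := by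
  rw [mul_add, mul_one, mul_assoc, h, mul_neg, ← mul_assoc, hX]
  noncomm_ring

theorem one_add_sq {X : R} (hX : X * X = -1) : (1 + X) * (1 + X) = X + X := by
  rw [add_mul, mul_add, mul_add, hX]
  noncomm_ring

end General

variable {m : ℕ}

theorem add_self_inj (h2 : (2 : F) ≠ 0) {ι : Type*} {A B : Matrix ι ι F} (h : A + A = B + B) :
    A = B := by
  rw [← two_smul F, ← two_smul F] at h
  exact smul_right_injective _ h2 h

/-- `t = (1 + X) (1 + Y) / 2`. -/
def IsT (t X Y : symplecticGroup (Fin m) F) : Prop := t.1 + t.1 = (1 + X.1) * (1 + Y.1)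

theorem exists_isT (h2 : (2 : F) ≠ 0) {X Y : symplecticGroup (Fin m) F} (hX : X.1 * X.1 = -1)
    (hY : Y.1 * Y.1 = -1) : ∃ t, IsT t X Y := by
  have key : ∀ {X : symplecticGroup (Fin m) F}, X.1 * X.1 = -1 →
      (1 + X.1) * J (Fin m) F * (1 + X.1)ᵀ = (2 : F) • J (Fin m) F := fun {X} hX => by
    have h1 := SymplecticGroup.mem_iff.1 X.2
    have h3 : J (Fin m) F * X.1ᵀ = -(X.1 * J (Fin m) F) := by
      conv_rhs => rw [← h1, ← mul_assoc, ← mul_assoc, hX]
      simp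
    rw [transpose_add, transpose_one, mul_add, mul_one, add_mul, add_mul, h1, one_mul, h3,
      two_smul]
    abel
  refine ⟨⟨(2 : F)⁻¹ • ((1 + X.1) * (1 + Y.1)), SymplecticGroup.mem_iff.2 ?_⟩, ?_⟩
  · rw [transpose_smul, transpose_mul, smul_mul_assoc, smul_mul_assoc, mul_smul_comm,
      show (1 + X.1) * (1 + Y.1) * J (Fin m) F * ((1 + Y.1)ᵀ * (1 + X.1)ᵀ) =
        (1 + X.1) * ((1 + Y.1) * J (Fin m) F * (1 + Y.1)ᵀ) * (1 + X.1)ᵀ by simp only [mul_assoc],
      key hY, mul_smul_comm, smul_mul_assoc, key hX, smul_smul, smul_smul, smul_smul,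
      show (2 : F)⁻¹ * 2⁻¹ * 2 * 2 = 1 by field_simp, one_smul]
  · show _ • _ + _ • _ = _
    rw [← add_smul, show (2 : F)⁻¹ + 2⁻¹ = 1 by field_simp; norm_num, one_smul]

theorem IsT.conj (h2 : (2 : F) ≠ 0) {t X Y W W' W'' : symplecticGroup (Fin m) F} (h : IsT t X Y)
    (h1 : (1 + Y.1) * W.1 = W'.1 * (1 + Y.1)) (h3 : (1 + X.1) * W'.1 = W''.1 * (1 + X.1)) :
    t * W * t⁻¹ = W'' := by
  refine mul_inv_eq_of_eq_mul (Subtype.ext (add_self_inj h2 ?_))
  show t.1 * W.1 + t.1 * W.1 = W''.1 * t.1 + W''.1 * t.1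
  rw [← add_mul, ← mul_add, h, mul_assoc, h1, ← mul_assoc, h3, mul_assoc]

theorem IsT.pow (h2 : (2 : F) ≠ 0) {t X Y : symplecticGroup (Fin m) F} (h : IsT t X Y)
    (hX : X.1 * X.1 = -1) (hY : Y.1 * Y.1 = -1) (hc : X * Y = Y * X) : t ^ 2 ^ 2 = 1 := by
  have hc' : X.1 * Y.1 = Y.1 * X.1 := congrArg Subtype.val hc
  have c : (1 + Y.1) * (1 + X.1) = (1 + X.1) * (1 + Y.1) := by
    simp only [add_mul, mul_add, hc', one_mul, mul_one]; abel
  have h1 : t * t = X * Y := Subtype.ext (add_self_inj h2 (add_self_inj h2 (by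
    show t.1 * t.1 + t.1 * t.1 + (t.1 * t.1 + t.1 * t.1) =
      X.1 * Y.1 + X.1 * Y.1 + (X.1 * Y.1 + X.1 * Y.1)
    rw [← mul_add, ← add_mul, h, mul_assoc, ← mul_assoc (1 + Y.1), c, mul_assoc, ← mul_assoc,
      one_add_sq hX, one_add_sq hY, add_mul, mul_add])))
  rw [pow_two 2, pow_mul, pow_two, pow_two, h1]
  refine Subtype.ext ?_
  show X.1 * Y.1 * (X.1 * Y.1) = 1
  rw [mul_assoc, ← mul_assoc Y.1, ← hc', mul_assoc, hY, ← mul_assoc, hX, neg_mul_neg, one_mul]

/-- The projection to `PSp`. -/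
abbrev pr (m : ℕ) (F : Type*) [Field F] : symplecticGroup (Fin m) F →* PSp m F :=
  QuotientGroup.mk' _

theorem pr_eq_one [NeZero m] {g : symplecticGroup (Fin m) F} :
    pr m F g = 1 ↔ g.1 = 1 ∨ g.1 = -1 := by
  rw [QuotientGroup.mk'_apply, QuotientGroup.eq_one_iff, S0246.mem_center_iff]
  constructor
  · rintro ⟨c, h1, h3⟩
    rcases sq_eq_one_iff.1 h1 with rfl | rfl
    · exact Or.inl (by rw [h3, one_smul])
    · exact Or.inr (by rw [h3, neg_smul, one_smul])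
  · rintro (h | h)
    · exact ⟨1, by simp, by rw [h, one_smul]⟩
    · exact ⟨-1, by simp, by rw [h, neg_smul, one_smul]⟩

theorem pr_eq [NeZero m] {g k : symplecticGroup (Fin m) F} (h : pr m F g = pr m F k) :
    g.1 = k.1 ∨ g.1 = -k.1 := by
  have e : g.1 = (g * k⁻¹).1 * k.1 := congrArg Subtype.val (inv_mul_cancel_right g k).symm
  rcases pr_eq_one.1 (show pr m F (g * k⁻¹) = 1 by rw [map_mul, h, map_inv, mul_inv_cancel])
    with h | h
  · exact Or.inl (by rw [e, h, one_mul])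
  · exact Or.inr (by rw [e, h, neg_one_mul])

theorem IsT.mem_pGenN [Finite F] [NeZero m] (h2 : (2 : F) ≠ 0)
    {t X Y : symplecticGroup (Fin m) F} (h : IsT t X Y) (hX : X.1 * X.1 = -1)
    (hY : Y.1 * Y.1 = -1) (hc : X * Y = Y * X) {E : Subgroup (PSp m F)}
    (hE : ∀ e ∈ E, ∀ e' ∈ E, e * e' = e' * e) (hXE : pr m F X ∈ E) (hYE : pr m F Y ∈ E) :
    pr m F t ∈ H62.pGenN 2 E := by
  have key : ∀ {X W : symplecticGroup (Fin m) F}, X.1 * X.1 = -1 → pr m F X ∈ E → pr m F W ∈ E →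
      ∃ W', pr m F W' ∈ E ∧ (1 + X.1) * W.1 = W'.1 * (1 + X.1) := fun {X W} hX hXE hW => by
    rcases pr_eq (show pr m F (W * X) = pr m F (X * W) by rw [map_mul, map_mul, hE _ hW _ hXE])
      with e | e
    · exact ⟨W, hW, by
        rw [add_mul, mul_add, one_mul, mul_one, show W.1 * X.1 = X.1 * W.1 from e]⟩
    · exact ⟨X * W, by rw [map_mul]; exact mul_mem hXE hW, one_add_anti hX e⟩
  refine Subgroup.subset_closure ⟨mem_normalizer_of_conj_mem fun e he => ?_, 2, by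
    rw [← map_pow, h.pow h2 hX hY hc, map_one]⟩
  obtain ⟨W, rfl⟩ := QuotientGroup.mk'_surjective _ e
  obtain ⟨W', h1, h3⟩ := key hY hYE he
  obtain ⟨W'', h4, h5⟩ := key hX hXE h1
  rwa [← map_inv, ← map_mul, ← map_mul, h.conj h2 h3 h5]

/-- The embedding of `SL₂ × SL₂`. -/
def be (F : Type*) [Field F] : SL(2, F) × SL(2, F) →* symplecticGroup (Fin 2) F :=
  (H85.spWD (Fin 2) F).β.comp (MonoidHom.mk' (fun p => ![p.1, p.2]) fun p q => by
    funext k; fin_cases k <;> rfl)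

/-- The swap. -/
def ta (F : Type*) [Field F] : symplecticGroup (Fin 2) F := (H85.spWD (Fin 2) F).σ (Equiv.swap 0 1)

theorem be_val (a b : SL(2, F)) : (be F (a, b)).1 =
    fromBlocks !![a.1 0 0, 0; 0, b.1 0 0] !![a.1 0 1, 0; 0, b.1 0 1]
      !![a.1 1 0, 0; 0, b.1 1 0] !![a.1 1 1, 0; 0, b.1 1 1] := by
  ext (i | i) (j | j) <;> fin_cases i <;> fin_cases j <;> rfl

theorem ta_sq : ta F * ta F = 1 := by
  rw [ta, ← map_mul, Equiv.swap_mul_self, map_one]

theorem ta_be (a b : SL(2, F)) : ta F * be F (a, b) = be F (b, a) * ta F := by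
  refine ((H85.spWD (Fin 2) F).conj _ _).trans (congrArg (· * ta F) (congrArg _ ?_))
  funext k; fin_cases k <;> rfl

theorem be_neg (a b : SL(2, F)) : (be F (-a, -b)).1 = -(be F (a, b)).1 := by
  rw [be_val, be_val]
  ext (i | i) (j | j) <;> fin_cases i <;> fin_cases j <;> simp

theorem be_neg_one : (be F (-1, -1)).1 = -1 := by
  rw [be_neg, show ((1, 1) : SL(2, F) × SL(2, F)) = 1 from rfl, map_one]; rfl

theorem be_inj {a b c d : SL(2, F)} (h : be F (a, b) = be F (c, d)) : a = c ∧ b = d := by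
  have := (H85.spWD (Fin 2) F).β_inj h
  exact ⟨congrFun this 0, congrFun this 1⟩

theorem be_ne (a b : SL(2, F)) : be F (a, b) ≠ ta F := fun e =>
  absurd ((H85.spWD (Fin 2) F).inj _ _ e).2 (by decide)

theorem be_cent (h2 : (2 : F) ≠ 0) {g : symplecticGroup (Fin 2) F}
    (h : g * be F (-1, 1) = be F (-1, 1) * g) : ∃ a b, g = be F (a, b) := by
  have h1 : g.1 * (be F (-1, 1)).1 = (be F (-1, 1)).1 * g.1 := congrArg Subtype.val h
  rw [be_val] at h1
  have z : ∀ {x : F}, x = -x → x = 0 := fun {x} e =>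
    (mul_eq_zero.1 (show 2 * x = 0 by linear_combination e)).resolve_left h2
  have e := fun p q => congrFun (congrFun h1 p) q
  have e1 := e (Sum.inl 0) (Sum.inl 1)
  have e2 := e (Sum.inl 0) (Sum.inr 1)
  have e3 := e (Sum.inr 0) (Sum.inl 1)
  have e4 := e (Sum.inr 0) (Sum.inr 1)
  have e5 := e (Sum.inl 1) (Sum.inl 0)
  have e6 := e (Sum.inl 1) (Sum.inr 0)
  have e7 := e (Sum.inr 1) (Sum.inl 0)
  have e8 := e (Sum.inr 1) (Sum.inr 0)
  simp [Matrix.mul_apply, Fintype.sum_sum_type, Fin.sum_univ_two] at e1 e2 e3 e4 e5 e6 e7 e8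
  have s := fun p q => congrFun (congrFun (SymplecticGroup.mem_iff.1 g.2) p) q
  have s1 := s (Sum.inr 0) (Sum.inl 0)
  have s2 := s (Sum.inr 1) (Sum.inl 1)
  simp [Matrix.mul_apply, Fintype.sum_sum_type, Fin.sum_univ_two, J, z e1, z e2, z e3, z e4,
    z e5.symm, z e6.symm, z e7.symm, z e8.symm] at s1 s2
  refine ⟨⟨!![g.1 (.inl 0) (.inl 0), g.1 (.inl 0) (.inr 0); g.1 (.inr 0) (.inl 0),
    g.1 (.inr 0) (.inr 0)], ?_⟩, ⟨!![g.1 (.inl 1) (.inl 1), g.1 (.inl 1) (.inr 1);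
    g.1 (.inr 1) (.inl 1), g.1 (.inr 1) (.inr 1)], ?_⟩, Subtype.ext ?_⟩
  · rw [det_fin_two_of]; linear_combination s1
  · rw [det_fin_two_of]; linear_combination s2
  · refine Eq.trans ?_ (be_val _ _).symm
    ext (i | i) (j | j) <;> fin_cases i <;> fin_cases j <;>
      simp [z e1, z e2, z e3, z e4, z e5.symm, z e6.symm, z e7.symm, z e8.symm]

theorem be_diag_isT {w i j : SL(2, F)} (h : w.1 + w.1 = (1 + i.1) * (1 + j.1)) :
    IsT (be F (w, w)) (be F (i, i)) (be F (j, j)) := by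
  let D : Matrix (Fin 2) (Fin 2) F →+* Matrix (Fin 2 ⊕ Fin 2) (Fin 2 ⊕ Fin 2) F :=
    ((reindexAlgEquiv F F (H85.twoProd (Fin 2))).toRingEquiv.toRingHom.comp
      (blockDiagonalRingHom (Fin 2) (Fin 2) F)).comp (Pi.constRingHom _ _)
  have hD : ∀ a : SL(2, F), (be F (a, a)).1 = D a.1 := fun a => by
    ext (i | i) (j | j) <;> fin_cases i <;> fin_cases j <;> rfl
  rw [IsT, hD, hD, hD, ← map_add, h, map_mul, map_add, map_add, map_one]

theorem exists_w (h2 : (2 : F) ≠ 0) {i j : SL(2, F)} (hi : i * i = -1) (hj : j * j = -1) :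
    ∃ w : SL(2, F), w.1 + w.1 = (1 + i.1) * (1 + j.1) := by
  have d : ∀ {i : SL(2, F)}, i * i = -1 → (1 + i.1).det = 2 := fun {i} hi => by
    have t := (mul_self_eq_neg_one_iff i h2).1 hi
    have := sl2_det i
    rw [tr2] at t
    rw [det_fin_two]
    simp
    linear_combination t + this
  refine ⟨⟨(2 : F)⁻¹ • ((1 + i.1) * (1 + j.1)), ?_⟩, ?_⟩
  · rw [det_smul, det_mul, d hi, d hj, Fintype.card_fin]; field_simp
  · show _ • _ + _ • _ = _
    rw [← add_smul, show (2 : F)⁻¹ + 2⁻¹ = 1 by field_simp; norm_num, one_smul]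

theorem ws [Fintype F] (h2 : (2 : F) ≠ 0) : WS ((pr 2 F).comp (be F)) (pr 2 F (ta F)) := by
  have mul : ∀ a b c d : SL(2, F), be F (a, b) * be F (c, d) = be F (a * c, b * d) :=
    fun _ _ _ _ => (map_mul (be F) _ _).symm
  have φφ : (be F (-1, 1) * ta F).1 * (be F (-1, 1) * ta F).1 = -1 := by
    rw [← be_neg_one, ← Submonoid.coe_mul, mul_assoc, ← mul_assoc (ta F), ta_be, mul_assoc, ta_sq,
      mul_one, mul, mul_one, one_mul]
  have cφ : ∀ a, be F (a, a) * (be F (-1, 1) * ta F) = be F (-1, 1) * ta F * be F (a, a) :=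
    fun a => by
      rw [mul_assoc, ta_be, ← mul_assoc, ← mul_assoc, mul, mul, mul_neg, neg_mul, mul_one, one_mul]
  have dd : ∀ {i : SL(2, F)}, i * i = -1 → (be F (i, i)).1 * (be F (i, i)).1 = -1 :=
    fun {i} hi => by rw [← Submonoid.coe_mul, mul, hi, be_neg_one]
  refine ⟨fun a b e => ?_, pr_eq_one.2 (Or.inr be_neg_one), by rw [← map_mul, ta_sq, map_one],
    fun a b => congrArg (pr 2 F) (ta_be a b), fun a b e => ?_, ?_, fun g e => ?_,
    fun E hE hz ht i j hi hj hij hI hJ => ?_⟩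
  · rcases pr_eq_one.1 e with e | e
    · exact Or.inl (be_inj (Subtype.ext (e.trans (congrArg Subtype.val (map_one (be F))).symm)))
    · exact Or.inr (be_inj (Subtype.ext (e.trans be_neg_one.symm)))
  · rcases pr_eq e with e | e
    · exact be_ne a b (Subtype.ext e)
    · exact be_ne (-a) (-b) (Subtype.ext (by rw [be_neg, e, neg_neg]))
  · have hi : comp2 (0 : F) * comp2 0 = -1 := (mul_self_eq_neg_one_iff _ h2).2 (tr2_comp2 0)
    obtain ⟨t, ht⟩ := exists_isT h2 (dd hi) φφ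
    have e1 : be F (-1, 1) * ta F * be F (-1, 1) = be F (-1, -1) * ta F := by
      rw [mul_assoc, ta_be, ← mul_assoc, mul, mul_one, one_mul]
    refine ⟨pr 2 F t, ?_⟩
    rw [MonoidHom.comp_apply, ← map_inv, ← map_mul, ← map_mul,
      ht.conj h2 (W' := be F (-1, 1) * ta F * be F (-1, 1))
        (W'' := be F (-1, 1) * ta F * be F (-1, 1)) (one_add_anti φφ ?_) ?_, e1, map_mul,
      pr_eq_one.2 (Or.inr be_neg_one), one_mul]
    · rw [← Submonoid.coe_mul, ← Submonoid.coe_mul, e1, ← mul_assoc, mul, Submonoid.coe_mul,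
        Submonoid.coe_mul, be_neg_one, neg_mul_neg, mul_one,
        show ((1, 1) : SL(2, F) × SL(2, F)) = 1 from rfl, map_one]
      simp
    · rw [e1, Submonoid.coe_mul, be_neg_one, add_mul, mul_add, one_mul, mul_one, neg_one_mul,
        mul_neg, neg_mul, ← Submonoid.coe_mul, ← Submonoid.coe_mul, ta_be]
  · obtain ⟨g, rfl⟩ := QuotientGroup.mk'_surjective _ g
    rcases pr_eq (show pr 2 F (g * be F (-1, 1)) = pr 2 F (be F (-1, 1) * g) from e) with e | e
    · obtain ⟨a, b, rfl⟩ := be_cent h2 (Subtype.ext e)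
      exact ⟨a, b, Or.inl rfl⟩
    · obtain ⟨a, b, e⟩ := be_cent h2 (g := g * ta F) (Subtype.ext (by
        rw [mul_assoc, ta_be, ← mul_assoc, ← mul_assoc]
        show g.1 * (be F (1, -1)).1 * (ta F).1 = (be F (-1, 1) * g).1 * (ta F).1
        rw [← neg_neg (be F (-1, 1) * g).1, ← e, Submonoid.coe_mul, ← mul_neg, ← be_neg,
          neg_neg]))
      refine ⟨a, b, Or.inr ?_⟩
      rw [MonoidHom.comp_apply, ← map_mul, ← e, mul_assoc, ta_sq, mul_one]
  · obtain ⟨w, hw⟩ := exists_w h2 hi hj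
    have hi' : i.1 * i.1 = -1 := congrArg Subtype.val hi
    have hj' : j.1 * j.1 = -1 := congrArg Subtype.val hj
    have hij' : j.1 * i.1 = -(i.1 * j.1) := congrArg Subtype.val hij
    have r1 : ∀ M, i.1 * (i.1 * M) = -M := fun M => by rw [← mul_assoc, hi', neg_one_mul]
    have r3 : ∀ M, j.1 * (i.1 * M) = -(i.1 * (j.1 * M)) := fun M => by
      rw [← mul_assoc, hij', neg_mul, mul_assoc]
    have hφ : pr 2 F (be F (-1, 1) * ta F) ∈ E := mul_mem hz ht
    have φi : (be F (-1, 1) * ta F)⁻¹.1 = -(be F (-1, 1) * ta F).1 := by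
      have : (be F (-1, 1) * ta F).1 * (be F (-1, 1) * ta F)⁻¹.1 = 1 :=
        congrArg Subtype.val (mul_inv_cancel (be F (-1, 1) * ta F))
      rw [← neg_neg (be F (-1, 1) * ta F)⁻¹.1, ← neg_one_mul (be F (-1, 1) * ta F)⁻¹.1, ← φφ,
        mul_assoc, this, mul_one]
    have φφ' : (be F (-1, 1) * ta F)⁻¹.1 * (be F (-1, 1) * ta F)⁻¹.1 = -1 := by
      rw [φi, neg_mul_neg, φφ]
    obtain ⟨A, hA⟩ := exists_isT h2 (dd hi) φφ
    obtain ⟨B, hB⟩ := exists_isT h2 φφ' (dd hj)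
    have e : be F (w, w) = A * B := Subtype.ext (add_self_inj h2 (add_self_inj h2 (by
      show _ = A.1 * B.1 + A.1 * B.1 + (A.1 * B.1 + A.1 * B.1)
      rw [be_diag_isT hw, ← add_mul A.1, hA, ← mul_add _ B.1, hB, φi, mul_assoc,
        ← mul_assoc (1 + (be F (-1, 1) * ta F).1),
        show (1 + (be F (-1, 1) * ta F).1) * (1 + -(be F (-1, 1) * ta F).1) = 1 + 1 by
          rw [add_mul, mul_add, mul_add, mul_neg, mul_neg, φφ]; noncomm_ring, add_mul 1 1, one_mul,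
        ← mul_add])))
    refine ⟨w, Subtype.ext (add_self_inj h2 ?_), Subtype.ext (add_self_inj h2 ?_), ?_⟩
    · show w.1 * i.1 + w.1 * i.1 = j.1 * w.1 + j.1 * w.1
      rw [← add_mul, ← mul_add, hw]
      simp only [mul_add, add_mul, mul_assoc, r1, r3, hi', hj', hij', mul_neg, neg_neg,
        one_mul, mul_one]
      abel
    · show w.1 * j.1 + w.1 * j.1 = i.1 * j.1 * w.1 + i.1 * j.1 * w.1
      rw [← add_mul, ← mul_add, hw]
      simp only [mul_add, add_mul, mul_assoc, r1, r3, hi', hj', hij', mul_neg, neg_neg,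
        one_mul, mul_one]
      abel
    · rw [MonoidHom.comp_apply, e, map_mul]
      exact mul_mem (hA.mem_pGenN h2 (dd hi) φφ (cφ i) hE hI hφ)
        (hB.mem_pGenN h2 φφ' (dd hj) (Commute.inv_left (cφ j).symm) hE
          (by rw [map_inv]; exact inv_mem hφ) hJ)

theorem simple_psp4 [Fintype F] (hodd : Odd (Fintype.card F)) (h2 : (2 : F) ≠ 0)
    (S : Sylow 2 (PSp 2 F)) : (groupFusionSystem (S : Subgroup (PSp 2 F))).IsSimple 2 := by
  classical
  have h1 := Fintype.one_lt_card (α := F)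
  obtain ⟨Q⟩ : Nonempty (Sylow 2 SL(2, F)) := inferInstance
  obtain ⟨x, y, q⟩ := exists_qd hodd h2 Q
  have hT : IsPGroup 2 (⊤ : Subgroup (Equiv.Perm (Fin 2))) :=
    IsPGroup.of_card (n := 1) (by simp [Fintype.card_perm])
  obtain ⟨P, hP⟩ := H85.exists_sylow_eq ((H85.spWD (Fin 2) F).isPGroup_W Q.isPGroup' hT) (by
    rw [H85.WD.card_W, H85.card_sylow_sl2 hodd, S0245.result rfl,
      Nat.factorization_def _ Nat.prime_two, padicValNat.mul (by positivity)
        (Finset.prod_ne_zero_iff.2 fun i _ => H85.pow_sub_one_ne_zero h1 (by omega)),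
      H85.val2_eq_zero hodd.pow, H85.val2_prod_even h1 hodd, Fintype.card_fin, ← pow_mul,
      zero_add, mul_comm, pow_add]
    simp [Fintype.card_perm])
  refine H62.simple_of_quot (MonoidHom.id _) Function.surjective_id
    (P.mapSurjective (QuotientGroup.mk'_surjective _)) (by simp) ((ws h2).simple q _ fun g => ?_) S
  rw [Sylow.coe_mapSurjective, hP, mem_map]
  constructor
  · rintro ⟨_, hg, rfl⟩
    obtain ⟨f, hf, t, -, rfl⟩ := (H85.spWD (Fin 2) F).mem_W.1 hg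
    have e : (H85.spWD (Fin 2) F).β f = be F (f 0, f 1) :=
      congrArg (H85.spWD (Fin 2) F).β (by funext k; fin_cases k <;> rfl)
    refine ⟨f 0, hf 0, f 1, hf 1, ?_⟩
    rcases (by decide : ∀ t : Equiv.Perm (Fin 2), t = 1 ∨ t = Equiv.swap 0 1) t with rfl | rfl
    · exact Or.inl (by rw [map_one, mul_one, e]; rfl)
    · exact Or.inr (by rw [e]; rfl)
  · have m : ∀ {a b}, a ∈ (Q : Subgroup SL(2, F)) → b ∈ (Q : Subgroup SL(2, F)) →
        be F (a, b) ∈ (H85.spWD (Fin 2) F).W Q ⊤ := fun ha hb =>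
      (H85.spWD (Fin 2) F).β_mem_W ⊤ fun k => by fin_cases k <;> assumption
    rintro ⟨a, ha, b, hb, rfl | rfl⟩
    · exact ⟨_, m ha hb, rfl⟩
    · exact ⟨_, mul_mem (m ha hb) ((H85.spWD (Fin 2) F).σ_mem_W _ (mem_top _)), rfl⟩

end Cfsg.Agent.H91.Sp4
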