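import Cfsg.Agent.H91.SuzT
import Cfsg.Agent.H14.Mathieu

/-! An elementary abelian subgroup of order 243 of the Suzuki group: kernel checks (generated). -/

set_option autoImplicit false
set_option maxRecDepth 100000
set_option exponentiation.threshold 400000

namespace Cfsg.Agent.H91.SuzAD

open H14 H55 H58 H58.SuzP H7 H7.SuzD H91.Tab H91.SuzT

/-- the generators -/
def AL : List ℕ := [8, 13, 14, 15, 16]
/-- words for the eleven subgroups -/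
def yw : Fin 11 → List ℕ := ![[8], [13], [14], [15], [8, 13, 14, 15], [16], [8, 8, 13, 13, 14, 16], [8, 8, 13, 15, 16], [8, 13, 13, 14, 14, 15, 16], [8, 14, 15, 15, 16], [13, 14, 14, 15, 15, 16]]
/-- their fixed points -/
def yp : Fin 11 → ℕ := ![0, 51, 97, 84, 62, 26, 43, 14, 24, 28, 34]
/-- their labels -/
def lab : Fin 11 → ℕ := ![4, 3, 1, 12, 2, 8, 18, 6, 16, 13, 9]
def p18 : Fin 11 → Fin 11 := ![2, 0, 6, 9, 7, 4, 10, 8, 3, 1, 5]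
def p19 : Fin 11 → Fin 11 := ![1, 2, 4, 5, 8, 0, 3, 6, 9, 10, 7]
def s18 : Fin 11 → Bool := ![false, false, false, false, true, true, false, false, false, false, false]
def s19 : Fin 11 → Bool := ![true, true, true, true, true, false, true, true, true, false, false]
def w18 : List ℕ := [5, 4, 2, 3, 7, 2, 1, 2, 7, 3, 2, 2, 3, 6, 2, 1, 2, 6, 3, 2, 2, 3, 4, 3, 4, 2, 3, 4, 3, 4, 2, 3, 4, 3, 4, 2, 3, 4, 3, 4, 2, 3, 4, 3, 4, 5, 4, 2, 3, 4, 3, 4, 2, 3, 4, 3, 4, 2, 3, 4, 3, 4, 2, 3, 4, 3, 4, 2, 3, 4, 3, 4, 5, 2, 3, 7, 2, 1, 2, 7, 3, 2, 4, 3, 4, 5, 4, 2, 3, 7, 2, 1, 2, 7, 3, 2, 2, 3, 6, 2, 1, 2, 6, 3, 2, 2, 3, 4, 3, 4, 2, 3, 4, 3, 4, 2, 3, 4, 3, 4, 2, 3, 4, 3, 4, 2, 3, 4, 3, 4, 5, 4, 2, 3, 4, 3, 4, 2, 3, 4, 3, 4, 2, 3, 4, 3, 4, 2, 3, 4, 3, 4, 2, 3, 4, 3, 4, 5, 2, 3, 7, 2, 1, 2, 7, 3, 2, 4, 3, 4, 6, 2, 7, 4, 2, 1, 2, 6, 2, 7, 4, 2, 1, 2]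
def w19 : List ℕ := [5, 4, 2, 3, 7, 2, 1, 2, 7, 3, 2, 2, 3, 6, 2, 1, 2, 6, 3, 2, 2, 3, 4, 3, 4, 2, 3, 4, 3, 4, 2, 3, 4, 3, 4, 2, 3, 4, 3, 4, 2, 3, 4, 3, 4, 5, 4, 2, 3, 4, 3, 4, 2, 3, 4, 3, 4, 2, 3, 4, 3, 4, 2, 3, 4, 3, 4, 2, 3, 4, 3, 4, 5, 2, 3, 7, 2, 1, 2, 7, 3, 2, 4, 3, 4, 6, 2, 7, 4, 2, 1, 2, 6, 2, 7, 4, 2, 1, 2, 6, 2, 7, 4, 2, 1, 2]
def w81 : List (List ℕ) := [[], [13], [13, 13], [14], [13, 14], [13, 13, 14], [14, 14], [13, 14, 14], [13, 13, 14, 14], [15], [13, 15], [13, 13, 15], [14, 15], [13, 14, 15], [13, 13, 14, 15], [14, 14, 15], [13, 14, 14, 15], [13, 13, 14, 14, 15], [15, 15], [13, 15, 15], [13, 13, 15, 15], [14, 15, 15], [13, 14, 15, 15], [13, 13, 14, 15, 15], [14, 14, 15, 15], [13, 14, 14, 15, 15], [13, 13, 14, 14, 15, 15], [16], [13, 16], [13, 13, 16], [14, 16], [13, 14, 16], [13, 13, 14, 16], [14, 14, 16], [13, 14, 14, 16], [13,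 13, 14, 14, 16], [15, 16], [13, 15, 16], [13, 13, 15, 16], [14, 15, 16], [13, 14, 15, 16], [13, 13, 14, 15, 16], [14, 14, 15, 16], [13, 14, 14, 15, 16], [13, 13, 14, 14, 15, 16], [15, 15, 16], [13, 15, 15, 16], [13, 13, 15, 15, 16], [14, 15, 15, 16], [13, 14, 15, 15, 16], [13, 13, 14, 15, 15, 16], [14, 14, 15, 15, 16], [13, 14, 14, 15, 15, 16], [13, 13, 14, 14, 15, 15, 16], [16, 16], [13, 16, 16], [13, 13, 16, 16], [14, 16, 16], [13, 14, 16, 16], [13, 13, 14, 16, 16], [14, 14, 16, 16], [13, 14, 14, 16, 16], [13, 13, 14, 14, 16, 16], [15, 16, 16], [13, 15, 16, 16], [13, 13, 15, 16, 16], [14, 15, 16, 16], [13, 14, 15, 16, 16], [13, 13, 14, 15, 16, 16], [14, 14, 15, 16, 16], [13, 14, 14, 15, 16, 16], [13, 13, 14, 14, 15, 16, 16], [15, 15, 16, 16], [13, 15, 15, 16, 16], [13, 13, 15, 15, 16, 16], [14, 15, 15, 16, 16], [13, 14, 15, 15, 16, 16], [13,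 13, 14, 15, 15, 16, 16], [14, 14, 15, 15, 16, 16], [13, 14, 14, 15, 15, 16, 16], [13, 13, 14, 14, 15, 15, 16, 16]]

theorem cube : ∀ x ∈ AL, eqW 11 2047 Ts B 20 [x, x, x] [] = true := by decide +kernel
theorem comm : ∀ x ∈ AL, ∀ y ∈ AL, eqW 11 2047 Ts B 20 [x, y] [y, x] = true := by decide +kernel
theorem ywA : ∀ i, ∀ x ∈ yw i, x ∈ AL := by decide +kernel
theorem w81A : ∀ w ∈ w81, ltAll 20 w = true ∧ ∀ x ∈ w, x ∈ AL := by decide +kernel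
theorem ALy : ∀ x ∈ AL, ∃ i, yw i = [x] := by decide +kernel
theorem c18 : ∀ i, eqW 11 2047 Ts B 20 ([18] ++ yw i) ((if s18 i then yw (p18 i) ++ yw (p18 i) else yw (p18 i)) ++ [18]) = true := by
  decide +kernel
theorem c19 : ∀ i, eqW 11 2047 Ts B 20 ([19] ++ yw i) ((if s19 i then yw (p19 i) ++ yw (p19 i) else yw (p19 i)) ++ [19]) = true := by
  decide +kernel
theorem fx : ∀ i j, ltAll 20 (yw i) = true ∧ yp j < 1782 ∧ (run 11 2047 Ts (yw i) (yp j) = yp j ↔ i = j) := by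
  decide +kernel
theorem m81 : many 11 81 (w81.map fun w => run 11 2047 Ts w 0) = true := by decide +kernel
theorem e18 : ltAll 8 w18 = true ∧ eqW 11 2047 Ts B 20 [18] w18 = true := by decide +kernel
theorem e19 : ltAll 8 w19 = true ∧ eqW 11 2047 Ts B 20 [19] w19 = true := by decide +kernel
theorem tr : bfs SuzM.nets [w18, w19] [1, 0, 1, 1, 0, 1, 0, 1, 1, 0, 1, 1, 0, 1, 1, 0, 1, 1, 1, 1, 1] (Nat.pow 2 0) = full := by
  decide +kernel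
theorem l18 : ∀ i, app 5 32 (nth m11Gens 0) (lab i) = lab (p18 i) := by decide +kernel
theorem l19 : ∀ i, app 5 32 (nth m11Gens 1) (lab i) = lab (p19 i) := by decide +kernel

end Cfsg.Agent.H91.SuzAD
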