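import Cfsg.Agent.H91.SuzN
import Cfsg.Agent.H97.OC
import Cfsg.Agent.H29.Transport
import Cfsg.Agent.CO1.SuzHom
import Cfsg.Agent.CO1.SuzTop

/-! Groups of Suzuki type: the subgroups of order three with a quaternion commutator group are conjugate. -/

set_option autoImplicit false
set_option maxRecDepth 100000
set_option exponentiation.threshold 400000

namespace Cfsg.Agent.H91

open Subgroup QuadraticMap H11 H15 H97 CO1 Module

/-- the vectors moved by an element of order three -/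
def t6 (i : ℕ) : (Fin 2 ⊕ Fin 2) ⊕ Fin 2 → ZMod 2 :=
  Sum.elim (fun _ => 0) fun a => if ([1, 2, 3].getD (i % 3) 0).testBit a then 1 else 0

/-- the embedding of the fixed space -/
def j6 : (Fin 2 ⊕ Fin 2 → ZMod 2) →ₗ[ZMod 2] (Fin 2 ⊕ Fin 2) ⊕ Fin 2 → ZMod 2 :=
  lm fun i k => if k = .inl i then 1 else 0

/-- coordinates on the fixed space -/
def p6 : ((Fin 2 ⊕ Fin 2) ⊕ Fin 2 → ZMod 2) →ₗ[ZMod 2] Fin 2 ⊕ Fin 2 → ZMod 2 :=
  LinearMap.funLeft _ _ Sum.inl

set_option synthInstance.maxSize 2000 in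
theorem sd6 : SD (qMinus 2 (1 : ZMod 2) 1) (qPlus (ZMod 2) 2) 3 1 t6 j6 p6 := by
  refine sd_of (Or.inl ⟨rfl, rfl⟩) (fun i => by rw [t6, Nat.mod_mod, t6]) (nd_qPlus _ 2) ?_ ?_ ?_ <;>
    simp only [polar, qPlus_apply, qMinus_apply, Fin.sum_univ_two] <;>
    decide +kernel

theorem q6 : ∃ a, qPlus (ZMod 2) 2 a = 1 := ⟨Sum.elim ![1, 0] ![1, 0], by simp [qPlus_apply]⟩

section
variable {X G : Type*} [Group X] [Group G]

theorem map_Oz [Finite X] (ψ : X ≃* G) {a q : X} (h : LX (Oz a) a) (hq : q ∈ Oz a) : ψ q ∈ Oz (ψ a) := by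
  refine ⟨⟨ψ q, mem_Cz.2 (by rw [← map_mul, h.cen q hq, map_mul])⟩,
    (le_sSup (a := ((Oz a).map ψ.toMonoidHom).subgroupOf (Cz (ψ a))) ⟨⟨?_⟩,
      ((H8.lx_isPGroup (ex_of_lx h)).map _).comap_subtype⟩ : _ ≤ pCore 2 (Cz (ψ a))) ⟨q, hq, rfl⟩, rfl⟩
  rintro b ⟨c, hc, e⟩ k
  refine ⟨_, h.norm (ψ.symm k) (ψ.injective ?_) c hc, ?_⟩
  · simpa using mem_Cz.1 k.2
  · have e' : ψ c = b := e
    simp [e']

/-- a homomorphism of the centraliser or normaliser is carried along an isomorphism -/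
theorem hom_map {S : Type*} [Group S] (ψ : X ≃* G) {A N : Subgroup X} {N' : Subgroup G}
    (hN : N.map ψ.toMonoidHom = N') (h : ∃ φ : N →* S, Function.Surjective φ ∧ φ.ker = A.subgroupOf N)
    [((A.map ψ.toMonoidHom).subgroupOf N').Normal] :
    Nonempty (N' ⧸ (A.map ψ.toMonoidHom).subgroupOf N' ≃* S) := by
  subst hN
  obtain ⟨φ, h1, h2⟩ := h
  let ε : ↥(N.map ψ.toMonoidHom) ≃* N := (ψ.subgroupMap N).symm
  refine ⟨(QuotientGroup.quotientMulEquivOfEq (Subgroup.ext fun g => ?_)).trans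
    (QuotientGroup.quotientKerEquivOfSurjective (φ.comp ε.toMonoidHom) (h1.comp ε.surjective))⟩
  obtain ⟨g, rfl⟩ := ε.symm.surjective g
  rw [← MonoidHom.comap_ker, h2, mem_comap, mem_subgroupOf, mem_subgroupOf,
    show ε.toMonoidHom (ε.symm g) = g from ε.apply_symm_apply g]
  exact mem_map_iff_mem ψ.injective

theorem qs_of_equiv (e : X ≃* G) (h : IsQuasisimple X) : IsQuasisimple G := by
  have := h.1
  have := h.2
  exact ⟨Group.IsPerfect.ofSurjective (f := e.toMonoidHom) e.surjective,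
    (H29.centerQuotEquiv e.symm).isSimpleGroup⟩

end

namespace SuzY

open H14 H55 H58 H58.SuzP H7 H7.SuzD H7.SuzC CO1.Suz SuzN

/-- four words -/
def ws : Fin 4 → List ℕ := ![[3], [4, 3, 4], [3] ++ [4, 3, 4] ++ [6], [3] ++ [4, 3, 4] ++ [7]]

theorem ws_ne : ∀ i k, i ≠ k → Nat.beq (appW SuzM.nets (ws i ++ ws k) (Nat.pow 2 2))
    (appW SuzM.nets (ws k ++ ws i) (Nat.pow 2 2)) = false := by decide +kernel

theorem ws_mem {H : Subgroup Spor.Suz} (h1 : el 3 ∈ H) (h2 : el 4 * el 3 * el 4 ∈ H) (h3 : el 6 ∈ H)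
    (h4 : el 7 ∈ H) (i : Fin 4) : wv el (ws i) ∈ H := by
  have h5 : wv el [4, 3, 4] ∈ H := by simpa [wv, mul_assoc] using h2
  rw [← wv1] at h1 h3 h4
  fin_cases i
  exacts [h1, h5, mul_mem (mul_mem h1 h5) h3 |> fun h => by rwa [← H7.wv_append, ← H7.wv_append] at h,
    mul_mem (mul_mem h1 h5) h4 |> fun h => by rwa [← H7.wv_append, ← H7.wv_append] at h]

theorem dcd_Q : el 4 * el 3 * el 4 ∈ Q := by
  simpa [wv, mul_assoc] using memQ (w := [4, 3, 4]) (by decide)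

theorem exists_equiv {G : Type*} [Group G] [Finite G] {z : G} {P : Subgroup (centralizer ({z} : Set G))}
    [P.Normal] (hs : IsExtraspecialCentralizerSetting z P 3)
    (ε : centralizer ({z} : Set G) ⧸ P ≃* Omega (ZMod 2) (quadFormMinus 2 (ZMod 2) 1 1))
    {W : Subgroup (centralizer ({z} : Set G))} (hW : Nat.card W = 3) (h8 : Nat.card ↥⁅P, W⁆ = 8)
    (hn : ¬ IsMulCommutative ↥⁅P, W⁆) :
    ∃ ψ : Spor.Suz ≃* G, W.map (centralizer ({z} : Set G)).subtype = Y.map ψ.toMonoidHom := by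
  have hT : SuzT G z := ⟨P, ‹_›, hs, ⟨ε⟩⟩
  obtain ⟨ψ, h1, h2, h3, h4⟩ := exists_hom hT
  let φ := MulEquiv.ofBijective ψ ⟨h1, MonoidHom.range_eq_top.1 (range_eq_top ψ h1 (h2 ▸ h3) h4)⟩
  have hz : φ (el 1) = z := h2
  obtain ⟨π, ρ, h⟩ := hT.co
  have : Fact (Nat.Prime 3) := ⟨Nat.prime_three⟩
  obtain ⟨y, hy, y1⟩ : ∃ y ∈ W, y ≠ 1 := by
    by_contra hc
    push Not at hc
    rw [(eq_bot_iff_forall _).2 hc] at hW
    simp at hW
  have y3 : y ^ 3 = 1 := by
    have := pow_card_eq_one' (x := (⟨y, hy⟩ : W))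
    rw [hW] at this
    exact congrArg Subtype.val this
  have hWy : zpowers y = W := eq_of_le_of_card_ge (zpowers_le.2 hy)
    (by rw [hW, Nat.card_zpowers, orderOf_eq_prime y3 y1])
  have hO := Oz_eq hs
  have hM : (⁅P, W⁆.map (Cz z).subtype : Subgroup G) ≤ Oz z := hO ▸ map_mono (commutator_le_left _ _)
  have hzM : z ∈ (⁅P, W⁆.map (Cz z).subtype : Subgroup G) := by
    by_contra hc
    refine hn ⟨⟨fun a b => Subtype.ext (Subtype.ext ?_)⟩⟩
    have ha := mem_map_of_mem (Cz z).subtype a.2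
    have hb := mem_map_of_mem (Cz z).subtype b.2
    rcases h.lx.comm _ (hM ha) _ (hM hb) with e | e
    · exact mul_inv_eq_iff_eq_mul.1 e
    · have := mul_mem (mul_mem (mul_mem ha hb) (inv_mem ha)) (inv_mem hb)
      rw [e, mul_inv_cancel_right] at this
      exact absurd this hc
  have r1 := co_mv_comm h.toCo0 y.2 hM hzM (n := 2) (fun a ha => by
    obtain ⟨b, hb, rfl⟩ := hO ▸ ha
    exact mem_map_of_mem (Cz z).subtype
      (Subgroup.commutator_comm W P ▸ commutator_mem_commutator hy hb))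
    (by rw [card_map_of_injective (Cz z).subtype_injective, h8]; rfl)
  have hC : ∀ g ∈ CY, φ g ∈ Cz (φ x0) := fun g hg => mem_Cz.2 (by
    rw [← map_mul, ← hg x0 (mem_zpowers _), map_mul])
  have hx : φ x0 ∈ Cz z := Cz_symm (hz ▸ hC _ (L_C (by decide)))
  have r2 := co_mv_gram h.toCo0 hx (n := 4) (by decide) (q := fun i => φ (wv el (ws i)))
    (fun i => hz ▸ map_Oz φ suzT.lx (type_Q.2 (ws_mem c_Q dcd_Q f_Q g_Q i)))
    (fun i => hC _ (ws_mem (L_C (by decide)) dcd_C (L_C (by decide)) (L_C (by decide)) i))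
    fun i k hik e => wv_ne M (ws_ne i k hik) (φ.injective (by
      show φ (wv el _) = φ (wv el _)
      rw [H7.wv_append, H7.wv_append, map_mul, map_mul]; exact mem_Cz.1 e))
  rw [show finrank (ZMod 2) ((Fin 2 ⊕ Fin 2) ⊕ Fin 2 → ZMod 2) = 6 by simp] at r2
  obtain ⟨d, -, hd⟩ := co_conj h gd6 sd6 q6 hx (by rw [← map_pow, x0_pow3, map_one])
    (fun e => x0_ne (φ.injective (e.trans (map_one φ).symm))) (by omega) y.2
    (congrArg Subtype.val y3) (fun e => y1 (Subtype.ext e)) (by omega)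
  exact ⟨φ.trans (MulAut.conj d), by
    rw [← hWy, MonoidHom.map_zpowers, MonoidHom.map_zpowers]; exact congrArg _ hd.symm⟩

end SuzY

end Cfsg.Agent.H91
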